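import Mathlib
import Cfsg.Agent.PLocal.Huppert

/-!
# `p`-central groups, `p` odd

`PC p C` : every element of order dividing `p` of `C` is central.
* `comm_pow` : if `d ^ (p ^ 2) = 1` then all commutators `[d, g]` have order dividing `p` (Buckley);
* `mul_pow_left`, `mul_pow_right` : `(a * b) ^ p = a ^ p * b ^ p` if `a ^ (p ^ 2) = 1` or `b ^ (p ^ 2) = 1`;
* `index_le` : `|C : T| ≤ |Ω₁(C)|` for every normal subgroup `T` with `C / T` of exponent `p` (Laffey);
* `isMetacyclic` : a `p`-central `p`-group with `|Ω₁(C)| ≤ p ^ 2` is metacyclic.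
-/

set_option autoImplicit false

namespace Cfsg.Agent.H472.PCentral

universe u

variable {p : ℕ} [hpf : Fact p.Prime]

/-- Every element of order dividing `p` is central. -/
def PC (p : ℕ) (C : Type*) [Group C] : Prop := ∀ c : C, c ^ p = 1 → ∀ g : C, c * g = g * c

theorem pow_mul_of_central (hp : p ≠ 2) {C : Type*} [Group C] {x y c : C}
    (hc : ∀ g, c * g = g * c) (h : y * x = x * y * c) (hcp : c ^ p = 1) :
    (x * y) ^ p = x ^ p * y ^ p := by
  rw [Cfsg.Agent.PLocal.Huppert.mul_pow_central hc h p]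
  have hpp : p.Prime := hpf.out
  have hp2 : 2 < p := lt_of_le_of_ne hpp.two_le (Ne.symm hp)
  obtain ⟨m, hm⟩ := hpp.dvd_choose_self (k := 2) (by norm_num) hp2
  rw [hm, pow_mul, hcp, one_pow, mul_one]

section

variable {C : Type u} [Group C] [Finite C]

theorem comm_pow_aux (hp : p ≠ 2) (hC : IsPGroup p C) (h : PC p C) (n : ℕ) :
    ∀ H : Subgroup C, Nat.card H = n → ∀ d ∈ H, d ^ (p ^ 2) = 1 → ∀ g ∈ H,
      (d⁻¹ * g⁻¹ * d * g) ^ p = 1 := by
  induction n using Nat.strong_induction_on with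
  | _ n ih =>
    intro H hH d hd hd2 g hg
    have hdp : (d ^ p) ^ p = 1 := by rw [← pow_mul, ← sq]; exact hd2
    by_cases htop : (Subgroup.zpowers (⟨d, hd⟩ : ↥H)) = ⊤
    · -- `H` is cyclic
      have : (⟨g, hg⟩ : ↥H) ∈ Subgroup.zpowers (⟨d, hd⟩ : ↥H) := htop ▸ Subgroup.mem_top _
      obtain ⟨i, hi⟩ := this
      have hi' : d ^ i = g := congrArg Subtype.val hi
      have : d⁻¹ * g⁻¹ * d * g = 1 := by rw [← hi']; group
      rw [this, one_pow]
    · have hHp : IsPGroup p ↥H := hC.to_subgroup H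
      have hHn : Group.IsNilpotent ↥H := hHp.isNilpotent
      obtain ⟨M, hM, hdM⟩ := (eq_top_or_exists_le_coatom (Subgroup.zpowers (⟨d, hd⟩ : ↥H))).resolve_left htop
      have hMn : M.Normal := Subgroup.NormalizerCondition.normal_of_coatom M
        (Group.normalizerCondition_of_isNilpotent) hM
      have hdM' : (⟨d, hd⟩ : ↥H) ∈ M := hdM (Subgroup.mem_zpowers _)
      have hcard : Nat.card (M.map H.subtype) < n := by
        rw [← hH, Subgroup.card_map_of_injective H.subtype_injective]
        have h1 := M.card_mul_index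
        have h2 : M.index ≠ 1 := by
          rw [Ne, Subgroup.index_eq_one]; exact hM.1
        have h3 : M.index ≠ 0 := Subgroup.index_ne_zero_of_finite
        have h4 : 0 < Nat.card M := Nat.card_pos
        rw [← h1]
        have h5 : 1 < M.index := by omega
        nlinarith
      have hb : g⁻¹ * d * g ∈ M.map H.subtype := by
        refine ⟨⟨g, hg⟩⁻¹ * ⟨d, hd⟩ * ⟨g, hg⟩, ?_, by simp⟩
        simpa using hMn.conj_mem _ hdM' (⟨g, hg⟩⁻¹)
      have ha : d⁻¹ ∈ M.map H.subtype := Subgroup.inv_mem _ ⟨_, hdM', rfl⟩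
      have hb2 : (g⁻¹ * d * g) ^ (p ^ 2) = 1 := by
        have := conj_pow (a := g⁻¹) (b := d) (i := p ^ 2)
        rw [inv_inv] at this
        rw [this, hd2]; group
      have hz := ih _ hcard (M.map H.subtype) rfl _ hb hb2 _ ha
      have hbp : (g⁻¹ * d * g) ^ p = d ^ p := by
        have := conj_pow (a := g⁻¹) (b := d) (i := p)
        rw [inv_inv] at this
        rw [this, mul_assoc, h _ hdp g]; group
      have key := pow_mul_of_central hp (x := d⁻¹) (y := g⁻¹ * d * g)
        (c := (g⁻¹ * d * g)⁻¹ * (d⁻¹)⁻¹ * (g⁻¹ * d * g) * d⁻¹) (h _ hz) (by group) hz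
      have h6 : d⁻¹ * g⁻¹ * d * g = d⁻¹ * (g⁻¹ * d * g) := by group
      rw [h6, key, hbp, inv_pow]
      group

/-- (Buckley) -/
theorem comm_pow (hp : p ≠ 2) (hC : IsPGroup p C) (h : PC p C) {d : C} (hd : d ^ (p ^ 2) = 1)
    (g : C) : (d⁻¹ * g⁻¹ * d * g) ^ p = 1 :=
  comm_pow_aux hp hC h _ ⊤ rfl d (Subgroup.mem_top _) hd g (Subgroup.mem_top _)

theorem mul_pow_right (hp : p ≠ 2) (hC : IsPGroup p C) (h : PC p C) {a b : C}
    (hb : b ^ (p ^ 2) = 1) : (a * b) ^ p = a ^ p * b ^ p := by
  have hz := comm_pow hp hC h hb a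
  exact pow_mul_of_central hp (c := b⁻¹ * a⁻¹ * b * a) (h _ hz) (by group) hz

theorem mul_pow_left (hp : p ≠ 2) (hC : IsPGroup p C) (h : PC p C) {a b : C}
    (ha : a ^ (p ^ 2) = 1) : (a * b) ^ p = a ^ p * b ^ p := by
  have hz : (b⁻¹ * a⁻¹ * b * a) ^ p = 1 := by
    have h1 := comm_pow hp hC h ha b
    have h2 : b⁻¹ * a⁻¹ * b * a = (a⁻¹ * b⁻¹ * a * b)⁻¹ := by group
    rw [h2, inv_pow, h1, inv_one]
  exact pow_mul_of_central hp (c := b⁻¹ * a⁻¹ * b * a) (h _ hz) (by group) hz

/-- The subgroup of the elements of order dividing `p`. -/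
def om {C : Type*} [Group C] (h : PC p C) : Subgroup C where
  carrier := {c | c ^ p = 1}
  one_mem' := one_pow p
  mul_mem' := by
    intro a b ha hb
    have : Commute a b := h a ha b
    simp only [Set.mem_ofPred_eq] at ha hb ⊢
    rw [this.mul_pow, ha, hb, mul_one]
  inv_mem' := by
    intro a ha
    simp only [Set.mem_ofPred_eq] at ha ⊢
    rw [inv_pow, ha, inv_one]

omit hpf in
theorem mem_om {C : Type*} [Group C] {h : PC p C} {c : C} : c ∈ om h ↔ c ^ p = 1 := Iff.rfl

omit hpf in
theorem om_le_center {C : Type*} [Group C] (h : PC p C) : om h ≤ Subgroup.center C := by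
  intro c hc
  rw [Subgroup.mem_center_iff]
  exact fun g => (h c hc g).symm

omit hpf in
theorem om_normal {C : Type*} [Group C] (h : PC p C) : (om h).Normal :=
  ⟨fun n hn g => by
    have h1 : g * n * g⁻¹ = n := by rw [← h n hn g]; group
    rw [h1]; exact hn⟩

theorem quotient_pc (hp : p ≠ 2) (hC : IsPGroup p C) (h : PC p C) (E : Subgroup C) [E.Normal]
    (hE : E = om h) : PC p (C ⧸ E) := by
  intro x hx g
  obtain ⟨x, rfl⟩ := QuotientGroup.mk_surjective x
  obtain ⟨g, rfl⟩ := QuotientGroup.mk_surjective g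
  have h1 : x ^ p ∈ E := by rwa [← QuotientGroup.mk_pow, QuotientGroup.eq_one_iff] at hx
  rw [hE, mem_om, ← pow_mul, ← sq] at h1
  have h2 := comm_pow hp hC h h1 g
  rw [← QuotientGroup.mk_mul, ← QuotientGroup.mk_mul, eq_comm, QuotientGroup.eq, hE, mem_om]
  have h3 : (g * x)⁻¹ * (x * g) = x⁻¹ * g⁻¹ * x * g := by group
  rw [h3, h2]

theorem index_le_aux (hp : p ≠ 2) (n : ℕ) :
    ∀ (C : Type u) [Group C] [Finite C], Nat.card C = n → IsPGroup p C → ∀ (h : PC p C)
      (T : Subgroup C), T.Normal → (∀ c : C, c ^ p ∈ T) → T.index ≤ Nat.card (om h) := by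
  induction n using Nat.strong_induction_on with
  | _ n ih =>
    intro C _ _ hn hC h T hT hTp
    have hpp : p.Prime := hpf.out
    by_cases htriv : om h = ⊥
    · -- then `C` is trivial
      have : Subsingleton C := by
        by_contra hns
        rw [not_subsingleton_iff_nontrivial] at hns
        obtain ⟨k, hk, hcard⟩ := hC.nontrivial_iff_card.1 hns
        obtain ⟨x, hx⟩ := exists_prime_orderOf_dvd_card' (G := C) p
          (by rw [hcard]; exact dvd_pow_self p hk.ne')
        have hx1 : x ∈ om h := by rw [mem_om, ← hx, pow_orderOf_eq_one]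
        rw [htriv, Subgroup.mem_bot] at hx1
        rw [hx1, orderOf_one] at hx
        exact hpp.one_lt.ne hx
      have h1 : T = ⊤ := Subsingleton.elim _ _
      rw [h1, Subgroup.index_top]
      exact Nat.card_pos
    have hEn : (om h).Normal := om_normal h
    set E : Subgroup C := om h with hE
    have hq : PC p (C ⧸ E) := quotient_pc hp hC h E rfl
    have hlt : Nat.card (C ⧸ E) < n := by
      have h1 := E.card_eq_card_quotient_mul_card_subgroup
      have h2 : Nat.card E ≠ 1 := fun h2 => htriv (Subgroup.eq_bot_of_card_eq _ h2)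
      have h3 : 0 < Nat.card E := Nat.card_pos
      have h4 : 0 < Nat.card (C ⧸ E) := Nat.card_pos
      rw [hn] at h1
      rw [h1]
      have h5 : 1 < Nat.card E := by omega
      nlinarith
    have key := ih _ hlt (C ⧸ E) rfl (hC.to_quotient E) hq (T.map (QuotientGroup.mk' E))
      (hT.map _ (QuotientGroup.mk'_surjective E)) (by
        intro c
        obtain ⟨c, rfl⟩ := QuotientGroup.mk_surjective c
        exact ⟨c ^ p, hTp c, rfl⟩)
    -- the elements of order `p` of the quotient
    have hom : Nat.card (om hq) ≤ Nat.card ↥(T ⊓ E) := by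
      have hlift : ∀ x : om hq, ∃ c : C, (QuotientGroup.mk c : C ⧸ E) = x ∧ c ^ (p ^ 2) = 1 := by
        rintro ⟨x, hx⟩
        obtain ⟨c, rfl⟩ := QuotientGroup.mk_surjective x
        refine ⟨c, rfl, ?_⟩
        rw [mem_om, ← QuotientGroup.mk_pow, QuotientGroup.eq_one_iff, hE, mem_om, ← pow_mul,
          ← sq] at hx
        exact hx
      choose f hf1 hf2 using hlift
      have hfE : ∀ x, f x ^ p ∈ E := fun x => by
        rw [hE, mem_om, ← pow_mul, ← sq]; exact hf2 x
      let F : om hq → ↥(T ⊓ E) := fun x => ⟨f x ^ p, hTp _, hfE x⟩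
      apply Nat.card_le_card_of_injective F
      intro x y hxy
      have h1 : f x ^ p = f y ^ p := congrArg Subtype.val hxy
      apply Subtype.ext
      rw [← hf1 x, ← hf1 y, QuotientGroup.eq, hE, mem_om, mul_pow_right hp hC h (hf2 y), inv_pow, h1]
      group
    -- counting
    have h1 : (T.map (QuotientGroup.mk' E)).index = (T ⊔ E).index := by
      rw [Subgroup.index_map, QuotientGroup.ker_mk', QuotientGroup.range_mk', Subgroup.index_top,
        mul_one]
    have h2 : T.relIndex (T ⊔ E) * (T ⊔ E).index = T.index :=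
      Subgroup.relIndex_mul_index le_sup_left
    have h3 : T.relIndex (T ⊔ E) = T.relIndex E := Subgroup.relIndex_sup_left E T
    have h4 : Nat.card ↥(T ⊓ E) * T.relIndex E = Nat.card E := by
      have h5 := ((T ⊓ E).subgroupOf E).card_mul_index
      rw [← Subgroup.inf_relIndex_right]
      rw [Nat.card_congr (Subgroup.subgroupOfEquivOfLe (inf_le_right : T ⊓ E ≤ E)).toEquiv] at h5
      exact h5
    rw [← h2, h3, ← h4, mul_comm]
    apply Nat.mul_le_mul _ le_rfl
    rw [← h1]
    exact key.trans hom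

/-- (Laffey) -/
theorem index_le (hp : p ≠ 2) (hC : IsPGroup p C) (h : PC p C) (T : Subgroup C) (hT : T.Normal)
    (hTp : ∀ c : C, c ^ p ∈ T) : T.index ≤ Nat.card (om h) :=
  index_le_aux hp _ C rfl hC h T hT hTp

theorem isMetacyclic (hp : p ≠ 2) (hC : IsPGroup p C) (h : PC p C)
    (hle : Nat.card (om h) ≤ p ^ 2) : Cfsg.IsMetacyclic C :=
  Cfsg.Agent.PLocal.Huppert.isMetacyclic_of_quotients hp hC fun T hT hTp =>
    (index_le hp hC h T hT hTp).trans hle

end

end Cfsg.Agent.H472.PCentral
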