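import Mathlib
import Cfsg.Prelude.Def_CaseTheorems
import Cfsg.Agent.H472.PCentral
import Cfsg.Agent.S0112
import Cfsg.Agent.S0126
import Cfsg.Agent.Transfer.TausskyTwoGroup
import Cfsg.Agent.OddOrderLocal.Metacyclic

/-!
# `p`-groups of rank at most two, `p` odd (Blackburn), for S3888

`Setup p G` : the situation in a non-metacyclic `p`-group of rank 2: `E` normal elementary abelian of order
`p ^ 2`, `C = C_G(E)` of index `p`, `Ω₁(C) = E`, `Z = E ∩ Z(G)`, all `p`-th powers lie in `⟨c ^ p : c ∈ C⟩`.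
-/

set_option autoImplicit false

namespace Cfsg.Agent.H472.RankTwo

open Cfsg.Agent.H472.PCentral

universe u

section Formulas

variable {G : Type u} [Group G]

/-- iterated conjugation -/
theorem conj_pow_chain {x a a1 a2 a3 : G} (h0 : x⁻¹ * a * x = a * a1)
    (h1 : x⁻¹ * a1 * x = a1 * a2) (h2 : x⁻¹ * a2 * x = a2 * a3) (h3 : x⁻¹ * a3 * x = a3)
    (c12 : Commute a1 a2) (c23 : Commute a2 a3) (k : ℕ) :
    (x ^ k)⁻¹ * a * x ^ k = a * a1 ^ k * a2 ^ (k.choose 2) * a3 ^ (k.choose 3) := by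
  induction k with
  | zero => simp
  | succ k ih =>
    have e : (x ^ (k + 1))⁻¹ * a * x ^ (k + 1) = x⁻¹ * ((x ^ k)⁻¹ * a * x ^ k) * x := by
      rw [pow_succ]; group
    have hp1 : x⁻¹ * a1 ^ k * x = a1 ^ k * a2 ^ k := by
      have : x⁻¹ * a1 ^ k * x = (x⁻¹ * a1 * x) ^ k := by
        have := conj_pow (a := x⁻¹) (b := a1) (i := k)
        rw [inv_inv] at this; exact this.symm
      rw [this, h1, c12.mul_pow]
    have hp2 : x⁻¹ * a2 ^ (k.choose 2) * x = a2 ^ (k.choose 2) * a3 ^ (k.choose 2) := by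
      have : x⁻¹ * a2 ^ (k.choose 2) * x = (x⁻¹ * a2 * x) ^ (k.choose 2) := by
        have := conj_pow (a := x⁻¹) (b := a2) (i := k.choose 2)
        rw [inv_inv] at this; exact this.symm
      rw [this, h2, c23.mul_pow]
    have hp3 : x⁻¹ * a3 ^ (k.choose 3) * x = a3 ^ (k.choose 3) := by
      have : x⁻¹ * a3 ^ (k.choose 3) * x = (x⁻¹ * a3 * x) ^ (k.choose 3) := by
        have := conj_pow (a := x⁻¹) (b := a3) (i := k.choose 3)
        rw [inv_inv] at this; exact this.symm
      rw [this, h3]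
    have hc2 : (k + 1).choose 2 = k + k.choose 2 := by
      rw [Nat.choose_succ_succ' k 1, Nat.choose_one_right]
    have hc3 : (k + 1).choose 3 = k.choose 2 + k.choose 3 := Nat.choose_succ_succ' k 2
    rw [e, ih]
    calc x⁻¹ * (a * a1 ^ k * a2 ^ (k.choose 2) * a3 ^ (k.choose 3)) * x
        = (x⁻¹ * a * x) * (x⁻¹ * a1 ^ k * x) * (x⁻¹ * a2 ^ (k.choose 2) * x) *
            (x⁻¹ * a3 ^ (k.choose 3) * x) := by group
      _ = (a * a1) * (a1 ^ k * a2 ^ k) * (a2 ^ (k.choose 2) * a3 ^ (k.choose 2)) *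
            a3 ^ (k.choose 3) := by rw [h0, hp1, hp2, hp3]
      _ = a * (a1 * a1 ^ k) * (a2 ^ k * a2 ^ (k.choose 2)) * (a3 ^ (k.choose 2) * a3 ^ (k.choose 3)) := by
            simp only [mul_assoc]
      _ = _ := by rw [← pow_succ', ← pow_add, ← pow_add, hc2, hc3]

/-- powers of a product, commutative case -/
theorem mul_pow_chain {x a a1 a2 : G} (h0 : x⁻¹ * a * x = a * a1)
    (h1 : x⁻¹ * a1 * x = a1 * a2) (h2 : x⁻¹ * a2 * x = a2)
    (c01 : Commute a a1) (c02 : Commute a a2) (c12 : Commute a1 a2) (k : ℕ) :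
    (x * a) ^ k = x ^ k * (a ^ k * a1 ^ (k.choose 2) * a2 ^ (k.choose 3)) := by
  induction k with
  | zero => simp
  | succ k ih =>
    have hp0 : a ^ k * x = x * (a ^ k * a1 ^ k) := by
      have h : (x⁻¹ * a * x) ^ k = x⁻¹ * a ^ k * x := by
        have := conj_pow (a := x⁻¹) (b := a) (i := k)
        rwa [inv_inv] at this
      rw [← c01.mul_pow, ← h0, h]; group
    have hp1 : a1 ^ (k.choose 2) * x = x * (a1 ^ (k.choose 2) * a2 ^ (k.choose 2)) := by
      have h : (x⁻¹ * a1 * x) ^ (k.choose 2) = x⁻¹ * a1 ^ (k.choose 2) * x := by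
        have := conj_pow (a := x⁻¹) (b := a1) (i := k.choose 2)
        rwa [inv_inv] at this
      rw [← c12.mul_pow, ← h1, h]; group
    have hp2 : a2 ^ (k.choose 3) * x = x * a2 ^ (k.choose 3) := by
      have h : (x⁻¹ * a2 * x) ^ (k.choose 3) = x⁻¹ * a2 ^ (k.choose 3) * x := by
        have := conj_pow (a := x⁻¹) (b := a2) (i := k.choose 3)
        rwa [inv_inv] at this
      rw [h2] at h
      have h' : a2 ^ (k.choose 3) * x = x * (x⁻¹ * a2 ^ (k.choose 3) * x) := by group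
      rw [h', ← h]
    have hc2 : (k + 1).choose 2 = k + k.choose 2 := by
      rw [Nat.choose_succ_succ' k 1, Nat.choose_one_right]
    have hc3 : (k + 1).choose 3 = k.choose 2 + k.choose 3 := Nat.choose_succ_succ' k 2
    rw [pow_succ, ih]
    calc x ^ k * (a ^ k * a1 ^ (k.choose 2) * a2 ^ (k.choose 3)) * (x * a)
        = x ^ k * (a ^ k * a1 ^ (k.choose 2) * (a2 ^ (k.choose 3) * x)) * a := by
            simp only [mul_assoc]
      _ = x ^ k * (a ^ k * (a1 ^ (k.choose 2) * x) * a2 ^ (k.choose 3)) * a := by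
            rw [hp2]; simp only [mul_assoc]
      _ = x ^ k * ((a ^ k * x) * (a1 ^ (k.choose 2) * a2 ^ (k.choose 2)) * a2 ^ (k.choose 3)) * a := by
            rw [hp1]; simp only [mul_assoc]
      _ = x ^ k * x * (a ^ k * a1 ^ k * (a1 ^ (k.choose 2) * a2 ^ (k.choose 2)) *
            a2 ^ (k.choose 3) * a) := by
            rw [hp0]; simp only [mul_assoc]
      _ = x ^ (k + 1) * (a ^ k * a1 ^ k * (a1 ^ (k.choose 2) * a2 ^ (k.choose 2)) *
            a2 ^ (k.choose 3) * a) := by rw [pow_succ]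
      _ = x ^ (k + 1) * (a ^ (k + 1) * a1 ^ ((k + 1).choose 2) * a2 ^ ((k + 1).choose 3)) := by
            congr 1
            rw [hc2, hc3, pow_add a1, pow_add a2, pow_succ a]
            have e1 : Commute a (a1 ^ k * (a1 ^ (k.choose 2) * a2 ^ (k.choose 2)) *
                a2 ^ (k.choose 3)) := by
              apply Commute.mul_right
              · apply Commute.mul_right (c01.pow_right _)
                exact (c01.pow_right _).mul_right (c02.pow_right _)
              · exact c02.pow_right _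
            calc a ^ k * a1 ^ k * (a1 ^ (k.choose 2) * a2 ^ (k.choose 2)) * a2 ^ (k.choose 3) * a
                = a ^ k * ((a1 ^ k * (a1 ^ (k.choose 2) * a2 ^ (k.choose 2)) *
                    a2 ^ (k.choose 3)) * a) := by simp only [mul_assoc]
              _ = a ^ k * (a * (a1 ^ k * (a1 ^ (k.choose 2) * a2 ^ (k.choose 2)) *
                    a2 ^ (k.choose 3))) := by rw [e1.eq]
              _ = _ := by simp only [mul_assoc]

end Formulas

/-- The situation in a non-metacyclic `p`-group of rank 2, `p` odd. -/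
structure Setup (p : ℕ) (G : Type u) [Group G] where
  Z : Subgroup G
  E : Subgroup G
  C : Subgroup G
  hp2 : p ≠ 2
  hG : IsPGroup p G
  hZcard : Nat.card Z = p
  hZc : ∀ z ∈ Z, ∀ g : G, z * g = g * z
  hZE : Z ≤ E
  hEn : E.Normal
  hEcard : Nat.card E = p ^ 2
  hEp : ∀ e ∈ E, e ^ p = 1
  hEC : E ≤ C
  hCE : ∀ c ∈ C, ∀ e ∈ E, c * e = e * c
  hCn : C.Normal
  hCi : C.index = p
  hOm : ∀ c ∈ C, c ^ p = 1 → c ∈ E
  hZx : ∀ e ∈ E, ∀ g, g ∉ C → e * g = g * e → e ∈ Z
  hEx : ∀ e ∈ E, ∀ g, e⁻¹ * g⁻¹ * e * g ∈ Z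
  hpow : ∀ g : G, g ^ p ∈ Subgroup.closure {y | ∃ c ∈ C, y = c ^ p}

namespace Setup

variable {p : ℕ} [hpf : Fact p.Prime] {G : Type u} [Group G] [Finite G] (s : Setup p G)

include s

omit [Finite G] hpf in
theorem pc : PC p ↥s.C := by
  intro c hc g
  have h1 : (c : G) ^ p = 1 := congrArg Subtype.val hc
  exact Subtype.ext (s.hCE g g.2 c (s.hOm c c.2 h1)).symm

theorem comm_mem {d c : G} (hd : d ∈ s.C) (hc : c ∈ s.C) (h : d ^ (p ^ 2) = 1) :
    d⁻¹ * c⁻¹ * d * c ∈ s.E := by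
  have := comm_pow s.hp2 (s.hG.to_subgroup s.C) s.pc (d := ⟨d, hd⟩) (Subtype.ext h) ⟨c, hc⟩
  refine s.hOm _ (s.C.mul_mem (s.C.mul_mem (s.C.mul_mem (s.C.inv_mem hd) (s.C.inv_mem hc)) hd) hc) ?_
  exact congrArg Subtype.val this

theorem mul_pow {a b : G} (ha : a ∈ s.C) (hb : b ∈ s.C) (h : a ^ (p ^ 2) = 1) :
    (a * b) ^ p = a ^ p * b ^ p :=
  congrArg Subtype.val (mul_pow_left s.hp2 (s.hG.to_subgroup s.C) s.pc (a := ⟨a, ha⟩)
    (b := ⟨b, hb⟩) (Subtype.ext h))

omit hpf [Finite G] in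
theorem conj_mem {g c : G} (hc : c ∈ s.C) : g⁻¹ * c * g ∈ s.C := by
  have := s.hCn.conj_mem c hc g⁻¹
  simpa using this

omit hpf [Finite G] in
theorem Z_pow {z : G} (hz : z ∈ s.Z) : z ^ p = 1 := s.hEp z (s.hZE hz)

omit hpf [Finite G] in
theorem E_pow_sq {e : G} (he : e ∈ s.E) : e ^ (p ^ 2) = 1 := by
  rw [sq, pow_mul, s.hEp e he, one_pow]

/-- `p`-th powers centralize the elements of order dividing `p ^ 2` of `C`. -/
theorem pow_comm {a : G} (ha : a ∈ s.C) (h : a ^ (p ^ 2) = 1) (g : G) :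
    a * g ^ p = g ^ p * a := by
  have h1 : Subgroup.closure {y | ∃ c ∈ s.C, y = c ^ p} ≤ Subgroup.centralizer ({a} : Set G) := by
    rw [Subgroup.closure_le]
    rintro _ ⟨c, hc, rfl⟩
    rw [SetLike.mem_coe, Subgroup.mem_centralizer_singleton_iff]
    -- `c⁻¹ * a * c = a * e`
    have he := s.comm_mem ha hc h
    set e := a⁻¹ * c⁻¹ * a * c with hedef
    have h2 : c⁻¹ * a * c = a * e := by rw [hedef]; group
    have h3 : c⁻¹ * e * c = e * 1 := by
      rw [mul_one, mul_assoc, ← s.hCE c hc e he]; group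
    have h4 := conj_pow_chain (a3 := 1) h2 h3 (by simp) (by simp) (Commute.one_right _)
      (Commute.one_right _) p
    rw [s.hEp e he, one_pow, one_pow, mul_one, mul_one, mul_one] at h4
    have h5 : a * c ^ p = c ^ p * ((c ^ p)⁻¹ * a * c ^ p) := by group
    rw [h5, h4]
  exact ((Subgroup.mem_centralizer_singleton_iff.1 (h1 (s.hpow g)))).symm

/-- If only the elements of `Z` in `C` commute with `x`, then the class is maximal. -/
theorem class_eq {n : ℕ} (hn : Nat.card G = p ^ n) {x : G} (hx : x ∉ s.C)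
    (h : ∀ b ∈ s.C, b * x = x * b → b ∈ s.Z) : Group.nilpotencyClass G = n - 1 := by
  have hpp : p.Prime := hpf.out
  set A := Subgroup.centralizer ({x} : Set G) with hA
  have hxA : x ∈ A := by rw [hA, Subgroup.mem_centralizer_singleton_iff]
  have hinf : A ⊓ s.C = s.Z := by
    apply le_antisymm
    · rintro b ⟨hb, hbC⟩
      exact h b hbC (Subgroup.mem_centralizer_singleton_iff.1 hb)
    · intro z hz
      exact ⟨Subgroup.mem_centralizer_singleton_iff.2 (s.hZc z hz x), s.hEC (s.hZE hz)⟩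
  have hle : Nat.card A ≤ p ^ 2 := by
    have h1 : s.C.relIndex A ≤ p := by
      have := s.hCn
      have h0 := Subgroup.relIndex_dvd_index_of_normal s.C A
      rw [s.hCi] at h0
      exact Nat.le_of_dvd hpp.pos h0
    have h2 := (s.C.subgroupOf A).card_mul_index
    have h3 : Nat.card (s.C.subgroupOf A) = Nat.card s.Z := by
      rw [← Subgroup.inf_subgroupOf_right,
        Nat.card_congr (Subgroup.subgroupOfEquivOfLe (inf_le_right : s.C ⊓ A ≤ A)).toEquiv,
        inf_comm, hinf]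
    rw [h3, s.hZcard] at h2
    rw [← h2, sq]
    exact Nat.mul_le_mul le_rfl h1
  have hlt : p < Nat.card A := by
    have h1 : s.Z < A := by
      refine lt_of_le_of_ne (hinf ▸ inf_le_left) ?_
      intro h2
      exact hx (s.hEC (s.hZE (h2 ▸ hxA)))
    have h3 : Nat.card s.Z < Nat.card A := Set.ncard_lt_ncard (by exact_mod_cast h1)
    rwa [s.hZcard] at h3
  have hcard : Nat.card A = p ^ 2 :=
    le_antisymm hle (Cfsg.Agent.S0126.two_le_of_lt s.hG A hlt)
  refine Cfsg.Agent.S0112.result n hn A hcard ?_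
  apply le_antisymm
  · intro g hg
    rw [hA, Subgroup.mem_centralizer_singleton_iff]
    exact (Subgroup.mem_centralizer_iff.1 hg x hxA).symm
  · intro g hg
    rw [Subgroup.mem_centralizer_iff]
    intro b hb
    haveI := IsPGroup.isMulCommutative_of_card_eq_prime_sq (G := ↥A) (p := p) hcard
    exact setLike_mul_comm hb hg

end Setup

end Cfsg.Agent.H472.RankTwo
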