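import Mathlib
import Cfsg.Agent.H472.RankTwo

/-!
# `p`-groups of rank two, `p` odd: the case where `Ω₂(C)` is large
-/

set_option autoImplicit false

namespace Cfsg.Agent.H472.RankTwo

open Cfsg.Agent.H472.PCentral

universe u

namespace Setup

variable {p : ℕ} [hpf : Fact p.Prime] {G : Type u} [Group G] [Finite G] (s : Setup p G)

include s

omit [Finite G] in
theorem exists_pow_eq {z w : G} (hz : z ∈ s.Z) (hz1 : z ≠ 1) (hw : w ∈ s.Z) :
    ∃ k : ℕ, w = z ^ k := by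
  obtain ⟨k, hk⟩ := mem_powers_of_prime_card (G := ↥s.Z) (p := p) s.hZcard
    (g := ⟨z, hz⟩) (g' := ⟨w, hw⟩) (by intro h; exact hz1 (congrArg Subtype.val h))
  exact ⟨k, (congrArg Subtype.val hk).symm⟩

omit hpf [Finite G] in
/-- descent to elements with `p`-th power in `Z` -/
theorem mem_Z_of_step {x : G}
    (h : ∀ b ∈ s.C, b * x = x * b → b ^ p ∈ s.Z → b ∈ s.Z) :
    ∀ b ∈ s.C, b * x = x * b → b ∈ s.Z := by
  intro b hb hbx
  obtain ⟨k, hk⟩ := s.hG b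
  have key : ∀ j : ℕ, b ^ p ^ j ∈ s.Z → b ∈ s.Z := by
    intro j
    induction j with
    | zero => intro hj; simpa using hj
    | succ j ih =>
      intro hj
      apply ih
      apply h _ (s.C.pow_mem hb _)
      · exact ((show Commute b x from hbx).pow_left _).eq
      · rw [← pow_mul, ← pow_succ]; exact hj
  exact key k (by rw [hk]; exact s.Z.one_mem)

omit hpf [Finite G] in
theorem mem_Z_of_pow_eq_one {b x : G} (hb : b ∈ s.C) (hx : x ∉ s.C) (hbx : b * x = x * b)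
    (h : b ^ p = 1) : b ∈ s.Z :=
  s.hZx b (s.hOm b hb h) x hx hbx

omit s hpf [Finite G] in
theorem conj_pow_eq (x a : G) (k : ℕ) : x⁻¹ * a ^ k * x = (x⁻¹ * a * x) ^ k := by
  have := conj_pow (a := x⁻¹) (b := a) (i := k)
  rw [inv_inv] at this; exact this.symm

/-- The case where `Ω₂(C)` has order `p ^ 4`. -/
theorem large_case {a : G} (ha : a ∈ s.C) (hap : a ^ p ∈ s.E) (haZ : a ^ p ∉ s.Z) {x : G}
    (hx : x ∉ s.C) : p = 3 ∧ ∀ b ∈ s.C, b * x = x * b → b ∈ s.Z := by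
  have hpp : p.Prime := hpf.out
  have ha2 : a ^ (p ^ 2) = 1 := by rw [sq, pow_mul]; exact s.hEp _ hap
  have hax : x⁻¹ * a * x ∈ s.C := s.conj_mem ha
  set a1 := a⁻¹ * (x⁻¹ * a * x) with ha1def
  have ha1C : a1 ∈ s.C := s.C.mul_mem (s.C.inv_mem ha) hax
  have h0 : x⁻¹ * a * x = a * a1 := by rw [ha1def]; group
  have hainv2 : a⁻¹ ^ (p ^ 2) = 1 := by rw [inv_pow, ha2, inv_one]
  have ha1p : a1 ^ p = (a ^ p)⁻¹ * x⁻¹ * a ^ p * x := by
    rw [ha1def, s.mul_pow (s.C.inv_mem ha) hax hainv2, ← conj_pow_eq, inv_pow]; group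
  have ha1pZ : a1 ^ p ∈ s.Z := by rw [ha1p]; exact s.hEx _ hap x
  have ha1p1 : a1 ^ p ≠ 1 := by
    intro h
    rw [ha1p] at h
    apply haZ
    refine s.hZx _ hap x hx ?_
    have h1 : a ^ p * x = x * a ^ p * ((a ^ p)⁻¹ * x⁻¹ * a ^ p * x) := by group
    rw [h1, h, mul_one]
  have ha12 : a1 ^ (p ^ 2) = 1 := by rw [sq, pow_mul]; exact s.Z_pow ha1pZ
  have ha1x : x⁻¹ * a1 * x ∈ s.C := s.conj_mem ha1C
  set a2 := a1⁻¹ * (x⁻¹ * a1 * x) with ha2def
  have ha2C : a2 ∈ s.C := s.C.mul_mem (s.C.inv_mem ha1C) ha1x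
  have h1 : x⁻¹ * a1 * x = a1 * a2 := by rw [ha2def]; group
  have ha2p : a2 ^ p = 1 := by
    rw [ha2def, s.mul_pow (s.C.inv_mem ha1C) ha1x (by rw [inv_pow, ha12, inv_one]),
      ← conj_pow_eq, inv_pow]
    have : x⁻¹ * a1 ^ p * x = a1 ^ p := by
      rw [mul_assoc, s.hZc _ ha1pZ x]; group
    rw [this]; group
  have ha2E : a2 ∈ s.E := s.hOm _ ha2C ha2p
  set a3 := a2⁻¹ * x⁻¹ * a2 * x with ha3def
  have ha3Z : a3 ∈ s.Z := s.hEx _ ha2E x
  have h2 : x⁻¹ * a2 * x = a2 * a3 := by rw [ha3def]; group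
  have h3 : x⁻¹ * a3 * x = a3 := by rw [mul_assoc, s.hZc _ ha3Z x]; group
  have c12 : Commute a1 a2 := s.hCE _ ha1C _ ha2E
  have c23 : Commute a2 a3 := s.hCE _ ha2C _ (s.hZE ha3Z)
  have hp2 : 2 < p := lt_of_le_of_ne hpp.two_le (Ne.symm s.hp2)
  have key := conj_pow_chain h0 h1 h2 h3 c12 c23 p
  have hcomm : (x ^ p)⁻¹ * a * x ^ p = a := by
    rw [mul_assoc, s.pow_comm ha ha2 x]; group
  rw [hcomm] at key
  have hch2 : a2 ^ (p.choose 2) = 1 := by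
    obtain ⟨m, hm⟩ := hpp.dvd_choose_self (k := 2) (by norm_num) hp2
    rw [hm, pow_mul, ha2p, one_pow]
  rw [hch2, mul_one] at key
  -- key : a = a * a1 ^ p * a3 ^ (p.choose 3)
  have hp3 : p = 3 := by
    by_contra hne
    have h3p : 3 < p := by omega
    obtain ⟨m, hm⟩ := hpp.dvd_choose_self (k := 3) (by norm_num) h3p
    rw [hm, pow_mul, s.Z_pow ha3Z, one_pow, mul_one] at key
    exact ha1p1 (by simpa using key)
  refine ⟨hp3, ?_⟩
  have ha31 : a3 ≠ 1 := by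
    intro h
    rw [h, one_pow, mul_one] at key
    exact ha1p1 (by simpa using key)
  apply s.mem_Z_of_step
  intro b hb hbx hbp
  by_cases hb1 : b ^ p = 1
  · exact s.mem_Z_of_pow_eq_one hb hx hbx hb1
  exfalso
  obtain ⟨k, hk⟩ := s.exists_pow_eq hbp hb1 ha1pZ
  -- `a1 = e * b ^ k`
  have hb2 : b ^ (p ^ 2) = 1 := by rw [sq, pow_mul]; exact s.Z_pow hbp
  have heE : a1 * (b ^ k)⁻¹ ∈ s.E := by
    refine s.hOm _ (s.C.mul_mem ha1C (s.C.inv_mem (s.C.pow_mem hb k))) ?_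
    rw [s.mul_pow ha1C (s.C.inv_mem (s.C.pow_mem hb k)) ha12, hk, inv_pow, ← pow_mul, ← pow_mul,
      mul_comm p k]
    group
  have hbkx : b ^ k * x = x * b ^ k := ((show Commute b x from hbx).pow_left k).eq
  have ha2Z : a2 ∈ s.Z := by
    set e := a1 * (b ^ k)⁻¹ with he
    have e1 : a1 = e * b ^ k := by rw [he]; group
    have e2 : a2 = (b ^ k)⁻¹ * (e⁻¹ * x⁻¹ * e * x) * b ^ k := by
      have e3 : x⁻¹ * a1 * x = (x⁻¹ * e * x) * b ^ k := by
        rw [e1]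
        calc x⁻¹ * (e * b ^ k) * x = x⁻¹ * e * (b ^ k * x) := by simp only [mul_assoc]
          _ = x⁻¹ * e * (x * b ^ k) := by rw [hbkx]
          _ = _ := by simp only [mul_assoc]
      rw [ha2def, e3, e1]; group
    have hz := s.hEx e heE x
    have e4 : (b ^ k)⁻¹ * (e⁻¹ * x⁻¹ * e * x) * b ^ k = e⁻¹ * x⁻¹ * e * x := by
      rw [mul_assoc, s.hZc _ hz (b ^ k)]; group
    rw [e2, e4]
    exact hz
  apply ha31
  rw [ha3def, mul_assoc, mul_assoc, s.hZc _ ha2Z x]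
  group

end Setup

end Cfsg.Agent.H472.RankTwo
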