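import Mathlib
import Cfsg.Agent.H472.RankTwoB

/-!
# `p`-groups of rank two, `p` odd: the case where `Ω₂(C)` is small
-/

set_option autoImplicit false

namespace Cfsg.Agent.H472.RankTwo

open Cfsg.Agent.H472.PCentral

universe u

namespace Setup

variable {p : ℕ} [hpf : Fact p.Prime] {G : Type u} [Group G] [Finite G] (s : Setup p G)

include s

/-- `C / E` is cyclic. -/
theorem exists_generator (hsm : ∀ a ∈ s.C, a ^ p ∈ s.E → a ^ p ∈ s.Z) :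
    ∃ c0 ∈ s.C, ∀ d ∈ s.C, ∃ i : ℤ, ∃ e ∈ s.E, d = c0 ^ i * e := by
  have hpp : p.Prime := hpf.out
  have hEn := s.hEn
  have hE'n : (s.E.subgroupOf s.C).Normal := inferInstance
  have hCp : IsPGroup p ↥s.C := s.hG.to_subgroup s.C
  have hcyc : IsCyclic (↥s.C ⧸ s.E.subgroupOf s.C) := by
    by_contra hnc
    obtain ⟨A, -, ⟨hAc, hAp⟩, hAcard⟩ := Cfsg.Agent.S0126.result (R := ↥s.C ⧸ s.E.subgroupOf s.C)
      s.hp2 (hCp.to_quotient _) hnc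
    have hlift : ∀ q : A, ∃ c : ↥s.C, (QuotientGroup.mk c : ↥s.C ⧸ s.E.subgroupOf s.C) = q ∧
        (c : G) ^ p ∈ s.Z := by
      rintro ⟨q, hq⟩
      obtain ⟨c, rfl⟩ := QuotientGroup.mk_surjective q
      refine ⟨c, rfl, hsm c c.2 ?_⟩
      have h1 := hAp _ hq
      rw [← QuotientGroup.mk_pow, QuotientGroup.eq_one_iff, Subgroup.mem_subgroupOf] at h1
      exact h1
    choose f hf1 hf2 using hlift
    let F : A → ↥s.Z := fun q => ⟨(f q : G) ^ p, hf2 q⟩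
    have hF : Function.Injective F := by
      intro q r hqr
      have h1 : (f q : G) ^ p = (f r : G) ^ p := congrArg Subtype.val hqr
      apply Subtype.ext
      rw [← hf1 q, ← hf1 r, QuotientGroup.eq, Subgroup.mem_subgroupOf]
      have h2 : ((f q : G)⁻¹) ^ (p ^ 2) = 1 := by
        rw [inv_pow, sq, pow_mul, s.Z_pow (hf2 q), inv_one]
      refine s.hOm _ (s.C.mul_mem (s.C.inv_mem (f q).2) (f r).2) ?_
      change ((f q : G)⁻¹ * (f r : G)) ^ p = 1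
      rw [s.mul_pow (s.C.inv_mem (f q).2) (f r).2 h2, inv_pow, h1]
      group
    have h3 := Nat.card_le_card_of_injective F hF
    rw [hAcard, s.hZcard] at h3
    have h4 := hpp.two_le
    nlinarith
  obtain ⟨g, hg⟩ := hcyc.exists_generator
  obtain ⟨c0, rfl⟩ := QuotientGroup.mk_surjective g
  refine ⟨c0, c0.2, fun d hd => ?_⟩
  obtain ⟨i, hi⟩ := hg (QuotientGroup.mk (⟨d, hd⟩ : ↥s.C))
  simp only at hi
  rw [← QuotientGroup.mk_zpow, QuotientGroup.eq, Subgroup.mem_subgroupOf] at hi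
  refine ⟨i, _, hi, ?_⟩
  simp

omit hpf [Finite G] in
theorem comm_of_generator {c0 : G} (hc0 : c0 ∈ s.C)
    (hgen : ∀ d ∈ s.C, ∃ i : ℤ, ∃ e ∈ s.E, d = c0 ^ i * e) :
    ∀ a ∈ s.C, ∀ b ∈ s.C, a * b = b * a := by
  intro a ha b hb
  obtain ⟨i, e, he, rfl⟩ := hgen a ha
  obtain ⟨j, f, hf, rfl⟩ := hgen b hb
  have h1 : ∀ k : ℤ, Commute (c0 ^ k) e := fun k => s.hCE _ (s.C.zpow_mem hc0 k) _ he
  have h2 : ∀ k : ℤ, Commute (c0 ^ k) f := fun k => s.hCE _ (s.C.zpow_mem hc0 k) _ hf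
  have h3 : Commute e f := s.hCE _ (s.hEC he) _ hf
  have h4 : Commute (c0 ^ i) (c0 ^ j) := (Commute.refl c0).zpow_zpow i j
  exact ((h4.mul_right (h2 i)).mul_left (((h1 j).symm).mul_right h3)).eq

omit hpf [Finite G] in
/-- the commutator map `c ↦ [c, y]` on the abelian group `C` -/
def phi (hab : ∀ a ∈ s.C, ∀ b ∈ s.C, a * b = b * a) (y : G) : ↥s.C →* G where
  toFun c := (c : G)⁻¹ * (y⁻¹ * c * y)
  map_one' := by simp
  map_mul' := by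
    rintro ⟨a, ha⟩ ⟨b, hb⟩
    have h1 : (y⁻¹ * a * y) * b⁻¹ = b⁻¹ * (y⁻¹ * a * y) := hab _ (s.conj_mem ha) _ (s.C.inv_mem hb)
    have h2 : b⁻¹ * a⁻¹ = a⁻¹ * b⁻¹ := hab _ (s.C.inv_mem hb) _ (s.C.inv_mem ha)
    simp only [Subgroup.coe_mul]
    calc (a * b)⁻¹ * (y⁻¹ * (a * b) * y) = (b⁻¹ * a⁻¹) * ((y⁻¹ * a * y) * (y⁻¹ * b * y)) := by group
      _ = a⁻¹ * (b⁻¹ * (y⁻¹ * a * y)) * (y⁻¹ * b * y) := by rw [h2]; simp only [mul_assoc]
      _ = a⁻¹ * (y⁻¹ * a * y) * (b⁻¹ * (y⁻¹ * b * y)) := by rw [← h1]; simp only [mul_assoc]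

omit hpf [Finite G] in
theorem phi_apply (hab : ∀ a ∈ s.C, ∀ b ∈ s.C, a * b = b * a) (y : G) (c : ↥s.C) :
    s.phi hab y c = (c : G)⁻¹ * (y⁻¹ * c * y) := rfl

omit hpf [Finite G] in
theorem phi_mem (hab : ∀ a ∈ s.C, ∀ b ∈ s.C, a * b = b * a) (y : G) (c : ↥s.C) :
    s.phi hab y c ∈ s.C := s.C.mul_mem (s.C.inv_mem c.2) (s.conj_mem c.2)

omit hpf [Finite G] in
theorem conj_eq_phi (hab : ∀ a ∈ s.C, ∀ b ∈ s.C, a * b = b * a) (y : G) (c : ↥s.C) :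
    y⁻¹ * c * y = c * s.phi hab y c := by rw [phi_apply]; group

omit hpf [Finite G] in
theorem phi_E (hab : ∀ a ∈ s.C, ∀ b ∈ s.C, a * b = b * a) (y : G) (c : ↥s.C) (hc : (c : G) ∈ s.E) :
    s.phi hab y c ∈ s.Z := by
  have := s.hEx _ hc y
  rw [phi_apply]
  simpa only [mul_assoc] using this

omit hpf [Finite G] in
theorem phi_eq_one (hab : ∀ a ∈ s.C, ∀ b ∈ s.C, a * b = b * a) (y : G) (c : ↥s.C) :
    s.phi hab y c = 1 ↔ (c : G) * y = y * c := by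
  rw [phi_apply]
  constructor
  · intro h
    have : (c : G) * y = y * c * ((c : G)⁻¹ * (y⁻¹ * c * y)) := by group
    rw [this, h, mul_one]
  · intro h
    rw [mul_assoc y⁻¹, h]; group

omit hpf [Finite G] in
/-- `p`-th powers are `p`-th powers of elements of `C`. -/
theorem exists_pow_eq_pow (hab : ∀ a ∈ s.C, ∀ b ∈ s.C, a * b = b * a) (g : G) :
    ∃ a ∈ s.C, g ^ p = a ^ p := by
  let T : Subgroup G :=
    { carrier := {y | ∃ c ∈ s.C, y = c ^ p}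
      one_mem' := ⟨1, s.C.one_mem, (one_pow p).symm⟩
      mul_mem' := by
        rintro _ _ ⟨a, ha, rfl⟩ ⟨b, hb, rfl⟩
        exact ⟨a * b, s.C.mul_mem ha hb, ((show Commute a b from hab a ha b hb).mul_pow p).symm⟩
      inv_mem' := by
        rintro _ ⟨a, ha, rfl⟩
        exact ⟨a⁻¹, s.C.inv_mem ha, (inv_pow a p).symm⟩ }
  have h1 : Subgroup.closure {y | ∃ c ∈ s.C, y = c ^ p} ≤ T := by
    rw [Subgroup.closure_le]
    exact fun y hy => hy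
  exact h1 (s.hpow g)

/-- There is an element of order `p` outside `C`, or `p = 3` and the class is maximal. -/
theorem exists_order_p (hab : ∀ a ∈ s.C, ∀ b ∈ s.C, a * b = b * a) {n : ℕ}
    (hn : Nat.card G = p ^ n) {x : G} (hx : x ∉ s.C) :
    (∃ y : G, y ∉ s.C ∧ y ^ p = 1) ∨ (p = 3 ∧ Group.nilpotencyClass G = n - 1) := by
  have hpp : p.Prime := hpf.out
  have hp2 : 2 < p := lt_of_le_of_ne hpp.two_le (Ne.symm s.hp2)
  obtain ⟨a, ha, hxa⟩ := s.exists_pow_eq_pow hab x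
  set a1 := s.phi hab x ⟨a, ha⟩ with ha1
  have ha1C : a1 ∈ s.C := s.phi_mem hab x _
  have ha1p : a1 ^ p = 1 := by
    rw [ha1, ← map_pow, phi_eq_one]
    change a ^ p * x = x * a ^ p
    rw [← hxa]
    exact (Commute.refl x).pow_left p
  have ha1E : a1 ∈ s.E := s.hOm _ ha1C ha1p
  set a2 := s.phi hab x ⟨a1, ha1C⟩ with ha2
  have ha2Z : a2 ∈ s.Z := s.phi_E hab x _ ha1E
  have h0 : x⁻¹ * a⁻¹ * x = a⁻¹ * a1⁻¹ := by
    have h := s.conj_eq_phi hab x ⟨a, ha⟩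
    have h' : x⁻¹ * a⁻¹ * x = (x⁻¹ * a * x)⁻¹ := by group
    rw [h', h, mul_inv_rev]
    exact hab _ (s.C.inv_mem ha1C) _ (s.C.inv_mem ha)
  have h1 : x⁻¹ * a1⁻¹ * x = a1⁻¹ * a2⁻¹ := by
    have h := s.conj_eq_phi hab x ⟨a1, ha1C⟩
    have h' : x⁻¹ * a1⁻¹ * x = (x⁻¹ * a1 * x)⁻¹ := by group
    rw [h', h, mul_inv_rev]
    exact hab _ (s.C.inv_mem (s.hEC (s.hZE ha2Z))) _ (s.C.inv_mem ha1C)
  have ha2iZ : a2⁻¹ ∈ s.Z := s.Z.inv_mem ha2Z
  have h2 : x⁻¹ * a2⁻¹ * x = a2⁻¹ := by rw [mul_assoc, s.hZc _ ha2iZ x]; group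
  have c01 : Commute a⁻¹ a1⁻¹ := hab _ (s.C.inv_mem ha) _ (s.C.inv_mem ha1C)
  have c02 : Commute a⁻¹ a2⁻¹ := (s.hZc _ ha2iZ _).symm
  have c12 : Commute a1⁻¹ a2⁻¹ := (s.hZc _ ha2iZ _).symm
  have key := mul_pow_chain h0 h1 h2 c01 c02 c12 p
  have hch2 : a1⁻¹ ^ (p.choose 2) = 1 := by
    obtain ⟨m, hm⟩ := hpp.dvd_choose_self (k := 2) (by norm_num) hp2
    rw [hm, pow_mul, inv_pow, ha1p, inv_one, one_pow]
  rw [hch2, mul_one, hxa, inv_pow, mul_inv_cancel_left] at key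
  -- key : (x * a⁻¹) ^ p = a2⁻¹ ^ (p.choose 3)
  have hy : x * a⁻¹ ∉ s.C := fun h => hx ((s.C.mul_mem_cancel_right (s.C.inv_mem ha)).1 h)
  set y := x * a⁻¹ with hydef
  have hyZ : y ^ p ∈ s.Z := by rw [key]; exact s.Z.pow_mem ha2iZ _
  by_cases hy1 : y ^ p = 1
  · exact Or.inl ⟨y, hy, hy1⟩
  have hp3 : p = 3 := by
    by_contra hne
    have h3p : 3 < p := by omega
    obtain ⟨m, hm⟩ := hpp.dvd_choose_self (k := 3) (by norm_num) h3p
    rw [hm, pow_mul, s.Z_pow ha2iZ, one_pow] at key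
    exact hy1 key
  by_cases hcl : ∀ b ∈ s.C, b * y = y * b → b ∈ s.Z
  · exact Or.inr ⟨hp3, s.class_eq hn hy hcl⟩
  left
  have hex : ∃ b ∈ s.C, b * y = y * b ∧ b ^ p ∈ s.Z ∧ b ∉ s.Z := by
    by_contra hcon
    push Not at hcon
    exact hcl (s.mem_Z_of_step fun b hb hby hbp => hcon b hb hby hbp)
  obtain ⟨b, hb, hby, hbp, hbZ⟩ := hex
  have hb1 : b ^ p ≠ 1 := fun h => hbZ (s.mem_Z_of_pow_eq_one hb hy hby h)
  obtain ⟨k, hk⟩ := s.exists_pow_eq hbp hb1 hyZ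
  refine ⟨y * (b ^ k)⁻¹, fun h => hy ((s.C.mul_mem_cancel_right
    (s.C.inv_mem (s.C.pow_mem hb k))).1 h), ?_⟩
  have hc : Commute y ((b ^ k)⁻¹) := ((show Commute b y from hby).pow_left k).symm.inv_right
  rw [hc.mul_pow, hk, inv_pow, ← pow_mul, ← pow_mul, mul_comm p k]
  group

omit s [Finite G] [Group G] in
theorem dvd_sub_one_of_dvd (hp2 : p ≠ 2) {u : ℤ} {r : ℕ} (h : (p : ℤ) ^ (r + 1) ∣ u ^ p - 1) :
    (p : ℤ) ∣ u - 1 ∧ (p : ℤ) ^ r ∣ u - 1 := by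
  have hpp : p.Prime := hpf.out
  have h1 : (p : ℤ) ∣ u ^ p - 1 := (Dvd.intro_left _ (pow_succ (p : ℤ) r).symm).trans h
  have h2 : (p : ℤ) ∣ u - 1 := by
    rw [← ZMod.intCast_zmod_eq_zero_iff_dvd] at h1 ⊢
    push_cast at h1 ⊢
    rwa [ZMod.pow_card] at h1
  refine ⟨h2, ?_⟩
  have h3 : ¬ (p : ℤ) ∣ u := by
    intro h4
    have h5 : (p : ℤ) ∣ 1 := by
      have := dvd_sub h4 h2
      simpa using this
    exact hpp.one_lt.ne' (by exact_mod_cast Int.eq_one_of_dvd_one (by positivity) h5)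
  have h4 := Int.emultiplicity_pow_sub_pow hpp (hpp.odd_of_ne_two hp2) (x := u) (y := 1) h2 h3 p
  rw [one_pow] at h4
  have h5 : ((r + 1 : ℕ) : ℕ∞) ≤ emultiplicity (p : ℤ) (u ^ p - 1) := le_emultiplicity_of_pow_dvd h
  have h6 : emultiplicity p p = 1 := by
    have := (Nat.finiteMultiplicity_iff.2 ⟨hpp.ne_one, hpp.pos⟩).emultiplicity_self
    exact this
  rw [h4, h6] at h5
  apply pow_dvd_of_le_emultiplicity
  push_cast at h5
  exact (ENat.add_le_add_iff_right (by simp)).1 h5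

/-- An element `y` of order `p` outside `C` satisfies `[C, y] ≤ E`. -/
theorem phi_mem_E (hsm : ∀ a ∈ s.C, a ^ p ∈ s.E → a ^ p ∈ s.Z)
    (hab : ∀ a ∈ s.C, ∀ b ∈ s.C, a * b = b * a) {c0 : G} (hc0 : c0 ∈ s.C)
    (hgen : ∀ d ∈ s.C, ∃ i : ℤ, ∃ e ∈ s.E, d = c0 ^ i * e) {y : G} (hyp : y ^ p = 1)
    (c : ↥s.C) : s.phi hab y c ∈ s.E := by
  have hpp : p.Prime := hpf.out
  have hp2 : 2 < p := lt_of_le_of_ne hpp.two_le (Ne.symm s.hp2)
  have hEn := s.hEn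
  -- it is enough to consider `c0`
  suffices h0 : s.phi hab y ⟨c0, hc0⟩ ∈ s.E by
    obtain ⟨i, e, he, hc⟩ := hgen c c.2
    have hc' : c = (⟨c0, hc0⟩ : ↥s.C) ^ i * ⟨e, s.hEC he⟩ := Subtype.ext hc
    rw [hc', map_mul, map_zpow]
    exact s.E.mul_mem (s.E.zpow_mem h0 i) (s.hZE (s.phi_E hab y ⟨e, s.hEC he⟩ he))
  obtain ⟨u, e, he, hu⟩ := hgen _ (s.conj_mem (g := y) hc0)
  -- the order of `c0` modulo `E`
  obtain ⟨r, hr⟩ : ∃ r, orderOf (QuotientGroup.mk c0 : G ⧸ s.E) = p ^ r := by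
    obtain ⟨r, hr⟩ := (IsPGroup.iff_orderOf.1 (s.hG.to_quotient s.E)) (QuotientGroup.mk c0)
    exact ⟨r, hr⟩
  have hmem : ∀ m : ℤ, c0 ^ m ∈ s.E ↔ (p : ℤ) ^ r ∣ m := by
    intro m
    rw [← QuotientGroup.eq_one_iff, QuotientGroup.mk_zpow, ← orderOf_dvd_iff_zpow_eq_one, hr]
    push_cast
    rfl
  have h1 : s.phi hab y ⟨c0, hc0⟩ = c0 ^ (u - 1) * e := by
    rw [phi_apply]
    change c0⁻¹ * (y⁻¹ * c0 * y) = _
    rw [hu, sub_eq_neg_add, zpow_add, zpow_neg, zpow_one, mul_assoc]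
  rw [h1]
  rcases Nat.eq_zero_or_pos r with hr0 | hrpos
  · refine s.E.mul_mem ((hmem _).2 ?_) he
    rw [hr0, pow_zero]; exact one_dvd _
  obtain ⟨r, rfl⟩ : ∃ r', r = r' + 1 := ⟨r - 1, by omega⟩
  -- `u ^ p ≡ 1`
  have hup : (p : ℤ) ^ (r + 1) ∣ u ^ p - 1 := by
    have h2 : ∀ k : ℕ, (QuotientGroup.mk ((y ^ k)⁻¹ * c0 * y ^ k) : G ⧸ s.E) =
        (QuotientGroup.mk c0 : G ⧸ s.E) ^ (u ^ k) := by
      intro k
      induction k with
      | zero => simp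
      | succ k ih =>
        have h3 : (y ^ (k + 1))⁻¹ * c0 * y ^ (k + 1) = y⁻¹ * ((y ^ k)⁻¹ * c0 * y ^ k) * y := by
          rw [pow_succ]; group
        have h4 : (QuotientGroup.mk (y⁻¹ * c0 * y) : G ⧸ s.E) =
            (QuotientGroup.mk c0 : G ⧸ s.E) ^ u := by
          rw [hu, QuotientGroup.mk_mul, (QuotientGroup.eq_one_iff e).2 he, mul_one,
            QuotientGroup.mk_zpow]
        rw [h3, QuotientGroup.mk_mul, QuotientGroup.mk_mul, ih]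
        have h5 : (QuotientGroup.mk y⁻¹ : G ⧸ s.E) * (QuotientGroup.mk c0) ^ (u ^ k) *
            (QuotientGroup.mk y) = ((QuotientGroup.mk y⁻¹ : G ⧸ s.E) * (QuotientGroup.mk c0) *
            (QuotientGroup.mk y)) ^ (u ^ k) := by
          have := conj_zpow (a := (QuotientGroup.mk y⁻¹ : G ⧸ s.E))
            (b := (QuotientGroup.mk c0 : G ⧸ s.E)) (i := u ^ k)
          rw [← QuotientGroup.mk_inv, inv_inv] at this
          exact this.symm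
        rw [h5, ← QuotientGroup.mk_mul, ← QuotientGroup.mk_mul, h4, ← zpow_mul, pow_succ, mul_comm]
    have h6 := h2 p
    rw [hyp, inv_one, one_mul, mul_one] at h6
    have h7 : (QuotientGroup.mk c0 : G ⧸ s.E) ^ (u ^ p - 1) = 1 := by
      rw [zpow_sub, ← h6, zpow_one, mul_inv_cancel]
    have h8 := orderOf_dvd_iff_zpow_eq_one.2 h7
    rw [hr] at h8
    exact_mod_cast h8
  obtain ⟨hpu, ⟨k, hk⟩⟩ := dvd_sub_one_of_dvd s.hp2 hup
  rcases Nat.eq_zero_or_pos r with hr0 | hrpos'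
  · refine s.E.mul_mem ((hmem _).2 ?_) he
    rw [hr0, zero_add, pow_one]; exact hpu
  obtain ⟨t, rfl⟩ : ∃ t, r = t + 1 := ⟨r - 1, by omega⟩
  -- `b = c0 ^ (p ^ r)`
  set b : ↥s.C := (⟨c0, hc0⟩ : ↥s.C) ^ (p ^ (t + 1)) with hb
  have hbG : (b : G) = c0 ^ (p ^ (t + 1)) := rfl
  have hbp : (b : G) ^ p ∈ s.Z := by
    apply hsm _ b.2
    rw [hbG, ← pow_mul, ← pow_succ, ← zpow_natCast, hmem]
    push_cast
    exact dvd_refl _
  set c1 := s.phi hab y ⟨c0, hc0⟩ with hc1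
  have hc1C : c1 ∈ s.C := s.phi_mem hab y _
  have h2 : c1 = (b : G) ^ k * e := by
    rw [h1, hk, hbG, zpow_mul]
    congr 2
    rw [← zpow_natCast]
    push_cast
    rfl
  have hc1p : c1 ^ p ∈ s.Z := by
    have hcomm : Commute ((b : G) ^ k) e := s.hCE _ (s.C.zpow_mem b.2 k) _ he
    rw [h2, hcomm.mul_pow, s.hEp e he, mul_one, ← zpow_natCast, ← zpow_mul, mul_comm, zpow_mul,
      zpow_natCast]
    exact s.Z.zpow_mem hbp k
  set c2 := s.phi hab y ⟨c1, hc1C⟩ with hc2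
  have hc2Z : c2 ∈ s.Z := by
    have h3 : (⟨c1, hc1C⟩ : ↥s.C) = b ^ k * ⟨e, s.hEC he⟩ := Subtype.ext h2
    rw [hc2, h3, map_mul, map_zpow, hb, map_pow, ← hc1]
    refine s.Z.mul_mem (s.Z.zpow_mem ?_ k) (s.phi_E hab y _ he)
    rw [pow_succ', pow_mul]
    exact s.Z.pow_mem hc1p _
  have e0 : y⁻¹ * c0 * y = c0 * c1 := s.conj_eq_phi hab y ⟨c0, hc0⟩
  have e1 : y⁻¹ * c1 * y = c1 * c2 := s.conj_eq_phi hab y ⟨c1, hc1C⟩
  have e2 : y⁻¹ * c2 * y = c2 * 1 := by rw [mul_assoc, s.hZc _ hc2Z y]; group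
  have key := conj_pow_chain (a3 := 1) e0 e1 e2 (by simp) (s.hZc _ hc2Z _).symm
    (Commute.one_right _) p
  obtain ⟨m, hm⟩ := hpp.dvd_choose_self (k := 2) (by norm_num) hp2
  rw [hyp, hm, pow_mul, s.Z_pow hc2Z, one_pow, one_pow, mul_one, mul_one, inv_one, one_mul,
    mul_one] at key
  rw [← h1]
  exact s.hOm _ hc1C (by simpa using key)

end Setup

end Cfsg.Agent.H472.RankTwo
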