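import Mathlib
import Cfsg.Agent.H472.RankTwoC

/-!
# `p`-groups of rank two, `p` odd: the families (b) and (c)
-/

set_option autoImplicit false

namespace Cfsg.Agent.H472.RankTwo

open Cfsg.Agent.H472.PCentral

universe u

theorem mem_of_pow_pow {G : Type u} [Group G] {H : Subgroup G} {a : G} {s t : ℕ}
    (hst : s.Coprime t) (h1 : a ^ s ∈ H) (h2 : a ^ t ∈ H) : a ∈ H := by
  have h3 : a = (a ^ s) ^ (Nat.gcdA s t) * (a ^ t) ^ (Nat.gcdB s t) := by
    rw [← zpow_natCast a s, ← zpow_natCast a t, ← zpow_mul, ← zpow_mul, ← zpow_add,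
      ← Nat.gcd_eq_gcd_ab, Nat.coprime_iff_gcd_eq_one.1 hst]
    simp
  rw [h3]
  exact H.mul_mem (H.zpow_mem h1 _) (H.zpow_mem h2 _)

namespace Setup

variable {p : ℕ} [hpf : Fact p.Prime] {G : Type u} [Group G] [Finite G] (s : Setup p G)

include s

omit [Finite G] in
theorem eq_top_of_le {H : Subgroup G} (hC : s.C ≤ H) {y : G} (hy : y ∈ H) (hyC : y ∉ s.C) :
    H = ⊤ := by
  have hpp : p.Prime := hpf.out
  have h1 : H.index ∣ p := s.hCi ▸ Subgroup.index_dvd_of_le hC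
  rcases (Nat.dvd_prime hpp).1 h1 with h2 | h2
  · exact Subgroup.index_eq_one.1 h2
  · exfalso
    have h3 := Subgroup.relIndex_mul_index hC
    rw [h2, s.hCi] at h3
    have h4 : s.C.relIndex H = 1 := Nat.eq_of_mul_eq_mul_right hpp.pos (by rw [h3, one_mul])
    exact hyC (Subgroup.relIndex_eq_one.1 h4 hy)

theorem exists_mem_E_notMem_Z : ∃ e ∈ s.E, e ∉ s.Z := by
  have hpp : p.Prime := hpf.out
  by_contra h
  push Not at h
  have h1 := Subgroup.card_le_of_le (show s.E ≤ s.Z from h)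
  rw [s.hEcard, s.hZcard] at h1
  have h4 := hpp.two_le
  nlinarith

omit [Finite G] in
theorem exists_eq_pow_mul {e0 : G} (he0 : e0 ∈ s.E) (he0Z : e0 ∉ s.Z) {e : G} (he : e ∈ s.E) :
    ∃ i : ℕ, ∃ z ∈ s.Z, e = e0 ^ i * z := by
  have hpp : p.Prime := hpf.out
  have hZn : (s.Z.subgroupOf s.E).Normal := by
    refine ⟨fun n hn g => ?_⟩
    rw [Subgroup.mem_subgroupOf] at hn ⊢
    have : ((g * n * g⁻¹ : ↥s.E) : G) = n := by
      push_cast
      rw [← s.hZc _ hn (g : G)]; group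
    rw [this]; exact hn
  have hcard : Nat.card (↥s.E ⧸ s.Z.subgroupOf s.E) = p := by
    have h1 := (s.Z.subgroupOf s.E).card_eq_card_quotient_mul_card_subgroup
    rw [s.hEcard, Nat.card_congr (Subgroup.subgroupOfEquivOfLe s.hZE).toEquiv, s.hZcard, sq] at h1
    exact (Nat.eq_of_mul_eq_mul_right hpp.pos h1).symm
  obtain ⟨i, hi⟩ := mem_powers_of_prime_card (p := p) hcard
    (g := (QuotientGroup.mk (⟨e0, he0⟩ : ↥s.E))) (g' := QuotientGroup.mk (⟨e, he⟩ : ↥s.E)) (by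
      intro h
      rw [QuotientGroup.eq_one_iff, Subgroup.mem_subgroupOf] at h
      exact he0Z h)
  simp only at hi
  rw [← QuotientGroup.mk_pow, QuotientGroup.eq, Subgroup.mem_subgroupOf] at hi
  exact ⟨i, _, hi, by simp⟩

/-- The conclusion for the family (b). -/
def IsB (n : ℕ) (p : ℕ) (G : Type u) [Group G] : Prop :=
  3 ≤ n ∧ ∃ x y z : G, Subgroup.closure ({x, y, z} : Set G) = ⊤ ∧ x ^ p = 1 ∧ y ^ p = 1 ∧
    z ^ p ^ (n - 2) = 1 ∧ x * z = z * x ∧ y * z = z * y ∧ x⁻¹ * y * x = y * z ^ p ^ (n - 3)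

/-- The conclusion for the family (c). -/
def IsC (n : ℕ) (p : ℕ) (G : Type u) [Group G] : Prop :=
  4 ≤ n ∧ ∃ (s : ℕ) (x y z : G), (s = 1 ∨ ¬ IsSquare (s : ZMod p)) ∧
    Subgroup.closure ({x, y, z} : Set G) = ⊤ ∧
    x ^ p = 1 ∧ y ^ p = 1 ∧ z ^ p ^ (n - 2) = 1 ∧ y * z = z * y ∧
    x⁻¹ * y * x = y * z ^ (s * p ^ (n - 3)) ∧ x⁻¹ * z * x = y * z

/-- The kernel of `φ` is cyclic. -/
theorem ker_isCyclic (hab : ∀ a ∈ s.C, ∀ b ∈ s.C, a * b = b * a) {y : G} (hy : y ∉ s.C) :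
    IsCyclic ↥(s.phi hab y).ker := by
  have hpp : p.Prime := hpf.out
  by_contra hnc
  obtain ⟨A, -, ⟨-, hAp⟩, hAcard⟩ := Cfsg.Agent.S0126.result (R := ↥(s.phi hab y).ker)
    s.hp2 ((s.hG.to_subgroup s.C).to_subgroup _) hnc
  have hZ : ∀ a ∈ A, ((a : ↥s.C) : G) ∈ s.Z := by
    intro a ha
    refine s.mem_Z_of_pow_eq_one (a : ↥s.C).2 hy ((s.phi_eq_one hab y a).1 a.2) ?_
    have := hAp a ha
    exact congrArg (fun t : ↥(s.phi hab y).ker => ((t : ↥s.C) : G)) this
  let F : A → ↥s.Z := fun a => ⟨((a : ↥(s.phi hab y).ker) : ↥s.C), hZ a a.2⟩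
  have hF : Function.Injective F := by
    intro a b h
    have h' : (a.1.1.1 : G) = b.1.1.1 := congrArg (fun t : ↥s.Z => (t : G)) h
    exact Subtype.ext (Subtype.ext (Subtype.ext h'))
  have h3 := Nat.card_le_card_of_injective F hF
  rw [hAcard, s.hZcard] at h3
  have h4 := hpp.two_le
  nlinarith

/-- an element `y` of order `p` outside `C` with `[C, y] ≤ E` gives the families (b), (c) -/
theorem isB_or_isC (hab : ∀ a ∈ s.C, ∀ b ∈ s.C, a * b = b * a) {n : ℕ}
    (hn : Nat.card G = p ^ n) {y : G} (hy : y ∉ s.C) (hyp : y ^ p = 1)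
    (hphi : ∀ c, s.phi hab y c ∈ s.E) : IsB n p G ∨ IsC n p G := by
  have hpp : p.Prime := hpf.out
  have hp2 : 2 < p := lt_of_le_of_ne hpp.two_le (Ne.symm s.hp2)
  set φ := s.phi hab y with hφ
  have hK : IsCyclic ↥φ.ker := s.ker_isCyclic hab hy
  obtain ⟨⟨w, hw⟩, hwgen⟩ := hK.exists_generator
  have hker : ∀ c : ↥s.C, φ c = 1 → ∃ i : ℤ, (c : G) = (w : G) ^ i := by
    intro c hc
    obtain ⟨i, hi⟩ := hwgen ⟨c, hc⟩
    refine ⟨i, ?_⟩
    have := congrArg (fun t : ↥φ.ker => ((t : ↥s.C) : G)) hi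
    simpa using this.symm
  have hwy : (w : G) * y = y * w := (s.phi_eq_one hab y w).1 hw
  obtain ⟨e0, he0, he0Z⟩ := s.exists_mem_E_notMem_Z
  set f : G := φ ⟨e0, s.hEC he0⟩ with hf
  have hfZ : f ∈ s.Z := s.phi_E hab y _ he0
  have hf1 : f ≠ 1 := by
    intro h
    exact he0Z (s.hZx e0 he0 y hy ((s.phi_eq_one hab y _).1 h))
  have he0y : y⁻¹ * e0 * y = e0 * f := s.conj_eq_phi hab y ⟨e0, s.hEC he0⟩
  -- orders
  have hC1 : Nat.card s.C * p = p ^ n := by
    have := s.C.card_mul_index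
    rwa [s.hCi, hn] at this
  have hn3 : 3 ≤ n := by
    have h1 : p ^ 2 ∣ Nat.card s.C := s.hEcard ▸ Subgroup.card_dvd_of_le s.hEC
    have h2 : p ^ 3 ∣ p ^ n := by
      rw [← hC1, pow_succ]; exact Nat.mul_dvd_mul_right h1 p
    exact (Nat.pow_dvd_pow_iff_le_right hpp.one_lt).1 h2
  obtain ⟨n, rfl⟩ : ∃ m, n = m + 3 := ⟨n - 3, by omega⟩
  have hCcard : Nat.card s.C = p ^ (n + 2) := by
    apply Nat.eq_of_mul_eq_mul_right hpp.pos
    rw [hC1]; ring
  have hKR : Nat.card φ.ker * Nat.card φ.range = p ^ (n + 2) := by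
    rw [← hCcard, ← Subgroup.card_mul_index φ.ker, Subgroup.index_ker]
  have hrange : Nat.card φ.range ∣ p ^ 2 := by
    rw [← s.hEcard]
    apply Subgroup.card_dvd_of_le
    rintro _ ⟨c, rfl⟩
    exact hphi c
  have hwo : orderOf (w : G) = Nat.card φ.ker := by
    have h1 : orderOf (⟨w, hw⟩ : ↥φ.ker) = Nat.card φ.ker := orderOf_eq_card_of_forall_mem_zpowers hwgen
    rw [← h1, Subgroup.orderOf_mk, Subgroup.orderOf_coe]
  have hZrange : s.Z ≤ φ.range := by
    intro z hz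
    obtain ⟨k, rfl⟩ := s.exists_pow_eq hfZ hf1 hz
    exact φ.range.pow_mem ⟨_, rfl⟩ k
  obtain ⟨j, hj2, hj⟩ := (Nat.dvd_prime_pow hpp).1 hrange
  have hj1 : 1 ≤ j := by
    have h1 := Subgroup.card_le_of_le hZrange
    rw [s.hZcard, hj] at h1
    rcases Nat.eq_zero_or_pos j with h0 | h0
    · rw [h0, pow_zero] at h1
      have := hpp.one_lt
      omega
    · exact h0
  rcases (show j = 1 ∨ j = 2 by omega) with rfl | rfl
  · -- family (b)
    left
    rw [pow_one] at hj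
    have hRZ : φ.range = s.Z := by
      symm
      exact Subgroup.eq_of_le_of_card_ge hZrange (by rw [hj, s.hZcard])
    have hKcard : Nat.card φ.ker = p ^ (n + 1) := by
      rw [hj] at hKR
      apply Nat.eq_of_mul_eq_mul_right hpp.pos
      rw [hKR]; ring
    rw [hKcard] at hwo
    set t : G := (w : G) ^ (p ^ n) with ht
    have htp : t ^ p = 1 := by
      rw [ht, ← pow_mul, ← pow_succ, ← hwo, pow_orderOf_eq_one]
    have ht1 : t ≠ 1 := by
      intro h
      have h1 : orderOf (w : G) ∣ p ^ n := orderOf_dvd_of_pow_eq_one h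
      rw [hwo] at h1
      have := (Nat.pow_dvd_pow_iff_le_right hpp.one_lt).1 h1
      omega
    have htZ : t ∈ s.Z := s.mem_Z_of_pow_eq_one (s.C.pow_mem w.2 _) hy
      ((show Commute (w : G) y from hwy).pow_left _).eq htp
    obtain ⟨k, hk⟩ := s.exists_pow_eq htZ ht1 hfZ
    have hpk : ¬ p ∣ k := by
      rintro ⟨m, rfl⟩
      rw [pow_mul, htp, one_pow] at hk
      exact hf1 hk
    have hzC : (w : G) ^ k ∈ s.C := s.C.pow_mem w.2 k
    refine ⟨by omega, y, e0, (w : G) ^ k, ?_, hyp, s.hEp e0 he0, ?_, ?_, ?_, ?_⟩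
    · have hyH : y ∈ Subgroup.closure ({y, e0, (w : G) ^ k} : Set G) :=
        Subgroup.subset_closure (by simp)
      have heH : e0 ∈ Subgroup.closure ({y, e0, (w : G) ^ k} : Set G) :=
        Subgroup.subset_closure (by simp)
      have hwkH : (w : G) ^ k ∈ Subgroup.closure ({y, e0, (w : G) ^ k} : Set G) :=
        Subgroup.subset_closure (by simp)
      have hwH : (w : G) ∈ Subgroup.closure ({y, e0, (w : G) ^ k} : Set G) := by
        refine mem_of_pow_pow (s := p ^ (n + 1)) (t := k) ?_ ?_ hwkH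
        · exact ((Nat.Prime.coprime_iff_not_dvd hpp).2 hpk).pow_left _
        · rw [← hwo, pow_orderOf_eq_one]; exact Subgroup.one_mem _
      refine s.eq_top_of_le ?_ hyH hy
      intro c hc
      have h1 : φ ⟨c, hc⟩ ∈ s.Z := hRZ ▸ (⟨_, rfl⟩ : φ ⟨c, hc⟩ ∈ φ.range)
      obtain ⟨i, hi⟩ := s.exists_pow_eq hfZ hf1 h1
      have h2 : φ (⟨c, hc⟩ * (⟨e0, s.hEC he0⟩ ^ i)⁻¹) = 1 := by
        rw [map_mul, map_inv, map_pow, ← hf, hi, mul_inv_cancel]
      obtain ⟨l, hl⟩ := hker _ h2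
      have h3 : c = (w : G) ^ l * e0 ^ i := by
        rw [← hl]; simp
      rw [h3]
      exact Subgroup.mul_mem _ (Subgroup.zpow_mem _ hwH l) (Subgroup.pow_mem _ heH i)
    · rw [show n + 3 - 2 = n + 1 by omega, ← pow_mul, mul_comm, pow_mul, ← hwo,
        pow_orderOf_eq_one, one_pow]
    · exact (((show Commute (w : G) y from hwy).pow_left k).symm).eq
    · exact hab _ (s.hEC he0) _ hzC
    · rw [he0y, hk, ht, show n + 3 - 3 = n by omega, ← pow_mul, ← pow_mul, mul_comm k]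
  · -- family (c)
    right
    have hRE : φ.range = s.E := by
      apply Subgroup.eq_of_le_of_card_ge
      · rintro _ ⟨c, rfl⟩
        exact hphi c
      · rw [hj, s.hEcard]
    have hKcard : Nat.card φ.ker = p ^ n := by
      rw [hj] at hKR
      apply Nat.eq_of_mul_eq_mul_right (pow_pos hpp.pos 2)
      rw [hKR]; ring
    rw [hKcard] at hwo
    -- `Z` is contained in the kernel
    have hfw : ∃ i : ℤ, f = (w : G) ^ i := by
      have := hker ⟨f, s.hEC (s.hZE hfZ)⟩ ((s.phi_eq_one hab y _).2 (s.hZc f hfZ y))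
      exact this
    have hn1 : 1 ≤ n := by
      rcases Nat.eq_zero_or_pos n with h0 | h0
      · exfalso
        rw [h0, pow_zero, orderOf_eq_one_iff] at hwo
        obtain ⟨i, hi⟩ := hfw
        rw [hwo, one_zpow] at hi
        exact hf1 hi
      · exact h0
    obtain ⟨n, rfl⟩ : ∃ m, n = m + 1 := ⟨n - 1, by omega⟩
    -- the element `c` with `φ c = e0`
    obtain ⟨⟨c, hc⟩, hce0⟩ : e0 ∈ φ.range := hRE ▸ he0
    have hcy : y⁻¹ * c * y = c * e0 := by rw [← hce0]; exact s.conj_eq_phi hab y ⟨c, hc⟩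
    have hcpker : φ (⟨c, hc⟩ ^ p) = 1 := by rw [map_pow, hce0, s.hEp e0 he0]
    obtain ⟨i, hi⟩ : ∃ i : ℕ, c ^ p = (w : G) ^ i := by
      obtain ⟨i, hi⟩ := hker _ hcpker
      have hi' : c ^ p = (w : G) ^ i := hi
      have hwfin : IsOfFinOrder (w : G) := isOfFinOrder_of_finite _
      obtain ⟨m, hm⟩ := (hwfin.mem_powers_iff_mem_zpowers (y := c ^ p)).2 ⟨i, hi'.symm⟩
      exact ⟨m, hm.symm⟩
    have hpi : ¬ p ∣ i := by
      rintro ⟨j, rfl⟩
      have hcj : Commute c ((w : G) ^ j) := hab c hc _ (s.C.pow_mem w.2 j)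
      have h1 : (c * ((w : G) ^ j)⁻¹) ^ p = 1 := by
        rw [hcj.inv_right.mul_pow, hi, inv_pow, ← pow_mul, mul_comm j p, mul_inv_cancel]
      have h2 : c * ((w : G) ^ j)⁻¹ ∈ s.E :=
        s.hOm _ (s.C.mul_mem hc (s.C.inv_mem (s.C.pow_mem w.2 j))) h1
      have h3 : φ (⟨c, hc⟩ * (w ^ j)⁻¹) ∈ s.Z := s.phi_E hab y _ h2
      rw [map_mul, map_inv, map_pow, hw, one_pow, inv_one, mul_one, hce0] at h3
      exact he0Z h3
    -- `t = c ^ (p ^ (n + 1))`
    set t : G := c ^ (p ^ (n + 1)) with ht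
    have htw : t = (w : G) ^ (i * p ^ n) := by
      rw [ht, pow_succ', pow_mul, hi, ← pow_mul]
    have htp : t ^ p = 1 := by
      rw [htw, ← pow_mul, mul_assoc, ← pow_succ, mul_comm, pow_mul, ← hwo, pow_orderOf_eq_one,
        one_pow]
    have ht1 : t ≠ 1 := by
      intro h
      rw [htw] at h
      have h1 : orderOf (w : G) ∣ i * p ^ n := orderOf_dvd_of_pow_eq_one h
      rw [hwo, pow_succ', Nat.mul_dvd_mul_iff_right (pow_pos hpp.pos n)] at h1
      exact hpi h1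
    have htZ : t ∈ s.Z := by
      refine s.mem_Z_of_pow_eq_one (s.C.pow_mem hc _) hy ?_ htp
      rw [htw]
      exact ((show Commute (w : G) y from hwy).pow_left _).eq
    obtain ⟨σ, hσ⟩ := s.exists_pow_eq htZ ht1 hfZ
    have hpσ : ¬ p ∣ σ := by
      rintro ⟨m, rfl⟩
      rw [pow_mul, htp, one_pow] at hσ
      exact hf1 hσ
    have hce : Commute c e0 := hab c hc _ (s.hEC he0)
    -- generation
    have hgen : ∀ H : Subgroup G, y ∈ H → e0 ∈ H → c ∈ H → H = ⊤ := by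
      intro H hyH heH hcH
      have hwH : (w : G) ∈ H := by
        refine mem_of_pow_pow (s := p ^ (n + 1)) (t := i) ?_ ?_ (hi ▸ H.pow_mem hcH p)
        · exact ((Nat.Prime.coprime_iff_not_dvd hpp).2 hpi).pow_left _
        · rw [← hwo, pow_orderOf_eq_one]; exact Subgroup.one_mem _
      refine s.eq_top_of_le ?_ hyH hy
      intro d hd
      have h1 : φ ⟨d, hd⟩ ∈ s.E := hphi _
      obtain ⟨j, z, hz, hjz⟩ := s.exists_eq_pow_mul he0 he0Z h1
      obtain ⟨l, hl⟩ := s.exists_pow_eq hfZ hf1 hz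
      have h2 : φ (⟨d, hd⟩ * (⟨c, hc⟩ ^ j * ⟨e0, s.hEC he0⟩ ^ l)⁻¹) = 1 := by
        rw [map_mul, map_inv, map_mul, map_pow, map_pow, ← hf, hce0, hjz, hl, mul_inv_cancel]
      obtain ⟨m, hm⟩ := hker _ h2
      have h3 : d = (w : G) ^ m * (c ^ j * e0 ^ l) := by
        rw [← hm]
        simp only [Subgroup.coe_mul, Subgroup.coe_inv, Subgroup.coe_pow]
        group
      rw [h3]
      exact H.mul_mem (H.zpow_mem hwH m) (H.mul_mem (H.pow_mem hcH j) (H.pow_mem heH l))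
    have hcn : c ^ p ^ (n + 1 + 3 - 2) = 1 := by
      rw [show n + 1 + 3 - 2 = n + 1 + 1 by omega, pow_succ p, pow_mul, ← ht, htp]
    have he3 : n + 1 + 3 - 3 = n + 1 := by omega
    refine ⟨by omega, ?_⟩
    by_cases hsq : IsSquare (σ : ZMod p)
    · -- normalize to `s = 1`
      obtain ⟨r, hr⟩ := hsq
      have hr0 : r ≠ 0 := by
        rintro rfl
        rw [mul_zero, ZMod.natCast_eq_zero_iff] at hr
        exact hpσ hr
      set a : ℕ := (r⁻¹).val with ha
      have har : (a : ZMod p) = r⁻¹ := ZMod.natCast_zmod_val _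
      have hpa : ¬ p ∣ a := by
        intro h
        rw [← ZMod.natCast_eq_zero_iff, har] at h
        exact hr0 (inv_eq_zero.1 h)
      have hmod : (((a ^ 2 * σ : ℕ)) : ZMod p) = (1 : ℕ) := by
        push_cast
        rw [har, hr]
        field_simp
      have hfa : f ^ (a ^ 2) = t := by
        have h1 : a ^ 2 * σ ≡ 1 [MOD p] := (ZMod.natCast_eq_natCast_iff _ _ _).1 hmod
        have h2 : t ^ (a ^ 2 * σ) = t ^ 1 :=
          pow_eq_pow_iff_modEq.2 (h1.of_dvd (orderOf_dvd_of_pow_eq_one htp))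
        rw [hσ, ← pow_mul, mul_comm, h2, pow_one]
      set y' : G := e0 ^ a * f ^ (a.choose 2) with hy'
      have hy'E : y' ∈ s.E := s.E.mul_mem (s.E.pow_mem he0 a) (s.E.pow_mem (s.hZE hfZ) _)
      have hfy : y⁻¹ * f * y = f * 1 := by rw [mul_assoc, s.hZc _ hfZ y]; group
      have hconj1 := conj_pow_chain (a3 := 1) hcy he0y hfy (by simp)
        (s.hZc _ hfZ _).symm (Commute.one_right _) a
      have hconj2 := conj_pow_chain (a2 := 1) (a3 := 1) he0y hfy (by simp) (by simp)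
        (Commute.one_right _) (Commute.one_right _) a
      rw [one_pow, mul_one] at hconj1
      rw [one_pow, one_pow, mul_one, mul_one] at hconj2
      refine ⟨1, y ^ a, y', c, Or.inl rfl, ?_, ?_, s.hEp _ hy'E, hcn, ?_, ?_, ?_⟩
      · have hyH : y ^ a ∈ Subgroup.closure ({y ^ a, y', c} : Set G) :=
          Subgroup.subset_closure (by simp)
        have heH : y' ∈ Subgroup.closure ({y ^ a, y', c} : Set G) :=
          Subgroup.subset_closure (by simp)
        have hcH : c ∈ Subgroup.closure ({y ^ a, y', c} : Set G) :=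
          Subgroup.subset_closure (by simp)
        have hcop : p.Coprime a := (Nat.Prime.coprime_iff_not_dvd hpp).2 hpa
        have hfH : f ∈ Subgroup.closure ({y ^ a, y', c} : Set G) := by
          rw [hσ, ht]; exact Subgroup.pow_mem _ (Subgroup.pow_mem _ hcH _) _
        refine hgen _ ?_ ?_ hcH
        · exact mem_of_pow_pow hcop (by rw [hyp]; exact Subgroup.one_mem _) hyH
        · refine mem_of_pow_pow hcop (by rw [s.hEp e0 he0]; exact Subgroup.one_mem _) ?_
          rw [hy'] at heH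
          exact (Subgroup.mul_mem_cancel_right _ (Subgroup.pow_mem _ hfH _)).1 heH
      · rw [← pow_mul, mul_comm, pow_mul, hyp, one_pow]
      · exact (hab _ (s.hEC hy'E) _ hc)
      · rw [one_mul, he3, ← ht, ← hfa, hy']
        have h1 : (y ^ a)⁻¹ * (e0 ^ a * f ^ (a.choose 2)) * y ^ a =
            ((y ^ a)⁻¹ * e0 * y ^ a) ^ a * f ^ (a.choose 2) := by
          rw [← conj_pow_eq]
          have h2 : f ^ (a.choose 2) * y ^ a = y ^ a * f ^ (a.choose 2) :=
            s.hZc _ (s.Z.pow_mem hfZ _) _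
          calc (y ^ a)⁻¹ * (e0 ^ a * f ^ (a.choose 2)) * y ^ a
              = (y ^ a)⁻¹ * e0 ^ a * (f ^ (a.choose 2) * y ^ a) := by simp only [mul_assoc]
            _ = _ := by rw [h2]; simp only [mul_assoc]
        have h3 : Commute e0 (f ^ a) := (s.hZc _ (s.Z.pow_mem hfZ a) _).symm
        rw [h1, hconj2, h3.mul_pow, ← pow_mul, ← sq, mul_assoc, mul_assoc,
          ← pow_add, ← pow_add, add_comm]
      · rw [hconj1, hy']
        have h1 : Commute c (e0 ^ a * f ^ (a.choose 2)) :=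
          (hce.pow_right a).mul_right (s.hZc _ (s.Z.pow_mem hfZ _) _).symm
        rw [mul_assoc, h1.eq]
    · refine ⟨σ, y, e0, c, Or.inr hsq, ?_, hyp, s.hEp e0 he0, hcn, hce.symm.eq, ?_, ?_⟩
      · exact hgen _ (Subgroup.subset_closure (by simp)) (Subgroup.subset_closure (by simp))
          (Subgroup.subset_closure (by simp))
      · rw [he0y, hσ, ht, he3, ← pow_mul, mul_comm σ]
      · rw [hcy, hce.eq]

end Setup

end Cfsg.Agent.H472.RankTwo
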