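import Mathlib
import Cfsg.Agent.H472.RankTwoD

/-!
# `p`-groups of rank at most two, `p` odd (Blackburn)

`exists_setup` : a non-metacyclic `p`-group of rank at most 2, `p` odd, has a `Setup`.
`main` : the classification.
-/

set_option autoImplicit false

namespace Cfsg.Agent.H472.RankTwo

open Cfsg.Agent.H472.PCentral

universe u

section

variable {p : ℕ} [hpf : Fact p.Prime] {G : Type u} [Group G] [Finite G]

omit [Finite G] in
theorem eq_pow_mul_of_card {Z E : Subgroup G} (hZcard : Nat.card Z = p)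
    (hEcard : Nat.card E = p ^ 2) (hZE : Z ≤ E) (hZc : ∀ z ∈ Z, ∀ g : G, z * g = g * z)
    {e0 : G} (he0 : e0 ∈ E) (he0Z : e0 ∉ Z) {e : G} (he : e ∈ E) :
    ∃ i : ℕ, ∃ z ∈ Z, e = e0 ^ i * z := by
  have hpp : p.Prime := hpf.out
  have hZn : (Z.subgroupOf E).Normal := by
    refine ⟨fun n hn g => ?_⟩
    rw [Subgroup.mem_subgroupOf] at hn ⊢
    have : ((g * n * g⁻¹ : ↥E) : G) = n := by
      push_cast
      rw [← hZc _ hn (g : G)]; group
    rw [this]; exact hn
  have hcard : Nat.card (↥E ⧸ Z.subgroupOf E) = p := by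
    have h1 := (Z.subgroupOf E).card_eq_card_quotient_mul_card_subgroup
    rw [hEcard, Nat.card_congr (Subgroup.subgroupOfEquivOfLe hZE).toEquiv, hZcard, sq] at h1
    exact (Nat.eq_of_mul_eq_mul_right hpp.pos h1).symm
  obtain ⟨i, hi⟩ := mem_powers_of_prime_card (p := p) hcard
    (g := (QuotientGroup.mk (⟨e0, he0⟩ : ↥E))) (g' := QuotientGroup.mk (⟨e, he⟩ : ↥E)) (by
      intro h
      rw [QuotientGroup.eq_one_iff, Subgroup.mem_subgroupOf] at h
      exact he0Z h)
  simp only at hi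
  rw [← QuotientGroup.mk_pow, QuotientGroup.eq, Subgroup.mem_subgroupOf] at hi
  exact ⟨i, _, hi, by simp⟩

/-- `[E, G] ≤ Z` -/
theorem comm_mem_of_card {Z E : Subgroup G} (hG : IsPGroup p G) (hEn : E.Normal)
    (hZcard : Nat.card Z = p)
    (hEcard : Nat.card E = p ^ 2) (hZE : Z ≤ E) (hZc : ∀ z ∈ Z, ∀ g : G, z * g = g * z)
    {e : G} (he : e ∈ E) (g : G) : e⁻¹ * g⁻¹ * e * g ∈ Z := by
  have hpp : p.Prime := hpf.out
  have hZn : Z.Normal := by
    refine ⟨fun n hn g => ?_⟩
    have : g * n * g⁻¹ = n := by rw [← hZc _ hn g]; group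
    rw [this]; exact hn
  have hEbn : (E.map (QuotientGroup.mk' Z)).Normal := hEn.map _ (QuotientGroup.mk'_surjective Z)
  have hcard : Nat.card (E.map (QuotientGroup.mk' Z)) = p := by
    have h1 := (E.map (QuotientGroup.mk' Z)).card_mul_index
    rw [Subgroup.index_map_eq E (QuotientGroup.mk'_surjective Z)
      (by rw [QuotientGroup.ker_mk']; exact hZE)] at h1
    have h2 := E.card_mul_index
    have h3 := Z.card_eq_card_quotient_mul_card_subgroup
    rw [hEcard] at h2
    rw [hZcard, ← h2, ← h1] at h3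
    have h4 : 0 < E.index := Nat.pos_of_ne_zero Subgroup.index_ne_zero_of_finite
    have h5 : Nat.card (E.map (QuotientGroup.mk' Z)) * (E.index * p) = p * (E.index * p) := by
      rw [← mul_assoc, ← h3]; ring
    exact Nat.eq_of_mul_eq_mul_right (Nat.mul_pos h4 hpp.pos) h5
  have hne : E.map (QuotientGroup.mk' Z) ≠ ⊥ := by
    intro h
    rw [h, Subgroup.card_bot] at hcard
    exact hpp.one_lt.ne hcard
  obtain ⟨Y, hYE, hYc, hYcard⟩ := Cfsg.Agent.Transfer.TausskyTwoGroup.exists_central_card_prime_le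
    (hG.to_quotient Z) _ hne
  have hYeq : Y = E.map (QuotientGroup.mk' Z) :=
    Subgroup.eq_of_le_of_card_ge hYE (by rw [hcard, hYcard])
  have h1 : (QuotientGroup.mk e : G ⧸ Z) ∈ Subgroup.center (G ⧸ Z) :=
    hYc (hYeq ▸ ⟨e, he, rfl⟩)
  have h2 := Subgroup.mem_center_iff.1 h1 (QuotientGroup.mk g)
  rw [← QuotientGroup.mk_mul, ← QuotientGroup.mk_mul, QuotientGroup.eq] at h2
  have h3 : e⁻¹ * g⁻¹ * e * g = (g * e)⁻¹ * (e * g) := by group
  rw [h3]; exact h2

theorem isMetacyclic_of_isCyclic {G : Type u} [Group G] (h : IsCyclic G) : Cfsg.IsMetacyclic G :=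
  ⟨⊤, inferInstance, inferInstance, by
    have : Subsingleton (G ⧸ (⊤ : Subgroup G)) := QuotientGroup.subsingleton_quotient_top
    infer_instance⟩

omit hpf [Finite G] in
theorem closure_pow_normal {C : Subgroup G} (hC : C.Normal) :
    (Subgroup.closure {y | ∃ c ∈ C, y = c ^ p}).Normal := by
  refine ⟨fun n hn g => ?_⟩
  have h1 : Subgroup.closure {y | ∃ c ∈ C, y = c ^ p} ≤
      (Subgroup.closure {y | ∃ c ∈ C, y = c ^ p}).comap (MulAut.conj g).toMonoidHom := by
    rw [Subgroup.closure_le]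
    rintro _ ⟨c, hc, rfl⟩
    rw [SetLike.mem_coe, Subgroup.mem_comap]
    apply Subgroup.subset_closure
    refine ⟨g * c * g⁻¹, hC.conj_mem c hc g, ?_⟩
    simp [conj_pow]
  simpa using h1 hn

theorem exists_setup (hp2 : p ≠ 2) (hG : IsPGroup p G) (hrk : Cfsg.PRankLE p 2 G)
    (hnm : ¬ Cfsg.IsMetacyclic G) : Nonempty (Setup p G) := by
  have hpp : p.Prime := hpf.out
  have hnc : ¬ IsCyclic G := fun h => hnm (isMetacyclic_of_isCyclic h)
  obtain ⟨E, hEn, ⟨hEab, hEp⟩, hEcard⟩ := Cfsg.Agent.S0126.result hp2 hG hnc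
  have hEne : E ≠ ⊥ := by
    intro h
    rw [h, Subgroup.card_bot] at hEcard
    have := Nat.one_lt_pow (n := 2) (by norm_num) hpp.one_lt
    omega
  obtain ⟨Z, hZE, hZcen, hZcard⟩ :=
    Cfsg.Agent.Transfer.TausskyTwoGroup.exists_central_card_prime_le hG E hEne
  have hZc : ∀ z ∈ Z, ∀ g : G, z * g = g * z := fun z hz g =>
    (Subgroup.mem_center_iff.1 (hZcen hz) g).symm
  have hEx : ∀ e ∈ E, ∀ g, e⁻¹ * g⁻¹ * e * g ∈ Z := fun e he g =>
    comm_mem_of_card hG hEn hZcard hEcard hZE hZc he g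
  have hEC : E ≤ Subgroup.centralizer (E : Set G) := by
    intro e he
    rw [Subgroup.mem_centralizer_iff]
    intro f hf
    exact setLike_mul_comm hf he
  set C : Subgroup G := Subgroup.centralizer (E : Set G) with hC
  have hCE : ∀ c ∈ C, ∀ e ∈ E, c * e = e * c := fun c hc e he =>
    ((Subgroup.mem_centralizer_iff.1 hc) e he).symm
  have hCn : C.Normal := by rw [hC]; infer_instance
  -- elements commuting with an element of `E` outside `Z`
  have hmemC : ∀ e ∈ E, e ∉ Z → ∀ g, e * g = g * e → g ∈ C := by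
    intro e he heZ g heg
    rw [hC, Subgroup.mem_centralizer_iff]
    intro f hf
    obtain ⟨i, z, hz, rfl⟩ := eq_pow_mul_of_card hZcard hEcard hZE hZc he heZ hf
    exact (((show Commute e g from heg).pow_left i).mul_left (hZc z hz g)).eq
  -- elements of order `p`
  have hOm : ∀ c ∈ C, c ^ p = 1 → c ∈ E := by
    intro c hc hcp
    by_contra hcE
    have hcomm : ∀ e ∈ E, ∀ i : ℤ, c ^ i * e = e * c ^ i := fun e he i =>
      ((show Commute c e from hCE c hc e he).zpow_left i).eq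
    let A : Subgroup G :=
      { carrier := {x | ∃ e ∈ E, ∃ i : ℤ, x = e * c ^ i}
        one_mem' := ⟨1, E.one_mem, 0, by simp⟩
        mul_mem' := by
          rintro _ _ ⟨e, he, i, rfl⟩ ⟨f, hf, j, rfl⟩
          refine ⟨e * f, E.mul_mem he hf, i + j, ?_⟩
          rw [zpow_add]
          calc e * c ^ i * (f * c ^ j) = e * (c ^ i * f) * c ^ j := by simp only [mul_assoc]
            _ = e * (f * c ^ i) * c ^ j := by rw [hcomm f hf i]
            _ = _ := by simp only [mul_assoc]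
        inv_mem' := by
          rintro _ ⟨e, he, i, rfl⟩
          refine ⟨e⁻¹, E.inv_mem he, -i, ?_⟩
          rw [mul_inv_rev, ← zpow_neg, hcomm _ (E.inv_mem he)] }
    have hAcomm : ∀ x ∈ A, ∀ y ∈ A, x * y = y * x := by
      rintro _ ⟨e, he, i, rfl⟩ _ ⟨f, hf, j, rfl⟩
      have h1 : Commute e f := setLike_mul_comm he hf
      have h2 : Commute (c ^ i) f := hcomm f hf i
      have h3 : Commute (c ^ j) e := hcomm e he j
      have h4 : Commute (c ^ i) (c ^ j) := (Commute.refl c).zpow_zpow i j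
      exact ((h1.mul_right h3.symm).mul_left (h2.mul_right h4)).eq
    have hAp : ∀ a ∈ A, a ^ p = 1 := by
      rintro _ ⟨e, he, i, rfl⟩
      have h1 : Commute e (c ^ i) := (hcomm e he i).symm
      rw [h1.mul_pow, hEp e he, one_mul, ← zpow_natCast, ← zpow_mul, mul_comm, zpow_mul,
        zpow_natCast, hcp, one_zpow]
    have hcard := hrk A ⟨⟨fun a b => Subtype.ext (hAcomm a a.2 b b.2)⟩⟩ hAp
    have hlt : E < A := by
      refine lt_of_le_of_ne (fun e he => ⟨e, he, 0, by simp⟩) ?_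
      intro h
      apply hcE
      rw [h]
      exact ⟨1, E.one_mem, 1, by simp⟩
    have h3 : Nat.card E < Nat.card A := Set.ncard_lt_ncard (by exact_mod_cast hlt)
    rw [hEcard] at h3
    omega
  have hPC : PC p ↥C := by
    intro c hc g
    have h1 : (c : G) ^ p = 1 := congrArg Subtype.val hc
    exact Subtype.ext (hCE g g.2 c (hOm c c.2 h1)).symm
  have homcard : Nat.card (om hPC) ≤ p ^ 2 := by
    rw [← hEcard]
    let F : om hPC → E := fun x => ⟨((x : ↥C) : G), hOm _ x.1.2 (by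
      have h1 : (x : ↥C) ^ p = 1 := x.2
      exact congrArg Subtype.val h1)⟩
    apply Nat.card_le_card_of_injective F
    intro x y h
    have h' : (x.1.1 : G) = y.1.1 := congrArg (fun t : ↥E => (t : G)) h
    exact Subtype.ext (Subtype.ext h')
  -- the index of `C`
  obtain ⟨e0, he0, he0Z⟩ : ∃ e ∈ E, e ∉ Z := by
    by_contra h
    push Not at h
    have h1 := Subgroup.card_le_of_le (show E ≤ Z from h)
    rw [hEcard, hZcard] at h1
    have h4 := hpp.two_le
    nlinarith
  have hidx : C.index ≤ p := by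
    rw [Subgroup.index, ← hZcard]
    let F : G ⧸ C → Z := fun q => ⟨e0⁻¹ * q.out⁻¹ * e0 * q.out, hEx e0 he0 _⟩
    apply Nat.card_le_card_of_injective F
    intro q r h
    have h1 : e0⁻¹ * q.out⁻¹ * e0 * q.out = e0⁻¹ * r.out⁻¹ * e0 * r.out := congrArg Subtype.val h
    have h2 : q.out⁻¹ * e0 * q.out = r.out⁻¹ * e0 * r.out := by
      have := congrArg (fun t => e0 * t) h1
      simpa only [← mul_assoc, mul_inv_cancel, one_mul] using this
    have h3 : e0 * (q.out * r.out⁻¹) = (q.out * r.out⁻¹) * e0 := by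
      calc e0 * (q.out * r.out⁻¹) = q.out * (q.out⁻¹ * e0 * q.out) * r.out⁻¹ := by group
        _ = q.out * (r.out⁻¹ * e0 * r.out) * r.out⁻¹ := by rw [h2]
        _ = _ := by group
    have h4 : q.out * r.out⁻¹ ∈ C := hmemC e0 he0 he0Z _ h3
    have h5 : q.out⁻¹ * r.out ∈ C := by
      have := hCn.conj_mem _ (C.inv_mem h4) q.out⁻¹
      have h6 : q.out⁻¹ * (q.out * r.out⁻¹)⁻¹ * q.out⁻¹⁻¹ = q.out⁻¹ * r.out := by group
      rwa [h6] at this
    rw [← QuotientGroup.out_eq' q, ← QuotientGroup.out_eq' r, QuotientGroup.eq]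
    exact h5
  have hCtop : C ≠ ⊤ := by
    intro h
    have hPG : PC p G := fun c hc g => (hCE g (h ▸ Subgroup.mem_top g) c
      (hOm c (h ▸ Subgroup.mem_top c) hc)).symm
    refine hnm (isMetacyclic hp2 hG hPG ?_)
    rw [← hEcard]
    apply Subgroup.card_le_of_le
    intro c hc
    exact hOm c (h ▸ Subgroup.mem_top c) hc
  have hCi : C.index = p := by
    obtain ⟨k, hk⟩ := hG.index C
    rcases Nat.lt_or_ge k 1 with h0 | h0
    · exfalso
      have : k = 0 := by omega
      rw [this, pow_zero] at hk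
      exact hCtop (Subgroup.index_eq_one.1 hk)
    · have h1 : p ^ k ≤ p ^ 1 := by rw [pow_one, ← hk]; exact hidx
      have h2 := (Nat.pow_le_pow_iff_right hpp.one_lt).1 h1
      rw [hk, show k = 1 by omega, pow_one]
  -- the `p`-th powers
  have hrel : ∀ T : Subgroup G, T.Normal → (∀ c ∈ C, c ^ p ∈ T) → (T ⊓ C).index ≤ p ^ 3 := by
    intro T hT hTp
    have h1 := index_le hp2 (hG.to_subgroup C) hPC (T.subgroupOf C) inferInstance
      (fun c => by rw [Subgroup.mem_subgroupOf]; exact hTp c c.2)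
    have h2 : (T ⊓ C).relIndex C * C.index = (T ⊓ C).index := Subgroup.relIndex_mul_index inf_le_right
    rw [Subgroup.inf_relIndex_right, hCi] at h2
    rw [← h2, pow_succ p 2]
    exact Nat.mul_le_mul (h1.trans homcard) le_rfl
  obtain ⟨T, hTn, hTp, hTi⟩ : ∃ T : Subgroup G, T.Normal ∧ (∀ x : G, x ^ p ∈ T) ∧ p ^ 2 < T.index := by
    by_contra h
    push Not at h
    exact hnm (Cfsg.Agent.PLocal.Huppert.isMetacyclic_of_quotients hp2 hG h)
  have hTi3 : p ^ 3 ≤ T.index := by
    obtain ⟨k, hk⟩ := hG.index T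
    rw [hk] at hTi ⊢
    exact Nat.pow_le_pow_right hpp.pos ((Nat.pow_lt_pow_iff_right hpp.one_lt).1 hTi)
  have hTle : T ≤ C := by
    have h1 := hrel T hTn (fun c _ => hTp c)
    have h2 : (T ⊓ C).index = T.index := by
      apply le_antisymm (h1.trans hTi3)
      exact Nat.le_of_dvd (Nat.pos_of_ne_zero Subgroup.index_ne_zero_of_finite)
        (Subgroup.index_dvd_of_le inf_le_left)
    have h3 := Subgroup.relIndex_mul_index (inf_le_left : T ⊓ C ≤ T)
    rw [h2] at h3
    have h4 : (T ⊓ C).relIndex T = 1 := by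
      apply Nat.eq_of_mul_eq_mul_right (Nat.pos_of_ne_zero (Subgroup.index_ne_zero_of_finite (H := T)))
      rw [h3, one_mul]
    exact (Subgroup.relIndex_eq_one.1 h4).trans inf_le_right
  set T0 : Subgroup G := Subgroup.closure {y | ∃ c ∈ C, y = c ^ p} with hT0
  have hT0n : T0.Normal := closure_pow_normal hCn
  have hT0T : T0 ≤ T := by
    rw [hT0, Subgroup.closure_le]
    rintro _ ⟨c, -, rfl⟩
    exact hTp c
  have hT0eq : T0 = T := by
    have h1 := hrel T0 hT0n (fun c hc => Subgroup.subset_closure ⟨c, hc, rfl⟩)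
    rw [inf_eq_left.2 (hT0T.trans hTle)] at h1
    have h2 : T0.index = T.index := by
      apply le_antisymm (h1.trans hTi3)
      exact Nat.le_of_dvd (Nat.pos_of_ne_zero Subgroup.index_ne_zero_of_finite)
        (Subgroup.index_dvd_of_le hT0T)
    have h3 := Subgroup.relIndex_mul_index hT0T
    rw [h2] at h3
    have h4 : T0.relIndex T = 1 := by
      apply Nat.eq_of_mul_eq_mul_right (Nat.pos_of_ne_zero (Subgroup.index_ne_zero_of_finite (H := T)))
      rw [h3, one_mul]
    exact le_antisymm hT0T (Subgroup.relIndex_eq_one.1 h4)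
  exact ⟨{ Z := Z, E := E, C := C, hp2 := hp2, hG := hG, hZcard := hZcard, hZc := hZc, hZE := hZE,
           hEn := hEn, hEcard := hEcard, hEp := hEp, hEC := hEC, hCE := hCE, hCn := hCn, hCi := hCi,
           hOm := hOm,
           hZx := fun e he g hg heg => by
             by_contra heZ
             exact hg (hmemC e he heZ g heg)
           hEx := hEx
           hpow := fun g => by rw [← hT0, hT0eq]; exact hTp g }⟩

/-- **Blackburn**: `p`-groups of rank at most two, `p` odd. -/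
theorem main (hp2 : p ≠ 2) (n : ℕ) (hG : Nat.card G = p ^ n) (hrk : Cfsg.PRankLE p 2 G) :
    Cfsg.IsMetacyclic G ∨ Setup.IsB n p G ∨ Setup.IsC n p G ∨
      (p = 3 ∧ 2 ≤ n ∧ (⊤ : Subgroup G).lowerCentralSeries (n - 2) ≠ ⊥) := by
  have hpp : p.Prime := hpf.out
  by_cases hm : Cfsg.IsMetacyclic G
  · exact Or.inl hm
  right
  have hGp : IsPGroup p G := IsPGroup.of_card hG
  obtain ⟨s⟩ := exists_setup hp2 hGp hrk hm
  have hn3 : 3 ≤ n := by
    have hC1 : Nat.card s.C * p = p ^ n := by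
      have := s.C.card_mul_index
      rwa [s.hCi, hG] at this
    have h1 : p ^ 2 ∣ Nat.card s.C := by
      have := Subgroup.card_dvd_of_le s.hEC
      rwa [s.hEcard] at this
    have h2 : p ^ 3 ∣ p ^ n := by
      rw [← hC1, pow_succ]; exact Nat.mul_dvd_mul_right h1 p
    exact (Nat.pow_dvd_pow_iff_le_right hpp.one_lt).1 h2
  obtain ⟨x, hx⟩ : ∃ x, x ∉ s.C := by
    by_contra h
    push Not at h
    have h1 : s.C = ⊤ := (Subgroup.eq_top_iff' _).2 h
    have h2 := s.hCi
    rw [h1, Subgroup.index_top] at h2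
    exact hpp.one_lt.ne h2
  have hcl : p = 3 ∧ Group.nilpotencyClass G = n - 1 →
      (p = 3 ∧ 2 ≤ n ∧ (⊤ : Subgroup G).lowerCentralSeries (n - 2) ≠ ⊥) := by
    rintro ⟨h3, hc⟩
    refine ⟨h3, by omega, fun h => ?_⟩
    have hnil : Group.IsNilpotent G := hGp.isNilpotent
    have := Subgroup.lowerCentralSeries_eq_bot_iff_nilpotencyClass_le.1 h
    omega
  by_cases hsm : ∀ a ∈ s.C, a ^ p ∈ s.E → a ^ p ∈ s.Z
  · obtain ⟨c0, hc0, hgen⟩ := s.exists_generator hsm
    have hab := s.comm_of_generator hc0 hgen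
    rcases s.exists_order_p hab hG hx with ⟨y, hy, hyp⟩ | h
    · rcases s.isB_or_isC hab hG hy hyp (s.phi_mem_E hsm hab hc0 hgen hyp) with h | h
      · exact Or.inl h
      · exact Or.inr (Or.inl h)
    · exact Or.inr (Or.inr (hcl h))
  · push Not at hsm
    obtain ⟨a, ha, hap, haZ⟩ := hsm
    obtain ⟨h3, hb⟩ := s.large_case ha hap haZ hx
    exact Or.inr (Or.inr (hcl ⟨h3, s.class_eq hG hx hb⟩))

end

end Cfsg.Agent.H472.RankTwo
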