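import Cfsg.Agent.H472.ComTwo
import Cfsg.Agent.KFacts.LargeAut
import Cfsg.Agent.KFacts.AutLarge
import Cfsg.Prelude.Def_KGroupFacts

/-!
# S4094 and S3842 at the prime 2: groups with an irreducible large extraspecial subgroup (helper472)

`Strong.sq_eq` : `a z = z` implies `a² = conj z`.
`noStrong_of_large` : the row of a group with an irreducible large extraspecial subgroup.
-/

set_option autoImplicit false
set_option linter.unusedSectionVars false

namespace Cfsg.Agent.H472.ComTwo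

open Subgroup Cfsg Cfsg.Agent.Co2Type.Quad Cfsg.Agent.KFacts.LargeO2
open Cfsg.Agent.Lib.Cores

universe u

variable {K : Type u} [Group K] {Q : Subgroup K} {z : K}

/-- `a x = x` modulo `⟨z⟩`. -/
def Eqz (z x y : K) : Prop := x = y ∨ x = y * z

/-- the fixed vectors modulo `⟨z⟩` form a `C(z)`-invariant subgroup -/
theorem exists_F (h : Large Q z) (hirr : Irr Q z) {a : MulAut K}
    (hcomp : ∀ c : K, c * z = z * c → ∀ y ∈ Q, a y = y ∨ a y = y * z → a (c * y * c⁻¹) = c * y * c⁻¹ ∨ a (c * y * c⁻¹) = c * y * c⁻¹ * z)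
    {x₀ : K} (hx₀ : x₀ ∈ Q) (hx₀1 : x₀ ≠ 1) (hx₀z : x₀ ≠ z) (hx₀' : a x₀ = x₀ ∨ a x₀ = x₀ * z) :
    ∀ x ∈ Q, a x = x ∨ a x = x * z := by
  let F : Subgroup K :=
    { carrier := {y | y ∈ Q ∧ (a y = y ∨ a y = y * z)}
      one_mem' := ⟨Q.one_mem, Or.inl (map_one a)⟩
      mul_mem' := by
        rintro c d ⟨hc, hc'⟩ ⟨hd, hd'⟩
        refine ⟨Q.mul_mem hc hd, ?_⟩
        rw [map_mul]
        have hdz := h.comm_z d hd
        rcases hc' with h1 | h1 <;> rcases hd' with h2 | h2
        · left; rw [h1, h2]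
        · right; rw [h1, h2]; group
        · right; rw [h1, h2, mul_assoc, ← hdz]; group
        · left
          rw [h1, h2]
          calc c * z * (d * z) = c * (z * d) * z := by group
            _ = c * (d * z) * z := by rw [hdz]
            _ = c * d * (z * z) := by group
            _ = c * d := by rw [h.z_sq, mul_one]
      inv_mem' := by
        rintro c ⟨hc, hc'⟩
        refine ⟨Q.inv_mem hc, ?_⟩
        rw [map_inv]
        rcases hc' with h1 | h1
        · left; rw [h1]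
        · right
          rw [h1, mul_inv_rev, h.z_inv]
          have := h.comm_z _ (Q.inv_mem hc)
          exact this.symm }
  have hF : ∀ y, y ∈ F ↔ y ∈ Q ∧ (a y = y ∨ a y = y * z) := fun _ => Iff.rfl
  rcases hirr F (fun y hy => ((hF y).1 hy).1) (fun g hg n hn =>
    (hF _).2 ⟨h.conj_mem g hg n ((hF n).1 hn).1, hcomp g hg n ((hF n).1 hn).1 ((hF n).1 hn).2⟩) with h1 | h1
  · exfalso
    rcases h1 x₀ ((hF x₀).2 ⟨hx₀, hx₀'⟩) with h2 | h2
    · exact hx₀1 h2
    · exact hx₀z h2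
  · intro x hx
    rw [← h1] at hx
    exact ((hF x).1 hx).2

/-- `a z = z` implies that `a` is on `Q` the conjugation by an element of `Q`. -/
theorem Strong.exists_u [Finite K] (hc : center K = ⊥) {a : MulAut K} (ha : Strong a)
    (h : Large Q z) (hirr : Irr Q z) {v : K} (hv : v ∈ Q) (hv1 : v ≠ 1) (hvz : v ≠ z) {D : Set K}
    (hD : ∀ d ∈ D, d * z = z * d)
    (hfix : ∀ x ∈ Q, (∀ d ∈ D, d * x * d⁻¹ = x ∨ d * x * d⁻¹ = x * z) → x = 1 ∨ x = z ∨ x = v ∨ x = v * z)
    (hvD : ∀ d ∈ D, d * v * d⁻¹ = v ∨ d * v * d⁻¹ = v * z) (haz : a z = z) :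
    ∃ u ∈ Q, ∀ x ∈ Q, a x = u * x * u⁻¹ := by
  have hne : ∃ x ∈ Q, x ≠ 1 ∧ x ≠ z := ⟨v, hv, hv1, hvz⟩
  have hCtop := centralizer_ne_top hc h.z_ne
  have hCinv := inv_centralizer haz
  -- `[a, C(z)] ≤ Q`
  obtain ⟨W, hWC, hW2, hWn, hW⟩ := ha.loc _ hCtop hCinv
  have hWQ : W ≤ Q := le_of_normal h hirr hne hW2 (fun w hw => mem_centralizer_singleton_iff.1 (hWC hw))
    (fun u hu w hw => hWn u (mem_centralizer_singleton_iff.2 hu) w hw)
  have hcom : ∀ c : K, c * z = z * c → (a c)⁻¹ * c ∈ Q := fun c hc' => hWQ (hW c (mem_centralizer_singleton_iff.2 hc'))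
  have haQ : ∀ x ∈ Q, a x ∈ Q := by
    intro x hx
    have h1 := hcom x (h.comm_z x hx)
    have h2 : a x = x * ((a x)⁻¹ * x)⁻¹ := by group
    rw [h2]
    exact Q.mul_mem hx (Q.inv_mem h1)
  -- conjugation by elements of `Q` is trivial modulo `⟨z⟩`
  have hQt : ∀ r ∈ Q, ∀ x ∈ Q, r * x * r⁻¹ = x ∨ r * x * r⁻¹ = x * z := by
    intro r hr x hx
    rcases h.comm r hr x hx with h1 | h1
    · left; rw [h1]; group
    · right
      rw [h1]
      calc x * r * z * r⁻¹ = x * (r * z) * r⁻¹ := by group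
        _ = x * (z * r) * r⁻¹ := by rw [h.comm_z r hr]
        _ = x * z := by group
  have hxz : ∀ x ∈ Q, x * z * z = x := fun x _ => by rw [mul_assoc, h.z_sq, mul_one]
  -- `a (c y c⁻¹) = c (a y) c⁻¹` modulo `⟨z⟩`
  have hcomp : ∀ c : K, c * z = z * c → ∀ y ∈ Q, a (c * y * c⁻¹) = c * a y * c⁻¹ ∨ a (c * y * c⁻¹) = c * a y * c⁻¹ * z := by
    intro c hc' y hy
    have hr : a c * c⁻¹ ∈ Q := by
      have h1 := hcom c hc'
      have h2 : a c * c⁻¹ = c * ((a c)⁻¹ * c)⁻¹ * c⁻¹ := by group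
      rw [h2]
      exact h.conj_mem c hc' _ (Q.inv_mem h1)
    have e : a (c * y * c⁻¹) = (a c * c⁻¹) * (c * a y * c⁻¹) * (a c * c⁻¹)⁻¹ := by
      rw [map_mul, map_mul, map_inv]; group
    rw [e]
    exact hQt _ hr _ (h.conj_mem c hc' _ (haQ y hy))
  have hcz : ∀ c : K, c * z = z * c → ∀ y : K, c * (y * z) * c⁻¹ = c * y * c⁻¹ * z := by
    intro c hc' y
    have h1 : z * c⁻¹ = c⁻¹ * z := by
      rw [eq_inv_mul_iff_mul_eq, ← mul_assoc, hc', mul_assoc, mul_inv_cancel, mul_one]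
    calc c * (y * z) * c⁻¹ = c * y * (z * c⁻¹) := by group
      _ = c * y * c⁻¹ * z := by rw [h1]; group
  -- `v` is fixed modulo `⟨z⟩`
  have hv' : a v = v ∨ a v = v * z := by
    rcases hfix (a v) (haQ v hv) (fun d hd => by
      have hdz := hD d hd
      have h1 := hcomp d hdz v hv
      have h2 : a (d * v * d⁻¹) = a v ∨ a (d * v * d⁻¹) = a v * z := by
        rcases hvD d hd with h3 | h3
        · left; rw [h3]
        · right; rw [h3, map_mul, haz]
      rcases h1 with h1 | h1 <;> rcases h2 with h2 | h2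
      · left; rw [← h1, h2]
      · right; rw [← h1, h2]
      · right
        have h4 := h1.symm.trans h2
        calc d * a v * d⁻¹ = d * a v * d⁻¹ * z * z := (hxz _ (h.conj_mem d hdz _ (haQ v hv))).symm
          _ = a v * z := by rw [h4]
      · left
        have h4 := h1.symm.trans h2
        exact mul_right_cancel h4) with h1 | h1 | h1 | h1
    · exact absurd (a.injective (h1.trans (map_one a).symm)) hv1
    · exact absurd (a.injective (h1.trans haz.symm)) hvz
    · exact Or.inl h1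
    · exact Or.inr h1
  have hall := exists_F h hirr (fun c hc' y hy hy' => by
    have h1 := hcomp c hc' y hy
    have hcy := h.conj_mem c hc' y hy
    rcases h1 with h1 | h1 <;> rcases hy' with h2 | h2
    · left; rw [h1, h2]
    · right; rw [h1, h2, hcz c hc']
    · right; rw [h1, h2]
    · left; rw [h1, h2, hcz c hc', hxz _ hcy]) hv hv1 hvz hv'
  exact Cfsg.Agent.KFacts.LargeAut.exists_conj_on_Q h a haz hall

/-- **`a z = z` implies `a² = conj z`.** -/
theorem Strong.sq_eq {a : MulAut K} (ha : Strong a) {g : K} (hg : a * a = MulAut.conj g)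
    (h : Large Q z) {u : K} (hu : u ∈ Q) (hua : ∀ x ∈ Q, a x = u * x * u⁻¹) : g = z := by
  have hxz : ∀ x ∈ Q, x * z * z = x := fun x _ => by rw [mul_assoc, h.z_sq, mul_one]
  -- the square of `a` is trivial on `Q`
  have hau : a u = u := by rw [hua u hu]; group
  have hsq : ∀ x ∈ Q, a (a x) = x := by
    intro x hx
    rw [hua x hx, map_mul, map_mul, map_inv, hau, hua x hx]
    rcases h.sq u hu with h1 | h1
    · calc u * (u * x * u⁻¹) * u⁻¹ = (u * u) * x * (u * u)⁻¹ := by group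
        _ = x := by rw [h1]; group
    · calc u * (u * x * u⁻¹) * u⁻¹ = (u * u) * x * (u * u)⁻¹ := by group
        _ = x := by rw [h1, h.z_inv, ← h.comm_z x hx, hxz x hx]
  have hgx : ∀ x ∈ Q, g * x = x * g := by
    intro x hx
    have h1 := DFunLike.congr_fun hg x
    rw [MulAut.mul_apply, MulAut.conj_apply, hsq x hx] at h1
    exact eq_mul_inv_iff_mul_eq.1 h1 |>.symm
  have hgz : g * z = z * g := hgx z h.z_mem
  rcases h.cent g (h.self g hgz hgx) hgx with h1 | h1
  · exfalso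
    apply ha.sq
    rw [hg, h1, map_one]
  · exact h1

/-- A conjugate of `z` in `Q`, different from `z`, commutes with any given element of `Q`. -/
theorem exists_conj_comm [Finite K] (h : Large Q z) (hirr : Irr Q z) {n : K} (hn : n * z * n⁻¹ ∈ Q) (hnz : n * z * n⁻¹ ≠ z)
    {u : K} (hu : u ∈ Q) : ∃ c : K, c * z * c⁻¹ ∈ Q ∧ c * z * c⁻¹ ≠ z ∧ u * (c * z * c⁻¹) = (c * z * c⁻¹) * u := by
  by_contra hcon
  push Not at hcon
  have hcz : ∀ c : K, c * z = z * c → c⁻¹ * z = z * c⁻¹ := by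
    intro c hc'
    rw [inv_mul_eq_iff_eq_mul, ← mul_assoc, hc', mul_assoc, mul_inv_cancel, mul_one]
  -- the product of `u` and a conjugate of `u` under `C(z)` commutes with the conjugates
  have key : ∀ c : K, c * z = z * c → ∀ y : K, (∃ d : K, y = d * z * d⁻¹) → y ∈ Q → y ≠ z →
      u * (c * u * c⁻¹) * y = y * (u * (c * u * c⁻¹)) := by
    intro c hc' y hd hy hyz
    obtain ⟨d, rfl⟩ := hd
    set y := d * z * d⁻¹ with hydef
    have huc : c * u * c⁻¹ ∈ Q := h.conj_mem c hc' u hu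
    have h1 : u * y = y * u * z := by
      rcases h.comm u hu y hy with h2 | h2
      · exact absurd h2 (hcon d hy hyz)
      · exact h2
    have hy2 : c⁻¹ * y * c ∈ Q := by
      have := h.conj_mem c⁻¹ (hcz c hc') y hy
      rwa [inv_inv] at this
    have hy3 : c⁻¹ * y * c ≠ z := by
      intro h2
      apply hyz
      have h3 : y = c * z * c⁻¹ := by rw [← h2]; group
      rw [h3, hc']; group
    have h2 : u * (c⁻¹ * y * c) = (c⁻¹ * y * c) * u * z := by
      have h4 : (c⁻¹ * d) * z * (c⁻¹ * d)⁻¹ = c⁻¹ * y * c := by rw [hydef]; group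
      rcases h.comm u hu _ hy2 with h3 | h3
      · exfalso
        have h5 := hcon (c⁻¹ * d) (by rw [h4]; exact hy2) (by rw [h4]; exact hy3)
        rw [h4] at h5
        exact h5 h3
      · exact h3
    have h3 : (c * u * c⁻¹) * y = y * (c * u * c⁻¹) * z := by
      calc (c * u * c⁻¹) * y = c * (u * (c⁻¹ * y * c)) * c⁻¹ := by group
        _ = c * ((c⁻¹ * y * c) * u * z) * c⁻¹ := by rw [h2]
        _ = y * (c * u) * (z * c⁻¹) := by group
        _ = y * (c * u) * (c⁻¹ * z) := by rw [hcz c hc']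
        _ = y * (c * u * c⁻¹) * z := by group
    calc u * (c * u * c⁻¹) * y = u * ((c * u * c⁻¹) * y) := by group
      _ = u * y * (c * u * c⁻¹) * z := by rw [h3]; group
      _ = y * u * (z * (c * u * c⁻¹)) * z := by rw [h1]; group
      _ = y * u * ((c * u * c⁻¹) * z) * z := by rw [h.comm_z _ huc]
      _ = y * (u * (c * u * c⁻¹)) * (z * z) := by group
      _ = y * (u * (c * u * c⁻¹)) := by rw [h.z_sq, mul_one]
  -- the subgroup generated by the conjugates of `z` in `Q`
  set J : Subgroup K := closure {y | (∃ d : K, y = d * z * d⁻¹) ∧ y ∈ Q ∧ y ≠ z} with hJ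
  have hJQ : J ≤ Q := by
    rw [hJ, closure_le]
    rintro y ⟨-, hy, -⟩
    exact hy
  have hJQ' : J = Q := by
    rcases hirr J hJQ (fun c hc' y hy => by
      have h1 : J ≤ J.comap (MulAut.conj c).toMonoidHom := by
        conv_lhs => rw [hJ]
        rw [closure_le]
        rintro y ⟨⟨d, rfl⟩, hyQ, hyz⟩
        show c * (d * z * d⁻¹) * c⁻¹ ∈ J
        apply Subgroup.subset_closure
        refine ⟨⟨c * d, by group⟩, h.conj_mem c hc' _ hyQ, fun h2 => hyz ?_⟩
        have h3 : d * z * d⁻¹ = c⁻¹ * (c * (d * z * d⁻¹) * c⁻¹) * c := by group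
        rw [h3, h2, hcz c hc']; group
      exact h1 hy) with h1 | h1
    · exfalso
      have h2 : n * z * n⁻¹ ∈ J := Subgroup.subset_closure ⟨⟨n, rfl⟩, hn, hnz⟩
      rcases h1 _ h2 with h3 | h3
      · apply h.z_ne
        have h4 : z = n⁻¹ * (n * z * n⁻¹) * n := by group
        rw [h4, h3]; group
      · exact hnz h3
    · exact h1
  -- `u` is `C(z)`-invariant modulo `⟨z⟩`
  have hinv : ∀ c : K, c * z = z * c → c * u * c⁻¹ = u⁻¹ ∨ c * u * c⁻¹ = u⁻¹ * z := by
    intro c hc'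
    have huc : c * u * c⁻¹ ∈ Q := h.conj_mem c hc' u hu
    have h1 : ∀ y ∈ Q, (u * (c * u * c⁻¹)) * y = y * (u * (c * u * c⁻¹)) := by
      intro y hy
      rw [← hJQ'] at hy
      have h2 : J ≤ centralizer ({u * (c * u * c⁻¹)} : Set K) := by
        rw [hJ, closure_le]
        rintro w ⟨hd, hw, hwz⟩
        exact mem_centralizer_singleton_iff.2 (key c hc' w hd hw hwz).symm
      exact (mem_centralizer_singleton_iff.1 (h2 hy)).symm
    rcases h.cent _ (Q.mul_mem hu huc) h1 with h2 | h2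
    · left; exact eq_inv_of_mul_eq_one_right h2
    · right; rw [← h2]; group
  -- contradiction: `⟨u, z⟩` is invariant, hence everything
  have hzz : Q.Normal → True := fun _ => trivial
  set L : Subgroup K := centralizer ({u} : Set K) ⊓ Q with hL
  -- the elements of `Q` commuting with `u` form a `C(z)`-invariant subgroup
  have hLinv : ∀ c : K, c * z = z * c → ∀ y ∈ L, c * y * c⁻¹ ∈ L := by
    rintro c hc' y ⟨hy1, hy2⟩
    refine ⟨?_, h.conj_mem c hc' y hy2⟩
    show c * y * c⁻¹ ∈ centralizer ({u} : Set K)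
    have hy1' : y * u = u * y := mem_centralizer_singleton_iff.1 hy1
    rw [mem_centralizer_singleton_iff]
    have h1 := hinv c⁻¹ (hcz c hc')
    rw [inv_inv] at h1
    -- `y` commutes with `c⁻¹ u c`
    have h2 : y * (c⁻¹ * u * c) = (c⁻¹ * u * c) * y := by
      have h3 : y * u⁻¹ = u⁻¹ * y := by
        rw [eq_inv_mul_iff_mul_eq, ← mul_assoc, ← hy1', mul_assoc, mul_inv_cancel, mul_one]
      rcases h1 with h1 | h1
      · rw [h1, h3]
      · rw [h1]
        calc y * (u⁻¹ * z) = (y * u⁻¹) * z := by group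
          _ = u⁻¹ * (y * z) := by rw [h3]; group
          _ = u⁻¹ * z * y := by rw [h.comm_z y hy2]; group
    calc c * y * c⁻¹ * u = c * (y * (c⁻¹ * u * c)) * c⁻¹ := by group
      _ = c * ((c⁻¹ * u * c) * y) * c⁻¹ := by rw [h2]
      _ = u * (c * y * c⁻¹) := by group
  rcases hirr L inf_le_right hLinv with h1 | h1
  · -- `L ≤ ⟨z⟩`, so `u` is `1` or `z`
    have hun : u = 1 ∨ u = z := h1 u ⟨mem_centralizer_singleton_iff.2 rfl, hu⟩
    apply hcon n hn hnz
    rcases hun with h2 | h2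
    · rw [h2, one_mul, mul_one]
    · rw [h2]
      exact (h.comm_z _ hn).symm
  · have h2 : n * z * n⁻¹ ∈ L := by rw [h1]; exact hn
    exact hcon n hn hnz (mem_centralizer_singleton_iff.1 h2.1).symm

theorem conj_inj (hc : center K = ⊥) {g g' : K} (hg : MulAut.conj g = MulAut.conj g') : g = g' := by
  have h4 : g * g'⁻¹ ∈ center K := by
    rw [mem_center_iff]
    intro s
    have h5 := DFunLike.congr_fun hg (g'⁻¹ * s * g')
    simp only [MulAut.conj_apply] at h5
    calc s * (g * g'⁻¹) = g' * (g'⁻¹ * s * g') * g'⁻¹ * (g * g'⁻¹) := by group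
      _ = g * (g'⁻¹ * s * g') * g⁻¹ * (g * g'⁻¹) := by rw [h5]
      _ = g * g'⁻¹ * s := by group
  rw [hc, mem_bot, mul_inv_eq_one] at h4
  exact h4

theorem congr_conj (e : MulAut K) (g : K) : MulAut.congr e (MulAut.conj g) = MulAut.conj (e g) := by
  ext s
  show e (g * e.symm s * g⁻¹) = e g * s * (e g)⁻¹
  rw [map_mul, map_mul, map_inv, MulEquiv.apply_symm_apply]

/-- **The row of a group with an irreducible large extraspecial subgroup.** -/
theorem noStrong_of_large [Finite K] (hc : center K = ⊥) (hout : ∀ a : MulAut K, ∃ g : K, a * a = MulAut.conj g)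
    (h : Large Q z) (hirr : Irr Q z) {v : K} (hv : v ∈ Q) (hv1 : v ≠ 1) (hvz : v ≠ z) {D : Set K}
    (hD : ∀ d ∈ D, d * z = z * d)
    (hfix : ∀ x ∈ Q, (∀ d ∈ D, d * x * d⁻¹ = x ∨ d * x * d⁻¹ = x * z) → x = 1 ∨ x = z ∨ x = v ∨ x = v * z)
    (hvD : ∀ d ∈ D, d * v * d⁻¹ = v ∨ d * v * d⁻¹ = v * z)
    {n : K} (hn : n * z * n⁻¹ ∈ Q) (hnz : n * z * n⁻¹ ≠ z)
    (hodd : ¬ 2 ∣ (centralizer ({z} : Set K)).index) : NoStrong K := by
  have hf : Fact (Nat.Prime 2) := ⟨Nat.prime_two⟩
  have key : ∀ a : MulAut K, Strong a → a z = z → a * a = MulAut.conj z := by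
    intro a ha haz
    obtain ⟨g, hg⟩ := hout a
    obtain ⟨u, hu, hua⟩ := ha.exists_u hc h hirr hv hv1 hvz hD hfix hvD haz
    rw [hg, ha.sq_eq hg h hu hua]
  -- it is enough to consider `a z = z`
  have main : ∀ a : MulAut K, Strong a → a z = z → False := by
    intro a ha haz
    obtain ⟨u, hu, hua⟩ := ha.exists_u hc h hirr hv hv1 hvz hD hfix hvD haz
    obtain ⟨c, hcQ, hcz, hcu⟩ := exists_conj_comm h hirr hn hnz hu
    have h1 := key a ha haz
    have h2 : a (c * z * c⁻¹) = c * z * c⁻¹ := by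
      rw [hua _ hcQ, hcu]; group
    have h3 : (MulAut.congr (MulAut.conj c⁻¹) a) z = z := by
      show c⁻¹ * a ((MulAut.conj c⁻¹).symm z) * c⁻¹⁻¹ = z
      have h4 : (MulAut.conj c⁻¹).symm z = c * z * c⁻¹ := by
        rw [MulEquiv.symm_apply_eq, MulAut.conj_apply]; group
      rw [h4, h2]; group
    have h4 := key _ (ha.congr (MulAut.conj c⁻¹)) h3
    rw [← map_mul, h1, congr_conj] at h4
    have h5 := conj_inj hc h4
    apply hcz
    rw [MulAut.conj_apply] at h5
    calc c * z * c⁻¹ = c * (c⁻¹ * z * c⁻¹⁻¹) * c⁻¹ := by rw [h5]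
      _ = z := by group
  intro a ha
  obtain ⟨T, hT⟩ := ha.syl
  obtain ⟨S, hS⟩ := Cfsg.Agent.KFacts.AutLarge.exists_sylow (K := K) (z := z) (Nat.not_even_iff_odd.1 (by rwa [even_iff_two_dvd]))
  have hQS := Cfsg.Agent.KFacts.AutLarge.le_sylow h S hS
  obtain ⟨g, hg⟩ := MulAction.exists_smul_eq K S T
  have hmem : ∀ s : K, s ∈ (S : Subgroup K) → g * s * g⁻¹ ∈ (T : Subgroup K) := by
    intro s hs
    rw [← hg]
    exact ⟨s, hs, rfl⟩
  have hmem' : ∀ t : K, t ∈ (T : Subgroup K) → g⁻¹ * t * g ∈ (S : Subgroup K) := by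
    intro t ht
    rw [← hg] at ht
    obtain ⟨s, hs, hs'⟩ := ht
    have : t = g * s * g⁻¹ := hs'.symm
    rw [this]
    have h1 : g⁻¹ * (g * s * g⁻¹) * g = s := by group
    rw [h1]
    exact hs
  set b := MulAut.congr (MulAut.conj g⁻¹) a with hb
  have hbS : Inv b (S : Subgroup K) := by
    intro s hs
    have h1 : b s = g⁻¹ * a (g * s * g⁻¹) * g := by
      show (MulAut.conj g⁻¹) (a ((MulAut.conj g⁻¹).symm s)) = _
      have h4 : (MulAut.conj g⁻¹).symm s = g * s * g⁻¹ := by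
        rw [MulEquiv.symm_apply_eq, MulAut.conj_apply]; group
      rw [h4, MulAut.conj_apply]; group
    rw [h1]
    exact hmem' _ (hT _ (hmem s hs))
  have hbb := ha.congr (MulAut.conj g⁻¹)
  refine main b hbb ?_
  -- `b z` is central in `S`
  have hbij : ∀ s ∈ (S : Subgroup K), ∃ s' ∈ (S : Subgroup K), b s' = s := by
    intro s hs
    have h1 : (S : Subgroup K).map b.toMonoidHom ≤ S := by
      rintro _ ⟨s', hs', rfl⟩
      exact hbS s' hs'
    have h2 : (S : Subgroup K).map b.toMonoidHom = S := by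
      apply Subgroup.eq_of_le_of_card_ge h1
      rw [Subgroup.card_map_of_injective b.injective]
    rw [← h2] at hs
    exact hs
  have hbz : b z ∈ (S : Subgroup K) := hbS z (hQS h.z_mem)
  have hcen : ∀ s ∈ (S : Subgroup K), s * b z = b z * s := by
    intro s hs
    obtain ⟨s', hs', rfl⟩ := hbij s hs
    rw [← map_mul, ← map_mul, mem_centralizer_singleton_iff.1 (hS hs')]
  have hbzz : b z * z = z * b z := (hcen z (hQS h.z_mem)).symm
  have hbQ : ∀ x ∈ Q, b z * x = x * b z := fun x hx => (hcen x (hQS hx)).symm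
  rcases h.cent (b z) (h.self (b z) hbzz hbQ) hbQ with h1 | h1
  · exact absurd (b.injective (h1.trans (map_one b).symm)) h.z_ne
  · exact h1

/-- The same with the centralizer condition of `AutLarge.eq_conj_of_comm`. -/
theorem noStrong_of_large' [Finite K] (hc : center K = ⊥) (hout : ∀ a : MulAut K, ∃ g : K, a * a = MulAut.conj g)
    (h : Large Q z) (hirr : Irr Q z) {v : K} (hv : v ∈ Q) (hv1 : v ≠ 1) (hvz : v ≠ z)
    (hcen : ∀ y ∈ Q, (∀ c : K, c * z = z * c → Cfsg.Agent.KFacts.AutLarge.Eqz z (c * v * c⁻¹) v →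
      Cfsg.Agent.KFacts.AutLarge.Eqz z (c * y * c⁻¹) y) →
      Cfsg.Agent.KFacts.AutLarge.Eqz z y 1 ∨ Cfsg.Agent.KFacts.AutLarge.Eqz z y v)
    {n : K} (hn : n * z * n⁻¹ ∈ Q) (hnz : n * z * n⁻¹ ≠ z)
    (hodd : ¬ 2 ∣ (centralizer ({z} : Set K)).index) : NoStrong K := by
  refine noStrong_of_large hc hout h hirr hv hv1 hvz (D := {c : K | c * z = z * c ∧
    Cfsg.Agent.KFacts.AutLarge.Eqz z (c * v * c⁻¹) v}) (fun d hd => hd.1) ?_ (fun d hd => hd.2) hn hnz hodd
  intro x hx hd
  rcases hcen x hx (fun c hc1 hc2 => hd c ⟨hc1, hc2⟩) with h1 | h1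
  · rcases h1 with h1 | h1
    · exact Or.inl h1
    · exact Or.inr (Or.inl (by rw [h1, one_mul]))
  · rcases h1 with h1 | h1
    · exact Or.inr (Or.inr (Or.inl h1))
    · exact Or.inr (Or.inr (Or.inr h1))

/-- squares of automorphisms are inner, if there are at most two classes -/
theorem sq_inner_of_index [Finite K] (h : (MulAut.conj : K →* MulAut K).range.index = 1 ∨
    (MulAut.conj : K →* MulAut K).range.index = 2) (a : MulAut K) : ∃ g : K, a * a = MulAut.conj g := by
  rcases h with h | h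
  · rw [Subgroup.index_eq_one] at h
    have h1 : a ∈ (MulAut.conj : K →* MulAut K).range := by rw [h]; trivial
    obtain ⟨g, hg⟩ := h1
    exact ⟨g * g, by rw [map_mul, hg]⟩
  · have h1 : a * a ∈ (MulAut.conj : K →* MulAut K).range := Subgroup.mul_self_mem_of_index_two h a
    obtain ⟨g, hg⟩ := h1
    exact ⟨g, hg.symm⟩

/-- squares of automorphisms are inner, if `|Out| ≤ 2` -/
theorem sq_inner_of_out [Finite K] (h : Nat.card (Out K) ≤ 2) (a : MulAut K) : ∃ g : K, a * a = MulAut.conj g := by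
  refine sq_inner_of_index ?_ a
  have h1 : (Inn K).index ≤ 2 := h
  have h2 : (Inn K).index ≠ 0 := Subgroup.index_ne_zero_of_finite
  have h3 : (MulAut.conj : K →* MulAut K).range.index = (Inn K).index := rfl
  omega

end Cfsg.Agent.H472.ComTwo
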