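import Cfsg.Agent.H472.ComAut
import Cfsg.Agent.Lib.Cores
import Cfsg.Agent.TwoFusion.FStarControl
import Cfsg.Agent.Lib.BenderMaximal

/-!
# Reductions for the commutator statements S4094, S3842, S4096 (helper472)

`MinCtx p S x` : a minimal counterexample to S4094 (`G = S⟨x⟩` almost simple).
`red` : S4094 holds for all finite groups if there is no `MinCtx`.
-/

set_option autoImplicit false

namespace Cfsg.Agent.H472.ComRed

open Subgroup Cfsg
open Cfsg.Agent.SignalizersComponents.Components
open Cfsg.Agent.H472.ComAut
open Cfsg.Agent.TwoFusion.FStarControl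
open Cfsg.Agent.Lib.Cores

universe u

variable {G : Type u} [Group G]

/-- The commutator `x⁻¹g⁻¹xg`. -/
abbrev cm (x g : G) : G := x⁻¹ * g⁻¹ * x * g

theorem cm_eq (x g : G) : cm x g = (x⁻¹ * g * x)⁻¹ * g := by unfold cm; group

theorem cm_eq' (x g : G) : cm x g = x⁻¹ * (g⁻¹ * x * g) := by unfold cm; group

theorem cm_eq_one {x g : G} : cm x g = 1 ↔ x * g = g * x := by
  unfold cm
  constructor
  · intro h
    have : x⁻¹ * g⁻¹ * x * g = 1 := h
    calc x * g = g * x * (x⁻¹ * g⁻¹ * x * g) := by group
      _ = g * x := by rw [this, mul_one]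
  · intro h
    calc x⁻¹ * g⁻¹ * x * g = x⁻¹ * g⁻¹ * (x * g) := by group
      _ = 1 := by rw [h]; group

theorem cm_mem {N : Subgroup G} (hN : N.Normal) (x : G) {g : G} (hg : g ∈ N) : cm x g ∈ N := by
  rw [cm_eq]
  exact mul_mem (inv_mem (by simpa using hN.conj_mem g hg x⁻¹)) hg

theorem cm_mem_left {N : Subgroup G} (hN : N.Normal) {x : G} (hx : x ∈ N) (g : G) : cm x g ∈ N := by
  rw [cm_eq']
  exact mul_mem (inv_mem hx) (by simpa using hN.conj_mem x hx g⁻¹)

theorem map_cm {H : Type*} [Group H] (f : G →* H) (x g : G) : f (cm x g) = cm (f x) (f g) := by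
  unfold cm; simp

/-- The simple quotient of a finite quasisimple group is not abelian. -/
theorem quot_not_comm {K : Type*} [Group K] (hK : IsQuasisimple K) : ¬ IsMulCommutative (K ⧸ center K) := by
  intro h
  have h1 : commutator K ≤ center K := by
    rw [← QuotientGroup.ker_mk' (center K)]
    rw [commutator_def, commutator_le]
    intro a _ b _
    rw [MonoidHom.mem_ker, map_commutatorElement]
    exact commutatorElement_eq_one_iff_mul_comm.2 (h.is_comm.comm _ _)
  rw [hK.1.commutator_eq_top] at h1
  exact quasisimple_center_ne_top hK (top_le_iff.1 h1)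

/-- A finite nonabelian simple group has a prime divisor of its order different from `p`. -/
theorem exists_prime_ne {S : Type*} [Group S] [Finite S] (hs : IsSimpleGroup S) (hn : ¬ IsMulCommutative S)
    {p : ℕ} (hp : p.Prime) : ∃ t : ℕ, t.Prime ∧ t ∣ Nat.card S ∧ t ≠ p := by
  by_contra hcon
  push Not at hcon
  have := Fact.mk hp
  have h1 : IsPGroup p S := by
    rw [IsPGroup.iff_card]
    refine ⟨(Nat.card S).primeFactorsList.length, ?_⟩
    refine Nat.eq_prime_pow_of_unique_prime_dvd Nat.card_pos.ne' ?_
    intro d hd hdvd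
    exact hcon d hd hdvd
  have := hs.toNontrivial
  have h2 := h1.center_nontrivial
  have h3 : center S = ⊤ := by
    rcases hs.eq_bot_or_eq_top_of_normal (center S) inferInstance with h | h
    · rw [h] at h2
      exact absurd h2 (not_nontrivial _)
    · exact h
  exact hn ⟨⟨fun a b => (mem_center_iff.1 (show b ∈ center S by rw [h3]; trivial) a)⟩⟩

/-- An element not normalizing the component `K` has a nontrivial commutator of `t`-power order with an element of `K`,
for every prime divisor `t` of `#(K / Z(K))`. -/
theorem exists_of_move [Finite G] {K : Subgroup G} (hK : IsComponent K) {x : G}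
    (hx : K.map (MulAut.conj x⁻¹).toMonoidHom ≠ K) {t : ℕ} (ht : t.Prime) (htd : t ∣ Nat.card (K ⧸ center K)) :
    ∃ k ∈ K, cm x k ≠ 1 ∧ ∃ m, orderOf (cm x k) = t ^ m := by
  have := Fact.mk ht
  obtain ⟨k, hk, m, hm⟩ := exists_noncentral (K := K) htd
  have hL : IsComponent (K.map (MulAut.conj x⁻¹).toMonoidHom) := isComponent_conj _ hK
  have hle := component_le_centralizer_of_ne hL hK hx
  have hkm : x⁻¹ * (k : G) * x ∈ K.map (MulAut.conj x⁻¹).toMonoidHom := ⟨k, k.2, by simp⟩
  have hcomm : ∀ g ∈ K, g * (x⁻¹ * (k : G) * x) = (x⁻¹ * (k : G) * x) * g := fun g hg =>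
    mem_centralizer_iff.1 (hle hkm) g hg
  have hc : Commute (x⁻¹ * (k : G) * x)⁻¹ (k : G) := by
    have h := hcomm k k.2
    exact (Commute.inv_left (show Commute (x⁻¹ * (k : G) * x) (k : G) from h.symm))
  refine ⟨k, k.2, ?_, ?_⟩
  · intro h
    apply hk
    rw [cm_eq] at h
    have h1 : x⁻¹ * (k : G) * x = k := inv_mul_eq_one.1 h
    rw [h1] at hcomm
    rw [mem_center_iff]
    intro g
    ext
    exact hcomm g g.2
  · have h1 : (cm x (k : G)) ^ t ^ m = 1 := by
      rw [cm_eq, hc.mul_pow]
      have h2 : (k : G) ^ t ^ m = 1 := by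
        have := pow_orderOf_eq_one k
        rw [hm] at this
        exact congrArg Subtype.val this
      have h3 : (x⁻¹ * (k : G) * x) ^ t ^ m = x⁻¹ * (k : G) ^ t ^ m * x := by
        have := conj_pow (i := t ^ m) (a := x⁻¹) (b := (k : G))
        simpa using this
      rw [inv_pow, h3, h2]
      simp
    obtain ⟨j, -, hj⟩ := (Nat.dvd_prime_pow ht).1 (orderOf_dvd_of_pow_eq_one h1)
    exact ⟨j, hj⟩

theorem map_conj_eq_iff [Finite G] {K : Subgroup G} {x : G} :
    K.map (MulAut.conj x).toMonoidHom = K ↔ x ∈ normalizer (K : Set G) := by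
  constructor
  · intro h
    rw [mem_normalizer_iff]
    intro g
    constructor
    · intro hg
      rw [← h]
      exact ⟨g, hg, by simp⟩
    · intro hg
      rw [← h] at hg
      obtain ⟨y, hy, hy'⟩ := hg
      have : y = g := by
        have h1 : x * y * x⁻¹ = x * g * x⁻¹ := by simpa using hy'
        exact mul_left_cancel (mul_right_cancel h1)
      exact this ▸ hy
  · intro h
    ext g
    constructor
    · rintro ⟨y, hy, rfl⟩
      simpa using (mem_normalizer_iff.1 h y).1 hy
    · intro hg
      refine ⟨x⁻¹ * g * x, ?_, by simp [mul_assoc]⟩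
      have := (mem_normalizer_iff.1 h (x⁻¹ * g * x)).2 (by simpa [mul_assoc] using hg)
      exact this

/-- A minimal counterexample to S4094. -/
structure MinCtx (p : ℕ) (S : Subgroup G) (x : G) : Prop where
  normal : S.Normal
  simple : IsSimpleGroup S
  nonab : ¬ IsMulCommutative S
  cent : centralizer (S : Set G) = ⊥
  gen : S ⊔ zpowers x = ⊤
  ne : x ≠ 1
  pow : ∀ g, ∃ k, orderOf (cm x g) = p ^ k
  ind : ∀ D : Subgroup G, x ∈ D → D ≠ ⊤ → ∀ d ∈ D, cm x d ∈ (pCore p D).map D.subtype

/-- Conjugation by `x⁻¹` on a subgroup normalized by `x`. -/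
def nAut {K : Subgroup G} {x : G} (hx : x ∈ normalizer (K : Set G)) : MulAut K :=
  K.normalizerMonoidHom ⟨x⁻¹, inv_mem hx⟩

theorem nAut_coe {K : Subgroup G} {x : G} (hx : x ∈ normalizer (K : Set G)) (k : K) :
    (nAut hx k : G) = x⁻¹ * k * x := by
  have : (nAut hx k : G) = x⁻¹ * k * (x⁻¹)⁻¹ := rfl
  rw [this, inv_inv]

theorem nAut_cm {K : Subgroup G} {x : G} (hx : x ∈ normalizer (K : Set G)) (k : K) :
    (((nAut hx k)⁻¹ * k : K) : G) = cm x k := by
  rw [coe_mul, coe_inv, nAut_coe, cm_eq]

theorem nAut_eq_one {K : Subgroup G} {x : G} (hx : x ∈ normalizer (K : Set G)) (h : nAut hx = 1) :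
    x ∈ centralizer (K : Set G) := by
  rw [mem_centralizer_iff]
  intro k hk
  have h1 : (nAut hx ⟨k, hk⟩ : G) = k := by rw [h]; rfl
  rw [nAut_coe] at h1
  have h2 : x⁻¹ * k * x = k := h1
  calc k * x = x * (x⁻¹ * k * x) := by group
    _ = x * k := by rw [h2]

/-- If the commutators of `x` with the elements of the quasisimple group `K` are central in `K` then `x` centralizes
`K`. -/
theorem mem_centralizer_of_cm {K : Subgroup G} (hK : IsQuasisimple K) {x : G} (hx : x ∈ normalizer (K : Set G))
    (h : ∀ k : K, (nAut hx k)⁻¹ * k ∈ center K) : x ∈ centralizer (K : Set G) := by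
  apply nAut_eq_one hx
  apply eq_one_of_quotAut hK.1
  ext k
  induction k using QuotientGroup.induction_on with
  | _ k =>
    rw [quotAut_mk]
    show _ = QuotientGroup.mk k
    rw [QuotientGroup.eq]
    exact h k

/-- The induction hypothesis of `red` below the order `n`. -/
def IH (p n : ℕ) : Prop := ∀ (H : Type u) [Group H] [Finite H], Nat.card H < n → ∀ y : H,
  (∀ g, ∃ k, orderOf (cm y g) = p ^ k) → ∀ g, cm y g ∈ pCore p H

theorem isPGroup_of_le {p : ℕ} {H : Type*} [Group H] {A B : Subgroup H} (h : A ≤ B) (hB : IsPGroup p B) :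
    IsPGroup p A := hB.to_le h

theorem pow_of_map {p : ℕ} [Fact p.Prime] {H : Type*} [Group H] (f : G →* H) {z : G} (h : ∃ k, orderOf z = p ^ k) :
    ∃ k, orderOf (f z) = p ^ k := by
  obtain ⟨k, hk⟩ := h
  have h1 : orderOf (f z) ∣ p ^ k := hk ▸ orderOf_map_dvd f z
  obtain ⟨j, -, hj⟩ := (Nat.dvd_prime_pow Fact.out).1 h1
  exact ⟨j, hj⟩

theorem card_lt {D : Subgroup G} [Finite G] (h : D ≠ ⊤) : Nat.card D < Nat.card G :=
  lt_of_le_of_ne (Subgroup.card_le_card_group D) fun h1 => h (Subgroup.eq_top_of_card_eq D h1)

theorem simple_of_center {K : Type*} [Group K] (hK : IsQuasisimple K) (h : center K = ⊥) : IsSimpleGroup K := by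
  have := quasisimple_nontrivial hK
  refine ⟨fun N hN => ?_⟩
  rcases quasisimple_normal hK N hN with h1 | h1
  · exact Or.inr h1
  · rw [h] at h1
    exact Or.inl (le_bot_iff.1 h1)

/-- A quasisimple group is not a `p`-group. -/
theorem not_isPGroup {K : Type*} [Group K] [Finite K] (hK : IsQuasisimple K) {p : ℕ} [hp : Fact p.Prime] :
    ¬ IsPGroup p K := fun h => by
  have := h.isNilpotent
  exact quasisimple_not_isSolvable hK inferInstance

theorem comp_central {p : ℕ} [hp : Fact p.Prime] [Finite G]
    (hno : ∀ (H : Type u) [Group H] [Finite H] (S : Subgroup H) (y : H), MinCtx p S y → False)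
    (ih : IH.{u} p (Nat.card G)) {x : G} (hx : ∀ g, ∃ k, orderOf (cm x g) = p ^ k) {K : Subgroup G}
    (hK : IsComponent K) : x ∈ centralizer (K : Set G) := by
  -- `x` normalizes `K`
  have hxn : x ∈ normalizer (K : Set G) := by
    by_contra hxn
    obtain ⟨t, ht, htd, htp⟩ := exists_prime_ne hK.2.2 (quot_not_comm hK.2) hp.out
    have h1 : K.map (MulAut.conj x⁻¹).toMonoidHom ≠ K := fun h => hxn (by
      have := map_conj_eq_iff.1 h
      simpa using this)
    obtain ⟨k, -, h2, m, hm⟩ := exists_of_move hK h1 ht htd
    obtain ⟨j, hj⟩ := hx k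
    have h3 : (orderOf (cm x k)).Coprime (orderOf (cm x k)) := by
      conv_lhs => rw [hj]
      conv_rhs => rw [hm]
      exact Nat.Coprime.pow _ _ ((Nat.coprime_primes hp.out ht).2 (Ne.symm htp))
    rw [Nat.coprime_self, orderOf_eq_one_iff] at h3
    exact h2 h3
  have hQ := hK.2
  by_contra hxc
  by_cases hD : K ⊔ zpowers x = ⊤
  · have hKn : K.Normal := by
      rw [← normalizer_eq_top_iff, ← top_le_iff, ← hD]
      exact sup_le le_normalizer (zpowers_le.2 hxn)
    by_cases hC : centralizer (K : Set G) = ⊥
    · have hcen : center K = ⊥ := by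
        rw [eq_bot_iff]
        intro z hz
        have h1 : (z : G) ∈ centralizer (K : Set G) := by
          rw [mem_centralizer_iff]
          intro k hk
          exact congrArg Subtype.val (mem_center_iff.1 hz ⟨k, hk⟩)
        rw [hC, mem_bot] at h1
        exact Subtype.ext h1
      refine hno G K x ⟨hKn, simple_of_center hQ hcen, quasisimple_not_isMulCommutative hQ, hC, hD, ?_, hx, ?_⟩
      · rintro rfl
        exact hxc (one_mem _)
      · intro D hxD hDt d hd
        have h1 := ih D (card_lt hDt) ⟨x, hxD⟩ (fun g => by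
          obtain ⟨k, hk⟩ := hx g
          refine ⟨k, ?_⟩
          rw [← hk, ← Subgroup.orderOf_coe]
          rfl) ⟨d, hd⟩
        exact ⟨_, h1, rfl⟩
    · -- the quotient by the centralizer of `K`
      have hCn : (centralizer (K : Set G)).Normal := inferInstance
      have hlt : Nat.card (G ⧸ centralizer (K : Set G)) < Nat.card G := by
        have h1 := (centralizer (K : Set G)).card_eq_card_quotient_mul_card_subgroup
        have h2 : 1 < Nat.card (centralizer (K : Set G)) := (Subgroup.one_lt_card_iff_ne_bot _).2 hC
        have h3 : 0 < Nat.card (G ⧸ centralizer (K : Set G)) := Nat.card_pos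
        rw [h1]
        exact lt_mul_of_one_lt_right h3 h2
      have h1 := ih (G ⧸ centralizer (K : Set G)) hlt (QuotientGroup.mk' _ x) (fun g => by
        obtain ⟨g, rfl⟩ := QuotientGroup.mk'_surjective _ g
        rw [← map_cm]
        exact pow_of_map _ (hx g))
      -- the preimage of `O_p` meets `K` in a central subgroup
      set R := (pCore p (G ⧸ centralizer (K : Set G))).comap (QuotientGroup.mk' (centralizer (K : Set G))) with hR
      have hRn : R.Normal := inferInstance
      have h2 : R.subgroupOf K ≤ center K := by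
        rcases quasisimple_normal hQ (R.subgroupOf K) inferInstance with h3 | h3
        · exfalso
          have h4 : K ≤ R := subgroupOf_eq_top.1 h3
          have h5 : IsPGroup p (K.map (QuotientGroup.mk' (centralizer (K : Set G)))) :=
            (pCore_isPGroup p).to_le (map_le_iff_le_comap.2 h4)
          -- `K / Z(K)` embeds
          have h6 : IsPGroup p (K ⧸ center K) := by
            let f : K →* K.map (QuotientGroup.mk' (centralizer (K : Set G))) :=
              (QuotientGroup.mk' (centralizer (K : Set G))).subgroupMap K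
            have hf : Function.Surjective f := MonoidHom.subgroupMap_surjective _ _
            have hk : f.ker ≤ center K := by
              intro z hz
              rw [MonoidHom.mem_ker] at hz
              have h7 := congrArg Subtype.val hz
              have h8 : (QuotientGroup.mk' (centralizer (K : Set G))) (z : G) = 1 := h7
              rw [← MonoidHom.mem_ker, QuotientGroup.ker_mk', mem_centralizer_iff] at h8
              rw [mem_center_iff]
              intro g
              exact Subtype.ext (h8 g g.2)
            intro z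
            induction z using QuotientGroup.induction_on with
            | _ z =>
              obtain ⟨m, hm⟩ := h5 (f z)
              refine ⟨m, ?_⟩
              rw [← map_pow, ← MonoidHom.mem_ker] at hm
              rw [← QuotientGroup.mk_pow, QuotientGroup.eq_one_iff]
              exact hk hm
          have h7 := h6.isNilpotent
          have h8 := hQ.2
          have h9 : IsMulCommutative (K ⧸ center K) := by
            have := h8.toNontrivial
            have h10 := h6.center_nontrivial
            have h11 : center (K ⧸ center K) = ⊤ := by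
              rcases h8.eq_bot_or_eq_top_of_normal (center (K ⧸ center K)) inferInstance with h | h
              · rw [h] at h10
                exact absurd h10 (not_nontrivial _)
              · exact h
            exact ⟨⟨fun a b => (mem_center_iff.1 (show b ∈ center (K ⧸ center K) by rw [h11]; trivial) a)⟩⟩
          exact quot_not_comm hQ h9
        · exact h3
      apply hxc
      apply mem_centralizer_of_cm hQ hxn
      intro k
      apply h2
      rw [mem_subgroupOf, nAut_cm, hR, mem_comap, map_cm]
      exact h1 _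
  · -- the subgroup `K⟨x⟩`
    set D := K ⊔ zpowers x with hDdef
    have hKD : K ≤ D := le_sup_left
    have hxD : x ∈ D := (le_sup_right : zpowers x ≤ D) (mem_zpowers x)
    have h1 := ih D (card_lt hD) ⟨x, hxD⟩ (fun g => by
      obtain ⟨k, hk⟩ := hx g
      refine ⟨k, ?_⟩
      rw [← hk, ← Subgroup.orderOf_coe]
      rfl)
    have hKc : IsComponent (K.subgroupOf D) := isComponent_subgroupOf hKD hK
    have h2 : ⁅K.subgroupOf D, pCore p D⁆ = ⊥ :=
      component_commutator_solvable hKc (by rw [normalizer_eq_top_iff.2 inferInstance]; exact le_top) (by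
        have := (pCore_isPGroup (G := D) p).isNilpotent
        infer_instance)
    rw [commutator_eq_bot_iff_le_centralizer, le_centralizer_iff] at h2
    apply hxc
    apply mem_centralizer_of_cm hQ hxn
    intro k
    rw [mem_center_iff]
    intro g
    have h3 := h2 (h1 ⟨k, hKD k.2⟩)
    rw [mem_centralizer_iff] at h3
    have h4 := congrArg Subtype.val (h3 ⟨g, hKD g.2⟩ (mem_subgroupOf.2 g.2))
    ext
    show (g : G) * (((nAut hxn k)⁻¹ * k : K) : G) = (((nAut hxn k)⁻¹ * k : K) : G) * g
    rw [nAut_cm]
    exact h4

/-- **Reduction of S4094** to the almost simple minimal counterexamples `MinCtx`. -/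
theorem red {p : ℕ} [hp : Fact p.Prime]
    (hno : ∀ (H : Type u) [Group H] [Finite H] (S : Subgroup H) (y : H), MinCtx p S y → False)
    (H : Type u) [Group H] [Finite H] (x : H) (hx : ∀ g, ∃ k, orderOf (cm x g) = p ^ k) :
    ∀ g, cm x g ∈ pCore p H := by
  suffices h : ∀ n, IH.{u} p n from h (Nat.card H + 1) H (Nat.lt_succ_self _) x hx
  intro n
  induction n with
  | zero => intro H _ _ h; exact absurd h (Nat.not_lt_zero _)
  | succ n ihn =>
    intro G _ _ hn x hx g
    have ih : IH.{u} p (Nat.card G) := fun L _ _ hL => ihn L (lt_of_lt_of_le hL (Nat.lt_succ_iff.1 hn))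
    by_cases hO : pCore p G = ⊥
    · -- `x` centralizes `F*(G)`
      have hF : fittingSubgroup G ≤ centralizer ({x} : Set G) := by
        rw [fittingSubgroup_eq_iSup_pCore]
        refine iSup_le fun t => ?_
        intro f hf
        rw [mem_centralizer_singleton_iff]
        have h1 : cm x f ∈ pCore t G := cm_mem (pCore_normal_inst _) x hf
        by_cases htp : (t : ℕ) = p
        · rw [htp, hO, mem_bot] at h1
          exact (cm_eq_one.1 h1).symm
        · have ht := Fact.mk t.2
          obtain ⟨m, hm⟩ := pCore_isPGroup (t : ℕ) ⟨_, h1⟩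
          have hm' : (cm x f) ^ (t : ℕ) ^ m = 1 := congrArg Subtype.val hm
          obtain ⟨k, hk⟩ := hx f
          have h2 : orderOf (cm x f) = 1 := by
            apply Nat.eq_one_of_dvd_coprimes (a := p ^ k) (b := (t : ℕ) ^ m)
            · exact Nat.Coprime.pow _ _ ((Nat.coprime_primes hp.out t.2).2 (Ne.symm htp))
            · rw [hk]
            · exact orderOf_dvd_of_pow_eq_one hm'
          exact (cm_eq_one.1 (orderOf_eq_one_iff.1 h2)).symm
      have hE : layer G ≤ centralizer ({x} : Set G) := by
        rw [layer_le_iff]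
        intro K hK k hk
        rw [mem_centralizer_singleton_iff]
        exact (mem_centralizer_iff.1 (comp_central hno ih hx hK) k hk)
      have hx1 : x ∈ fittingSubgroup G := by
        apply centralizer_genFitting_le_fitting
        rw [mem_centralizer_iff]
        intro k hk
        have h1 : generalizedFittingSubgroup G ≤ centralizer ({x} : Set G) := sup_le hE hF
        exact mem_centralizer_singleton_iff.1 (h1 hk)
      -- so all commutators are in `F(G)`, a group of order prime to `p`
      have h1 : cm x g ∈ fittingSubgroup G := cm_mem_left fittingSubgroup_normal hx1 g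
      obtain ⟨k, hk⟩ := hx g
      have h2 : zpowers (cm x g) ≤ fittingSubgroup G := zpowers_le.2 h1
      have h3 : IsPGroup p (zpowers (cm x g)) := by
        apply IsPGroup.of_card (n := k)
        rw [Nat.card_zpowers, hk]
      have h4 := Cfsg.Agent.Lib.BenderMaximal.le_pCore_of_le_fittingSubgroup h3 h2
      exact h4 (mem_zpowers _)
    · have hlt : Nat.card (G ⧸ pCore p G) < Nat.card G := by
        have h1 := (pCore p G).card_eq_card_quotient_mul_card_subgroup
        have h2 : 1 < Nat.card (pCore p G) := (Subgroup.one_lt_card_iff_ne_bot _).2 hO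
        have h3 : 0 < Nat.card (G ⧸ pCore p G) := Nat.card_pos
        rw [h1]
        exact lt_mul_of_one_lt_right h3 h2
      have h1 := ih (G ⧸ pCore p G) hlt (QuotientGroup.mk' _ x) (fun g => by
        obtain ⟨g, rfl⟩ := QuotientGroup.mk'_surjective _ g
        rw [← map_cm]
        exact pow_of_map _ (hx g)) (QuotientGroup.mk' _ g)
      rw [pCore_quotient_pCore, mem_bot, ← map_cm, ← MonoidHom.mem_ker, QuotientGroup.ker_mk'] at h1
      exact h1

end Cfsg.Agent.H472.ComRed
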