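import Cfsg.Agent.H705.Com
import Cfsg.Agent.S2119
import Mathlib.GroupTheory.Perm.ViaEmbedding
import Mathlib.GroupTheory.SpecificGroups.Alternating
import Mathlib.Tactic.FinCases
import Mathlib.Tactic.IntervalCases

/-!
# Commutators with an automorphism of an alternating group (helper472)

Every `σ ≠ 1` in `Perm (Fin n)`, `n ≥ 5`, has commutators `(σ s σ⁻¹)⁻¹ s` with `s` even of two different
prime orders; so `Com p A_n` for `n ≥ 5`, `n ≠ 6` and all primes `p`.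
-/

set_option autoImplicit false

namespace Cfsg.Agent.H472.ComAlt

open Equiv Equiv.Perm

/-- some commutator of `σ` with an even permutation has order `q` -/
def W {n : ℕ} (q : ℕ) (σ : Perm (Fin n)) : Prop :=
  ∃ s : Perm (Fin n), Perm.sign s = 1 ∧ orderOf ((σ * s * σ⁻¹)⁻¹ * s) = q

theorem conj_swap {n : ℕ} (σ : Perm (Fin n)) (a b : Fin n) : σ * swap a b * σ⁻¹ = swap (σ a) (σ b) := by
  rw [Equiv.mul_swap_eq_swap_mul, mul_assoc, mul_inv_cancel, mul_one]

theorem via_swap {n m : ℕ} (ι : Fin m ↪ Fin n) (i j : Fin m) :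
    viaEmbeddingHom ι (swap i j) = swap (ι i) (ι j) := by
  ext x
  rw [viaEmbeddingHom_apply]
  by_cases hx : x ∈ Set.range ι
  · obtain ⟨y, rfl⟩ := hx
    rw [viaEmbedding_apply]
    rcases eq_or_ne y i with rfl | hyi
    · rw [swap_apply_left, swap_apply_left]
    · rcases eq_or_ne y j with rfl | hyj
      · rw [swap_apply_right, swap_apply_right]
      · rw [swap_apply_of_ne_of_ne hyi hyj, swap_apply_of_ne_of_ne (fun h => hyi (ι.injective h))
          (fun h => hyj (ι.injective h))]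
  · rw [viaEmbedding_apply_of_notMem _ _ _ hx, swap_apply_of_ne_of_ne]
    · rintro rfl; exact hx ⟨_, rfl⟩
    · rintro rfl; exact hx ⟨_, rfl⟩

theorem wit {n m : ℕ} (ι : Fin m ↪ Fin n) {σ : Perm (Fin n)} {q : ℕ} (hq : q.Prime) (i j k l i' j' k' l' : Fin m)
    (hij : i ≠ j) (hkl : k ≠ l) (hi : σ (ι i) = ι i') (hj : σ (ι j) = ι j') (hk : σ (ι k) = ι k')
    (hl : σ (ι l) = ι l') (h1 : ((swap i' j' * swap k' l')⁻¹ * (swap i j * swap k l)) ^ q = 1)
    (h2 : (swap i' j' * swap k' l')⁻¹ * (swap i j * swap k l) ≠ 1) : W q σ := by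
  refine ⟨swap (ι i) (ι j) * swap (ι k) (ι l), ?_, ?_⟩
  · rw [map_mul, sign_swap (fun h => hij (ι.injective h)), sign_swap (fun h => hkl (ι.injective h))]
    rfl
  · have e1 : σ * (swap (ι i) (ι j) * swap (ι k) (ι l)) * σ⁻¹ = viaEmbeddingHom ι (swap i' j' * swap k' l') := by
      rw [map_mul, via_swap, via_swap, ← hi, ← hj, ← hk, ← hl, ← conj_swap, ← conj_swap]
      group
    have e2 : swap (ι i) (ι j) * swap (ι k) (ι l) = viaEmbeddingHom ι (swap i j * swap k l) := by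
      rw [map_mul, via_swap, via_swap]
    have : Fact q.Prime := ⟨hq⟩
    rw [e1, e2, ← map_inv, ← map_mul, orderOf_injective _ (viaEmbeddingHom_injective ι)]
    exact orderOf_eq_prime h1 h2

/-- the embedding given by four distinct points -/
def emb4 {n : ℕ} (a b c d : Fin n) (hab : a ≠ b) (hac : a ≠ c) (had : a ≠ d) (hbc : b ≠ c) (hbd : b ≠ d)
    (hcd : c ≠ d) : Fin 4 ↪ Fin n :=
  ⟨![a, b, c, d], by
    intro i j h
    fin_cases i <;> fin_cases j <;> simp_all [eq_comm]⟩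

def emb5 {n : ℕ} (a b c d e : Fin n) (hab : a ≠ b) (hac : a ≠ c) (had : a ≠ d) (hae : a ≠ e) (hbc : b ≠ c)
    (hbd : b ≠ d) (hbe : b ≠ e) (hcd : c ≠ d) (hce : c ≠ e) (hde : d ≠ e) : Fin 5 ↪ Fin n :=
  ⟨![a, b, c, d, e], by
    intro i j h
    fin_cases i <;> fin_cases j <;> simp_all [eq_comm]⟩

def emb6 {n : ℕ} (a b c d e f : Fin n) (hab : a ≠ b) (hac : a ≠ c) (had : a ≠ d) (hae : a ≠ e) (haf : a ≠ f)
    (hbc : b ≠ c) (hbd : b ≠ d) (hbe : b ≠ e) (hbf : b ≠ f) (hcd : c ≠ d) (hce : c ≠ e) (hcf : c ≠ f)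
    (hde : d ≠ e) (hdf : d ≠ f) (hef : e ≠ f) : Fin 6 ↪ Fin n :=
  ⟨![a, b, c, d, e, f], by
    intro i j h
    fin_cases i <;> fin_cases j <;> simp_all [eq_comm]⟩

variable {n : ℕ} {σ : Perm (Fin n)}

/-- `σ = (a b c d e ..)`, path of length at least 5 -/
theorem long {a b c d e : Fin n} (h1 : σ a = b) (h2 : σ b = c) (h3 : σ c = d) (h4 : σ d = e)
    (hab : a ≠ b) (hac : a ≠ c) (had : a ≠ d) (hae : a ≠ e) (hbc : b ≠ c)
    (hbd : b ≠ d) (hbe : b ≠ e) (hcd : c ≠ d) (hce : c ≠ e) (hde : d ≠ e) : W 3 σ ∧ W 5 σ := by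
  let ι := emb5 a b c d e hab hac had hae hbc hbd hbe hcd hce hde
  constructor
  · -- s = (a b c) = swap a b * swap b c
    exact wit ι Nat.prime_three 0 1 1 2 1 2 2 3 (by decide) (by decide) h1 h2 h2 h3 (by decide) (by decide)
  · -- s = (a b d)
    exact wit ι Nat.prime_five 0 1 1 3 1 2 2 4 (by decide) (by decide) h1 h2 h2 h4 (by decide) (by decide)

/-- `σ = (a b c d)(x)..` -/
theorem four_fix {a b c d x : Fin n} (h1 : σ a = b) (h2 : σ b = c) (h3 : σ c = d) (hx : σ x = x)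
    (hab : a ≠ b) (hac : a ≠ c) (had : a ≠ d) (hax : a ≠ x) (hbc : b ≠ c)
    (hbd : b ≠ d) (hbx : b ≠ x) (hcd : c ≠ d) (hcx : c ≠ x) (hdx : d ≠ x) : W 3 σ ∧ W 2 σ := by
  let ι := emb5 a b c d x hab hac had hax hbc hbd hbx hcd hcx hdx
  constructor
  · exact wit ι Nat.prime_three 0 1 1 2 1 2 2 3 (by decide) (by decide) h1 h2 h2 h3 (by decide) (by decide)
  · exact wit ι Nat.prime_two 0 1 1 4 1 2 2 4 (by decide) (by decide) h1 h2 h2 hx (by decide) (by decide)

/-- `σ = (a b c d)(x y ..)` -/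
theorem four_move {a b c d x y : Fin n} (h1 : σ a = b) (h2 : σ b = c) (h3 : σ c = d) (hx : σ x = y)
    (hab : a ≠ b) (hac : a ≠ c) (had : a ≠ d) (hax : a ≠ x) (hay : a ≠ y) (hbc : b ≠ c)
    (hbd : b ≠ d) (hbx : b ≠ x) (hby : b ≠ y) (hcd : c ≠ d) (hcx : c ≠ x) (hcy : c ≠ y) (hdx : d ≠ x)
    (hdy : d ≠ y) (hxy : x ≠ y) : W 3 σ ∧ W 5 σ := by
  let ι := emb6 a b c d x y hab hac had hax hay hbc hbd hbx hby hcd hcx hcy hdx hdy hxy
  constructor
  · exact wit ι Nat.prime_three 0 1 1 2 1 2 2 3 (by decide) (by decide) h1 h2 h2 h3 (by decide) (by decide)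
  · exact wit ι Nat.prime_five 0 1 1 4 1 2 2 5 (by decide) (by decide) h1 h2 h2 hx (by decide) (by decide)

/-- `σ = (a b c)(x y)..` -/
theorem three_two {a b c x y : Fin n} (h1 : σ a = b) (h2 : σ b = c) (hx : σ x = y) (hy : σ y = x)
    (hab : a ≠ b) (hac : a ≠ c) (hax : a ≠ x) (hay : a ≠ y) (hbc : b ≠ c)
    (hbx : b ≠ x) (hby : b ≠ y) (hcx : c ≠ x) (hcy : c ≠ y) (hxy : x ≠ y) : W 2 σ ∧ W 5 σ := by
  let ι := emb5 a b c x y hab hac hax hay hbc hbx hby hcx hcy hxy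
  constructor
  · -- s = (a x y) -> (b y x)
    exact wit ι Nat.prime_two 0 3 3 4 1 4 4 3 (by decide) (by decide) h1 hx hx hy (by decide) (by decide)
  · -- s = (a b x) -> (b c y)
    exact wit ι Nat.prime_five 0 1 1 3 1 2 2 4 (by decide) (by decide) h1 h2 h2 hx (by decide) (by decide)

/-- `σ = (a b c)(x y z ..)..` -/
theorem three_three {a b c x y z : Fin n} (h1 : σ a = b) (h2 : σ b = c) (hx : σ x = y) (hy : σ y = z)
    (hab : a ≠ b) (hac : a ≠ c) (hax : a ≠ x) (hay : a ≠ y) (haz : a ≠ z) (hbc : b ≠ c)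
    (hbx : b ≠ x) (hby : b ≠ y) (hbz : b ≠ z) (hcx : c ≠ x) (hcy : c ≠ y) (hcz : c ≠ z) (hxy : x ≠ y)
    (hxz : x ≠ z) (hyz : y ≠ z) : W 3 σ ∧ W 5 σ := by
  let ι := emb6 a b c x y z hab hac hax hay haz hbc hbx hby hbz hcx hcy hcz hxy hxz hyz
  constructor
  · -- s = (a b)(x y) -> (b c)(y z)
    exact wit ι Nat.prime_three 0 1 3 4 1 2 4 5 (by decide) (by decide) h1 h2 hx hy (by decide) (by decide)
  · exact wit ι Nat.prime_five 0 1 1 3 1 2 2 4 (by decide) (by decide) h1 h2 h2 hx (by decide) (by decide)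

/-- `σ = (a b c)(x)(z)..` -/
theorem three_fix {a b c x z : Fin n} (h1 : σ a = b) (h2 : σ b = c) (hx : σ x = x) (hz : σ z = z)
    (hab : a ≠ b) (hac : a ≠ c) (hax : a ≠ x) (haz : a ≠ z) (hbc : b ≠ c)
    (hbx : b ≠ x) (hbz : b ≠ z) (hcx : c ≠ x) (hcz : c ≠ z) (hxz : x ≠ z) : W 2 σ ∧ W 3 σ := by
  let ι := emb5 a b c x z hab hac hax haz hbc hbx hbz hcx hcz hxz
  constructor
  · -- s = (a b x) -> (b c x)
    exact wit ι Nat.prime_two 0 1 1 3 1 2 2 3 (by decide) (by decide) h1 h2 h2 hx (by decide) (by decide)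
  · -- s = (a x z) -> (b x z)
    exact wit ι Nat.prime_three 0 3 3 4 1 3 3 4 (by decide) (by decide) h1 hx hx hz (by decide) (by decide)

/-- `σ = (a b)(c)(d)..` -/
theorem two_fix {a b c d : Fin n} (h1 : σ a = b) (h2 : σ b = a) (hc : σ c = c) (hd : σ d = d)
    (hab : a ≠ b) (hac : a ≠ c) (had : a ≠ d) (hbc : b ≠ c) (hbd : b ≠ d) (hcd : c ≠ d) :
    W 3 σ ∧ W 2 σ := by
  let ι := emb4 a b c d hab hac had hbc hbd hcd
  constructor
  · -- s = (a b c) -> (b a c)
    exact wit ι Nat.prime_three 0 1 1 2 1 0 0 2 (by decide) (by decide) h1 h2 h2 hc (by decide) (by decide)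
  · -- s = (a c)(b d) -> (b c)(a d)
    exact wit ι Nat.prime_two 0 2 1 3 1 2 0 3 (by decide) (by decide) h1 hc h2 hd (by decide) (by decide)

/-- `σ = (a b)(c)(d e)..` -/
theorem two_one_two {a b c d e : Fin n} (h1 : σ a = b) (h2 : σ b = a) (hc : σ c = c) (hd : σ d = e)
    (hab : a ≠ b) (hac : a ≠ c) (had : a ≠ d) (hae : a ≠ e) (hbc : b ≠ c) (hbd : b ≠ d) (hbe : b ≠ e)
    (hcd : c ≠ d) (hce : c ≠ e) (hde : d ≠ e) : W 3 σ ∧ W 2 σ := by
  let ι := emb5 a b c d e hab hac had hae hbc hbd hbe hcd hce hde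
  constructor
  · exact wit ι Nat.prime_three 0 1 1 2 1 0 0 2 (by decide) (by decide) h1 h2 h2 hc (by decide) (by decide)
  · -- s = (a b d) -> (b a e)
    exact wit ι Nat.prime_two 0 1 1 3 1 0 0 4 (by decide) (by decide) h1 h2 h2 hd (by decide) (by decide)

/-- `σ = (a b)(c d)(e f)..` -/
theorem two_two_two {a b c d e f : Fin n} (h1 : σ a = b) (h2 : σ b = a) (hc : σ c = d) (he : σ e = f)
    (hab : a ≠ b) (hac : a ≠ c) (had : a ≠ d) (hae : a ≠ e) (haf : a ≠ f)
    (hbc : b ≠ c) (hbd : b ≠ d) (hbe : b ≠ e) (hbf : b ≠ f) (hcd : c ≠ d) (hce : c ≠ e) (hcf : c ≠ f)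
    (hde : d ≠ e) (hdf : d ≠ f) (hef : e ≠ f) : W 3 σ ∧ W 2 σ := by
  let ι := emb6 a b c d e f hab hac had hae haf hbc hbd hbe hbf hcd hce hcf hde hdf hef
  constructor
  · -- s = (a c e) -> (b d f)
    exact wit ι Nat.prime_three 0 2 2 4 1 3 3 5 (by decide) (by decide) h1 hc hc he (by decide) (by decide)
  · -- s = (a b c) -> (b a d)
    exact wit ι Nat.prime_two 0 1 1 2 1 0 0 3 (by decide) (by decide) h1 h2 h2 hc (by decide) (by decide)

theorem exists_out (s : Finset (Fin n)) (h : s.card < n) : ∃ x, x ∉ s := by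
  by_contra hc
  push Not at hc
  have h1 : (Finset.univ : Finset (Fin n)) ⊆ s := fun x _ => hc x
  have h2 := Finset.card_le_card h1
  rw [Finset.card_univ, Fintype.card_fin] at h2
  omega

/-- Two different primes -/
def Two (σ : Perm (Fin n)) : Prop := ∃ q q' : ℕ, q.Prime ∧ q'.Prime ∧ q ≠ q' ∧ W q σ ∧ W q' σ

theorem Two.mk' {q q' : ℕ} (hq : q.Prime) (hq' : q'.Prime) (hne : q ≠ q') (h : W q σ ∧ W q' σ) : Two σ :=
  ⟨q, q', hq, hq', hne, h.1, h.2⟩

/-- a cycle of length at least three -/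
theorem two_of_long (hn : 5 ≤ n) {a : Fin n} (ha : σ (σ a) ≠ a) : Two σ := by
  obtain ⟨b, hb⟩ : ∃ b, σ a = b := ⟨_, rfl⟩
  obtain ⟨c, hc⟩ : ∃ c, σ b = c := ⟨_, rfl⟩
  obtain ⟨d, hd⟩ : ∃ d, σ c = d := ⟨_, rfl⟩
  have inj : ∀ {u v u' v' : Fin n}, σ u = u' → σ v = v' → u ≠ v → u' ≠ v' := by
    intro u v u' v' h1 h2 h h'
    exact h (σ.injective (by rw [h1, h2, h']))
  have hac : a ≠ c := by
    rintro h
    apply ha
    rw [hb, hc, h]
  have hab : a ≠ b := by
    rintro h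
    apply ha
    rw [hb, ← h, hb, ← h]
  have hbc : b ≠ c := inj hb hc hab
  have hbd : b ≠ d := inj hb hd hac
  have hcd : c ≠ d := inj hc hd hbc
  by_cases had : a = d
  · -- 3-cycle
    subst had
    by_cases hmv : ∃ x, x ≠ a ∧ x ≠ b ∧ x ≠ c ∧ σ x ≠ x
    · obtain ⟨x, hxa, hxb, hxc, hx⟩ := hmv
      obtain ⟨y, hy⟩ : ∃ y, σ x = y := ⟨_, rfl⟩
      obtain ⟨z, hz⟩ : ∃ z, σ y = z := ⟨_, rfl⟩
      have hxy : x ≠ y := by rw [← hy]; exact hx.symm
      have hya : y ≠ a := inj hy hd hxc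
      have hyb : y ≠ b := inj hy hb hxa
      have hyc : y ≠ c := inj hy hc hxb
      have hyz : y ≠ z := inj hy hz hxy
      by_cases hxz : z = x
      · rw [hxz] at hz
        exact Two.mk' Nat.prime_two Nat.prime_five (by decide)
          (three_two hb hc hy hz hab hac hxa.symm hya.symm hbc hxb.symm hyb.symm hxc.symm hyc.symm hxy)
      · have hza : z ≠ a := inj hz hd hyc
        have hzb : z ≠ b := inj hz hb hya
        have hzc : z ≠ c := inj hz hc hyb
        exact Two.mk' Nat.prime_three Nat.prime_five (by decide)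
          (three_three hb hc hy hz hab hac hxa.symm hya.symm hza.symm hbc hxb.symm hyb.symm hzb.symm
            hxc.symm hyc.symm hzc.symm hxy (Ne.symm hxz) hyz)
    · push Not at hmv
      obtain ⟨x, hx⟩ := exists_out ({a, b, c} : Finset (Fin n)) (lt_of_le_of_lt Finset.card_le_three (by omega))
      obtain ⟨z, hz⟩ := exists_out ({a, b, c, x} : Finset (Fin n)) (lt_of_le_of_lt Finset.card_le_four (by omega))
      simp only [Finset.mem_insert, Finset.mem_singleton, not_or] at hx hz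
      have h1 := hmv x hx.1 hx.2.1 hx.2.2
      have h2 := hmv z hz.1 hz.2.1 hz.2.2.1
      exact Two.mk' Nat.prime_two Nat.prime_three (by decide)
        (three_fix hb hc h1 h2 hab hac (Ne.symm hx.1) (Ne.symm hz.1) hbc (Ne.symm hx.2.1) (Ne.symm hz.2.1)
          (Ne.symm hx.2.2) (Ne.symm hz.2.2.1) (Ne.symm hz.2.2.2))
  · obtain ⟨e, he⟩ : ∃ e, σ d = e := ⟨_, rfl⟩
    have hbe : b ≠ e := inj hb he had
    have hce : c ≠ e := inj hc he hbd
    have hde : d ≠ e := inj hd he hcd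
    by_cases hae : a = e
    · -- 4-cycle
      subst hae
      obtain ⟨x, hx⟩ := exists_out ({a, b, c, d} : Finset (Fin n)) (lt_of_le_of_lt Finset.card_le_four (by omega))
      simp only [Finset.mem_insert, Finset.mem_singleton, not_or] at hx
      obtain ⟨y, hy⟩ : ∃ y, σ x = y := ⟨_, rfl⟩
      by_cases hxy : x = y
      · rw [← hxy] at hy
        exact Two.mk' Nat.prime_three Nat.prime_two (by decide)
          (four_fix hb hc hd hy hab hac had (Ne.symm hx.1) hbc hbd (Ne.symm hx.2.1) hcd (Ne.symm hx.2.2.1)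
            (Ne.symm hx.2.2.2))
      · have hya : y ≠ a := inj hy he hx.2.2.2
        have hyb : y ≠ b := inj hy hb hx.1
        have hyc : y ≠ c := inj hy hc hx.2.1
        have hyd : y ≠ d := inj hy hd hx.2.2.1
        exact Two.mk' Nat.prime_three Nat.prime_five (by decide)
          (four_move hb hc hd hy hab hac had (Ne.symm hx.1) hya.symm hbc hbd (Ne.symm hx.2.1) hyb.symm hcd
            (Ne.symm hx.2.2.1) hyc.symm (Ne.symm hx.2.2.2) hyd.symm hxy)
    · exact Two.mk' Nat.prime_three Nat.prime_five (by decide)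
        (long hb hc hd he hab hac had hae hbc hbd hbe hcd hce hde)

/-- an involution -/
theorem two_of_sq (hn : 5 ≤ n) (h2 : ∀ a, σ (σ a) = a) (hσ : σ ≠ 1) : Two σ := by
  have inj : ∀ {u v u' v' : Fin n}, σ u = u' → σ v = v' → u ≠ v → u' ≠ v' := by
    intro u v u' v' h1 h2 h h'
    exact h (σ.injective (by rw [h1, h2, h']))
  obtain ⟨a, ha⟩ : ∃ a, σ a ≠ a := by
    by_contra hc
    push Not at hc
    exact hσ (Equiv.ext hc)
  obtain ⟨b, hb⟩ : ∃ b, σ a = b := ⟨_, rfl⟩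
  have hba : σ b = a := by rw [← hb, h2]
  have hab : a ≠ b := by rw [← hb]; exact ha.symm
  by_cases hf : ∃ c, σ c = c
  · obtain ⟨c, hc⟩ := hf
    have hac : a ≠ c := by rintro rfl; exact ha hc
    have hbc : b ≠ c := inj hb hc hac
    obtain ⟨d, hd⟩ := exists_out ({a, b, c} : Finset (Fin n)) (lt_of_le_of_lt Finset.card_le_three (by omega))
    simp only [Finset.mem_insert, Finset.mem_singleton, not_or] at hd
    obtain ⟨e, he⟩ : ∃ e, σ d = e := ⟨_, rfl⟩
    by_cases hde : d = e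
    · rw [← hde] at he
      exact Two.mk' Nat.prime_three Nat.prime_two (by decide)
        (two_fix hb hba hc he hab hac (Ne.symm hd.1) hbc (Ne.symm hd.2.1) (Ne.symm hd.2.2))
    · have hea : e ≠ a := inj he hba hd.2.1
      have heb : e ≠ b := inj he hb hd.1
      have hec : e ≠ c := inj he hc hd.2.2
      exact Two.mk' Nat.prime_three Nat.prime_two (by decide)
        (two_one_two hb hba hc he hab hac (Ne.symm hd.1) hea.symm hbc (Ne.symm hd.2.1) heb.symm
          (Ne.symm hd.2.2) hec.symm hde)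
  · push Not at hf
    obtain ⟨c, hc⟩ := exists_out ({a, b} : Finset (Fin n)) (lt_of_le_of_lt Finset.card_le_two (by omega))
    simp only [Finset.mem_insert, Finset.mem_singleton, not_or] at hc
    obtain ⟨d, hd⟩ : ∃ d, σ c = d := ⟨_, rfl⟩
    have hdc : σ d = c := by rw [← hd, h2]
    have hcd : c ≠ d := by rw [← hd]; exact (hf c).symm
    have hda : d ≠ a := inj hd hba hc.2
    have hdb : d ≠ b := inj hd hb hc.1
    obtain ⟨e, he⟩ := exists_out ({a, b, c, d} : Finset (Fin n)) (lt_of_le_of_lt Finset.card_le_four (by omega))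
    simp only [Finset.mem_insert, Finset.mem_singleton, not_or] at he
    obtain ⟨f, hf'⟩ : ∃ f, σ e = f := ⟨_, rfl⟩
    have hef : e ≠ f := by rw [← hf']; exact (hf e).symm
    have hfa : f ≠ a := inj hf' hba he.2.1
    have hfb : f ≠ b := inj hf' hb he.1
    have hfc : f ≠ c := inj hf' hdc he.2.2.2
    have hfd : f ≠ d := inj hf' hd he.2.2.1
    exact Two.mk' Nat.prime_three Nat.prime_two (by decide)
      (two_two_two hb hba hd hf' hab (Ne.symm hc.1) hda.symm (Ne.symm he.1) hfa.symm (Ne.symm hc.2) hdb.symm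
        (Ne.symm he.2.1) hfb.symm hcd (Ne.symm he.2.2.1) hfc.symm (Ne.symm he.2.2.2) hfd.symm hef)

/-- **Every `σ ≠ 1` has commutators of two different prime orders.** -/
theorem two (hn : 5 ≤ n) (hσ : σ ≠ 1) : Two σ := by
  by_cases h : ∃ a, σ (σ a) ≠ a
  · obtain ⟨a, ha⟩ := h
    exact two_of_long hn ha
  · push Not at h
    exact two_of_sq hn h hσ

open Cfsg.Agent.H705

theorem of_perm (hn : 5 ≤ n) {p : ℕ} (hp : p.Prime) {a : MulAut (alternatingGroup (Fin n))} (ha : a ≠ 1)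
    (h : ∀ x : alternatingGroup (Fin n), ((a x : alternatingGroup (Fin n)) : Perm (Fin n)) = σ * x * σ⁻¹) :
    ∃ s, (a s)⁻¹ * s ≠ 1 ∧ ¬ p ∣ orderOf ((a s)⁻¹ * s) := by
  have hσ : σ ≠ 1 := by
    rintro rfl
    apply ha
    ext x : 1
    apply Subtype.ext
    rw [h x, one_mul, inv_one, mul_one]
    rfl
  have key : ∀ q : ℕ, q.Prime → q ≠ p → W q σ → ∃ s, (a s)⁻¹ * s ≠ 1 ∧ ¬ p ∣ orderOf ((a s)⁻¹ * s) := by
    rintro q hq hqp ⟨s, hs, ho⟩
    refine ⟨⟨s, mem_alternatingGroup.2 hs⟩, ?_⟩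
    have h1 : orderOf ((a ⟨s, mem_alternatingGroup.2 hs⟩)⁻¹ * ⟨s, mem_alternatingGroup.2 hs⟩) = q := by
      rw [← ho, ← Subgroup.orderOf_coe]
      congr 1
      rw [Subgroup.coe_mul, Subgroup.coe_inv, h]
    refine ⟨fun h2 => ?_, ?_⟩
    · rw [h2, orderOf_one] at h1
      exact hq.one_lt.ne h1
    · rw [h1, Nat.prime_dvd_prime_iff_eq hp hq]
      exact Ne.symm hqp
  obtain ⟨q, q', hq, hq', hne, h1, h2⟩ := two hn hσ
  by_cases hqp : q = p
  · exact key q' hq' (by rw [← hqp]; exact hne.symm) h2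
  · exact key q hq hqp h1

/-- **The alternating rows, degree different from six.** -/
theorem com (hn : 5 ≤ n) (h6 : n ≠ 6) {p : ℕ} (hp : p.Prime) : Com p (alternatingGroup (Fin n)) := by
  intro a ha
  obtain ⟨σ, hσ⟩ := (S2119.result n (by omega) h6).2 a
  refine of_perm (σ := σ) hn hp ha fun x => ?_
  rw [← hσ]
  rfl

end Cfsg.Agent.H472.ComAlt
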