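import Cfsg.Agent.H705.Com
import Cfsg.Agent.SignalizersComponents.Components

/-!
# Automorphisms of quasisimple groups and commutators (helper472)

`quotAut` : the automorphism of `K / Z(K)` induced by an automorphism of `K`.
`eq_one_of_quotAut` : for perfect `K` it determines the automorphism.
-/

set_option autoImplicit false

namespace Cfsg.Agent.H472.ComAut

open Subgroup Cfsg
open scoped commutatorElement

variable {K : Type*} [Group K]

theorem map_center (α : MulAut K) : (center K).map (α : K →* K) = center K := by
  ext z
  constructor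
  · rintro ⟨y, hy, rfl⟩
    rw [mem_center_iff]
    intro g
    have h := mem_center_iff.1 (show y ∈ center K from hy) (α.symm g)
    have := congrArg α h
    simpa using this
  · intro hz
    refine ⟨α.symm z, ?_, by simp⟩
    show α.symm z ∈ center K
    rw [mem_center_iff]
    intro g
    have h := mem_center_iff.1 hz (α g)
    have := congrArg α.symm h
    simpa using this

/-- The automorphism of `K / Z(K)` induced by `α`. -/
def quotAut (α : MulAut K) : MulAut (K ⧸ center K) :=
  QuotientGroup.congr (center K) (center K) α (map_center α)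

theorem quotAut_mk (α : MulAut K) (k : K) :
    quotAut α (QuotientGroup.mk k) = QuotientGroup.mk (α k) := rfl

/-- An automorphism of a perfect group inducing the identity on `K / Z(K)` is the identity. -/
theorem eq_one_of_quotAut (hK : Group.IsPerfect K) {α : MulAut K} (h : quotAut α = 1) : α = 1 := by
  have h1 : ∀ k : K, k⁻¹ * α k ∈ center K := by
    intro k
    have h2 : quotAut α (QuotientGroup.mk k) = QuotientGroup.mk k := by rw [h]; rfl
    rw [quotAut_mk] at h2
    exact QuotientGroup.eq.1 h2.symm
  -- `k ↦ k⁻¹ α(k)` is a homomorphism into the centre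
  let f : K →* center K :=
    { toFun := fun k => ⟨k⁻¹ * α k, h1 k⟩
      map_one' := by ext; simp
      map_mul' := fun a b => by
        ext
        have h3 := mem_center_iff.1 (h1 a) b⁻¹
        show (a * b)⁻¹ * α (a * b) = a⁻¹ * α a * (b⁻¹ * α b)
        calc (a * b)⁻¹ * α (a * b) = b⁻¹ * (a⁻¹ * α a) * α b := by rw [map_mul]; group
          _ = a⁻¹ * α a * b⁻¹ * α b := by rw [h3]
          _ = a⁻¹ * α a * (b⁻¹ * α b) := by group }
  have hf : ∀ k : K, f k = 1 := by
    intro k
    have h2 : k ∈ commutator K := by rw [hK.commutator_eq_top]; trivial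
    have h3 : commutator K ≤ f.ker := by
      rw [commutator_eq_closure, closure_le]
      rintro _ ⟨a, b, rfl⟩
      show f ⁅a, b⁆ = 1
      rw [map_commutatorElement, commutatorElement_eq_one_iff_mul_comm]
      ext
      exact (mem_center_iff.1 (f a).2 _).symm
    exact h3 h2
  ext k
  have h2 := congrArg Subtype.val (hf k)
  have h3 : k⁻¹ * α k = 1 := h2
  exact (inv_mul_eq_one.1 h3).symm

/-- A quasisimple group has, for every prime divisor `t` of the order of its simple quotient, a noncentral element of
`t`-power order. -/
theorem exists_noncentral [Finite K] {t : ℕ} [Fact t.Prime] (h : t ∣ Nat.card (K ⧸ center K)) :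
    ∃ k : K, k ∉ center K ∧ ∃ m, orderOf k = t ^ m := by
  obtain ⟨P⟩ : Nonempty (Sylow t K) := inferInstance
  by_contra hcon
  push Not at hcon
  have h1 : (P : Subgroup K) ≤ center K := by
    intro k hk
    by_contra hk'
    obtain ⟨m, hm⟩ := P.isPGroup' ⟨k, hk⟩
    have h2 : k ^ t ^ m = 1 := congrArg Subtype.val hm
    obtain ⟨j, -, hj⟩ := (Nat.dvd_prime_pow Fact.out).1 (orderOf_dvd_of_pow_eq_one h2)
    exact hcon k hk' j hj
  have h2 : ¬ t ∣ (P : Subgroup K).index := P.not_dvd_index
  apply h2
  rw [← Subgroup.relIndex_mul_index h1]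
  exact Dvd.dvd.mul_left h _

end Cfsg.Agent.H472.ComAut
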