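import Cfsg.Agent.S2034
import Cfsg.Agent.S2035
import Cfsg.Agent.S2036
import Cfsg.Agent.S2037
import Cfsg.Agent.S2038
import Cfsg.Agent.S2039
import Cfsg.Agent.S2040
import Cfsg.Agent.S2041
import Cfsg.Agent.S2042
import Cfsg.Agent.S2043
import Cfsg.Agent.S2044
import Cfsg.Agent.S2045
import Cfsg.Agent.S2046
import Cfsg.Agent.S2047
import Cfsg.Agent.S2048
import Cfsg.Agent.S2049
import Cfsg.Agent.S2050
import Cfsg.Agent.S2051
import Cfsg.Agent.S2052
import Cfsg.Agent.S2053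
import Cfsg.Agent.S2054
import Cfsg.Agent.S2055
import Cfsg.Agent.S2056
import Cfsg.Agent.S2057
import Cfsg.Agent.S2058
import Cfsg.Agent.S2059
import Cfsg.Agent.S2086
import Cfsg.Agent.S2089
import Cfsg.Agent.S2111
import Cfsg.Agent.S2112
import Cfsg.Agent.S2113
import Cfsg.Agent.S2114
import Cfsg.Agent.S2115
import Cfsg.Agent.S2116
import Cfsg.Agent.S0892
import Cfsg.Agent.S0252
import Cfsg.Agent.H95.StemCover
import Cfsg.Prelude.Def_Classification2

/-!
# Orders of the centres of quasisimple groups over some simple groups (helper472)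
-/

set_option autoImplicit false

namespace Cfsg.Agent.H472.ComMul

open Subgroup Cfsg

universe u v w

section gen

variable {K : Type u} [Group K] {T : Type v} [Group T]

theorem ker_eq (e : (K ⧸ center K) ≃* T) :
    (e.toMonoidHom.comp (QuotientGroup.mk' (center K))).ker = center K := by
  ext x
  rw [MonoidHom.mem_ker, MonoidHom.comp_apply]
  change e _ = 1 ↔ _
  rw [map_eq_one_iff _ e.injective, QuotientGroup.mk'_apply, QuotientGroup.eq_one_iff]

theorem center_dvd (hK : commutator K = ⊤) {A : Type w} [CommGroup A] (hA : HasSchurMultiplier T A)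
    (e : (K ⧸ center K) ≃* T) : Nat.card (center K) ∣ Nat.card A := by
  have h := H95.StemCover.card_ker_dvd hA hK (e.toMonoidHom.comp (QuotientGroup.mk' (center K)))
    (e.surjective.comp (QuotientGroup.mk'_surjective _)) (by rw [ker_eq])
  rwa [ker_eq] at h

theorem center_dvd_cyclic (hK : commutator K = ⊤) {m : ℕ} (hA : HasCyclicSchurMultiplier T m)
    (e : (K ⧸ center K) ≃* T) : Nat.card (center K) ∣ m := by
  have h := center_dvd hK hA e
  rwa [Nat.card_congr (Multiplicative.toAdd (α := ZMod m)), Nat.card_zmod] at h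

end gen

variable {K : Type u} [Group K]

/-- sporadic groups: the order of the centre divides 12 -/
theorem spor (hK : commutator K = ⊤) (h : IsSporadicGroup (K ⧸ center K)) : Nat.card (center K) ∣ 12 := by
  rcases h with ⟨⟨e⟩⟩ | ⟨⟨e⟩⟩ | ⟨⟨e⟩⟩ | ⟨⟨e⟩⟩ | ⟨⟨e⟩⟩ | ⟨⟨e⟩⟩ | ⟨⟨e⟩⟩ | ⟨F, i1, i2, ω, hF, hω, ⟨e⟩⟩ | ⟨⟨e⟩⟩ | ⟨⟨e⟩⟩ | ⟨⟨e⟩⟩ | ⟨⟨e⟩⟩ |
    ⟨⟨e⟩⟩ | ⟨⟨e⟩⟩ | ⟨⟨e⟩⟩ | ⟨⟨e⟩⟩ | ⟨⟨e⟩⟩ | ⟨⟨e⟩⟩ | ⟨⟨e⟩⟩ | ⟨⟨e⟩⟩ | ⟨⟨e⟩⟩ | ⟨⟨e⟩⟩ | ⟨⟨e⟩⟩ | ⟨⟨e⟩⟩ | ⟨⟨e⟩⟩ | ⟨⟨e⟩⟩
  · exact (center_dvd_cyclic hK Cfsg.Agent.S2034.result e).trans (by decide)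
  · exact (center_dvd_cyclic hK Cfsg.Agent.S2035.result e).trans (by decide)
  · exact (center_dvd_cyclic hK Cfsg.Agent.S2036.result e).trans (by decide)
  · exact (center_dvd_cyclic hK Cfsg.Agent.S2037.result e).trans (by decide)
  · exact (center_dvd_cyclic hK Cfsg.Agent.S2038.result e).trans (by decide)
  · exact (center_dvd_cyclic hK Cfsg.Agent.S2039.result e).trans (by decide)
  · exact (center_dvd_cyclic hK Cfsg.Agent.S2040.result e).trans (by decide)
  · exact (center_dvd_cyclic hK (Cfsg.Agent.S2041.result hF ω hω) e).trans (by decide)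
  · exact (center_dvd_cyclic hK Cfsg.Agent.S2042.result e).trans (by decide)
  · exact (center_dvd_cyclic hK Cfsg.Agent.S2043.result e).trans (by decide)
  · exact (center_dvd_cyclic hK Cfsg.Agent.S2044.result e).trans (by decide)
  · exact (center_dvd_cyclic hK Cfsg.Agent.S2045.result e).trans (by decide)
  · exact (center_dvd_cyclic hK Cfsg.Agent.S2047.result e).trans (by decide)
  · exact (center_dvd_cyclic hK Cfsg.Agent.S2046.result e).trans (by decide)
  · exact (center_dvd_cyclic hK Cfsg.Agent.S2048.result e).trans (by decide)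
  · exact (center_dvd_cyclic hK Cfsg.Agent.S2049.result e).trans (by decide)
  · exact (center_dvd_cyclic hK Cfsg.Agent.S2051.result e).trans (by decide)
  · exact (center_dvd_cyclic hK Cfsg.Agent.S2052.result e).trans (by decide)
  · exact (center_dvd_cyclic hK Cfsg.Agent.S2050.result e).trans (by decide)
  · exact (center_dvd_cyclic hK Cfsg.Agent.S2053.result e).trans (by decide)
  · exact (center_dvd_cyclic hK Cfsg.Agent.S2054.result e).trans (by decide)
  · exact (center_dvd_cyclic hK Cfsg.Agent.S2055.result e).trans (by decide)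
  · exact (center_dvd_cyclic hK Cfsg.Agent.S2056.result e).trans (by decide)
  · exact (center_dvd_cyclic hK Cfsg.Agent.S2057.result e).trans (by decide)
  · exact (center_dvd_cyclic hK Cfsg.Agent.S2058.result e).trans (by decide)
  · exact (center_dvd_cyclic hK Cfsg.Agent.S2059.result e).trans (by decide)

theorem he (hK : commutator K = ⊤) (h : Spor.IsoHe (K ⧸ center K)) : Nat.card (center K) ∣ 1 := by
  obtain ⟨e⟩ := h
  exact center_dvd_cyclic hK Cfsg.Agent.S2049.result e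

theorem tits (hK : commutator K = ⊤) (h : Lie.IsoTits (K ⧸ center K)) : Nat.card (center K) ∣ 1 := by
  obtain ⟨e⟩ := h
  exact center_dvd_cyclic hK Cfsg.Agent.S2115.result e

theorem suzuki (hK : commutator K = ⊤) (h : Lie.IsoSuzuki (K ⧸ center K)) : Nat.card (center K) ∣ 4 := by
  obtain ⟨F, i1, i2, m, hm, hF, ⟨e⟩⟩ := h
  by_cases hm1 : m = 1
  · subst hm1
    have h1 := center_dvd hK (Cfsg.Agent.S2112.result (F := F) (by rw [hF]; norm_num)) e
    rwa [Nat.card_congr (Multiplicative.toAdd (α := ZMod 2 × ZMod 2)), Nat.card_prod, Nat.card_zmod] at h1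
  · exact (center_dvd_cyclic hK (Cfsg.Agent.S2111.result (F := F) (m := m) (by omega) hF) e).trans (by decide)

theorem ree (hK : commutator K = ⊤) (h : Lie.IsoRee (K ⧸ center K)) : Nat.card (center K) ∣ 1 := by
  obtain ⟨F, i1, i2, m, hm, hF, ⟨e⟩⟩ := h
  exact center_dvd_cyclic hK (Cfsg.Agent.S2113.result hm hF) e

theorem twoF4 (hK : commutator K = ⊤) (h : Lie.Iso2F4 (K ⧸ center K)) : Nat.card (center K) ∣ 1 := by
  obtain ⟨F, i1, i2, m, hm, hF, ⟨e⟩⟩ := h
  exact center_dvd_cyclic hK (Cfsg.Agent.S2114.result hm hF) e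

theorem alt_six_seven (hK : commutator K = ⊤) {n : ℕ} (hn : n = 6 ∨ n = 7)
    (e : (K ⧸ center K) ≃* alternatingGroup (Fin n)) : Nat.card (center K) ∣ 6 :=
  center_dvd_cyclic hK (Cfsg.Agent.S2116.result n hn) e

theorem alt [Finite K] (hK : commutator K = ⊤) {n : ℕ} (hn : 4 ≤ n) (h6 : n ≠ 6) (h7 : n ≠ 7)
    (e : (K ⧸ center K) ≃* alternatingGroup (Fin n)) : Nat.card (center K) ≤ 2 :=
  Cfsg.Agent.S0892.result n hn h6 h7 (center K) le_rfl (by rw [hK]; exact le_top) e

theorem psl_two [Finite K] (hK : commutator K = ⊤) {F : Type} [Field F] [Fintype F] (h4 : 4 ≤ Fintype.card F)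
    (h9 : Fintype.card F ≠ 9) (e : (K ⧸ center K) ≃* Matrix.ProjectiveSpecialLinearGroup (Fin 2) F) :
    Nat.card (center K) ≤ 2 := by
  by_cases h : Fintype.card F = 4
  · obtain ⟨f⟩ := Cfsg.Agent.S0252.result h
    exact alt hK (by norm_num) (by norm_num) (by norm_num) (e.trans f)
  · have h1 := center_dvd_cyclic hK (Cfsg.Agent.S2086.result (F := F) rfl 2 le_rfl (fun _ => h4) (by
      simp only [Set.mem_insert_iff, Set.mem_singleton_iff, Prod.mk.injEq, not_or, not_and]
      exact ⟨fun _ => h, fun _ => h9, by norm_num, by norm_num, by norm_num⟩)) e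
    exact Nat.le_of_dvd (by norm_num) (h1.trans (Nat.gcd_dvd_left _ _))

theorem psu_three (hK : commutator K = ⊤) {F : Type} [Field F] [Fintype F] {q : ℕ} (hF : Fintype.card F = q ^ 2)
    (hq : q ≠ 2) (e : (K ⧸ center K) ≃* PSU 3 F q) : Nat.card (center K) ∣ 3 := by
  have h1 := center_dvd_cyclic hK (Cfsg.Agent.S2089.result (F := F) 3 q hF le_rfl (fun h => hq h.2) (by
    simp only [Set.mem_insert_iff, Set.mem_singleton_iff, Prod.mk.injEq, not_or, not_and]
    exact ⟨by norm_num, by norm_num, by norm_num⟩)) e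
  exact h1.trans (Nat.gcd_dvd_left _ _)

theorem psu_three_three (hK : commutator K = ⊤) {F : Type} [Field F] [Fintype F] (hF : Fintype.card F = 3 ^ 2)
    (e : (K ⧸ center K) ≃* PSU 3 F 3) : Nat.card (center K) ∣ 1 := by
  have h1 := center_dvd_cyclic hK (Cfsg.Agent.S2089.result (F := F) 3 3 hF le_rfl (fun h => by omega) (by
    simp only [Set.mem_insert_iff, Set.mem_singleton_iff, Prod.mk.injEq, not_or, not_and]
    exact ⟨by norm_num, by norm_num, by norm_num⟩)) e
  exact h1.trans (by decide)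

end Cfsg.Agent.H472.ComMul
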