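import Cfsg.Agent.H472.ComRed

/-!
# Reduction of S4096 (helper472)

`MinSix r s K x` : a minimal counterexample to S4096 (`G = K⟨x⟩`, `K` quasisimple).
`redSix` : S4096 holds for all finite groups if there is no `MinSix`.
-/

set_option autoImplicit false

namespace Cfsg.Agent.H472.ComRed

open Subgroup Cfsg
open Cfsg.Agent.SignalizersComponents.Components
open Cfsg.Agent.H472.ComAut
open Cfsg.Agent.TwoFusion.FStarControl
open Cfsg.Agent.Lib.Cores

universe u

variable {G : Type u} [Group G]

/-- A minimal counterexample to S4096. -/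
structure MinSix (r s : ℕ) (K : Subgroup G) (x : G) : Prop where
  normal : K.Normal
  qs : IsQuasisimple K
  gen : K ⊔ zpowers x = ⊤
  ne : x ∉ centralizer (K : Set G)
  pow : ∀ g, cm x g = 1 ∨ r * s ∣ orderOf (cm x g)
  fit : ∀ f ∈ fittingSubgroup G, f * x = x * f
  ind : ∀ D : Subgroup G, x ∈ D → D ≠ ⊤ → x ∈ (fittingSubgroup D).map D.subtype

theorem not_dvd_pow {r s t m : ℕ} (hr : r.Prime) (hs : s.Prime) (hrs : r ≠ s) (ht : t.Prime) : ¬ r * s ∣ t ^ m := by
  intro h
  have h1 := (Nat.prime_dvd_prime_iff_eq hr ht).1 (hr.dvd_of_dvd_pow (dvd_of_mul_right_dvd h))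
  have h2 := (Nat.prime_dvd_prime_iff_eq hs ht).1 (hs.dvd_of_dvd_pow (dvd_of_mul_left_dvd h))
  exact hrs (h1.trans h2.symm)

/-- **Reduction of S4096**. -/
theorem redSix {r s : ℕ} (hr : r.Prime) (hs : s.Prime) (hrs : r ≠ s)
    (hno : ∀ (H : Type u) [Group H] [Finite H] (K : Subgroup H) (y : H), MinSix r s K y → False)
    (H : Type u) [Group H] [Finite H] (x : H) (hx : ∀ g, cm x g = 1 ∨ r * s ∣ orderOf (cm x g)) :
    x ∈ fittingSubgroup H := by
  suffices h : ∀ n, ∀ (H : Type u) [Group H] [Finite H], Nat.card H < n → ∀ x : H,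
      (∀ g, cm x g = 1 ∨ r * s ∣ orderOf (cm x g)) → x ∈ fittingSubgroup H from
    h (Nat.card H + 1) H (Nat.lt_succ_self _) x hx
  intro n
  induction n with
  | zero => intro H _ _ h; exact absurd h (Nat.not_lt_zero _)
  | succ n ihn =>
    intro G _ _ hn x hx
    have ih : ∀ (L : Type u) [Group L] [Finite L], Nat.card L < Nat.card G → ∀ x : L,
      (∀ g, cm x g = 1 ∨ r * s ∣ orderOf (cm x g)) → x ∈ fittingSubgroup L :=
      fun L _ _ hL => ihn L (lt_of_lt_of_le hL (Nat.lt_succ_iff.1 hn))
    have hF : ∀ f ∈ fittingSubgroup G, f * x = x * f := by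
      suffices h : fittingSubgroup G ≤ centralizer ({x} : Set G) from
        fun f hf => mem_centralizer_singleton_iff.1 (h hf)
      rw [fittingSubgroup_eq_iSup_pCore]
      refine iSup_le fun t => ?_
      intro f hf
      rw [mem_centralizer_singleton_iff]
      have h1 : cm x f ∈ pCore t G := cm_mem (pCore_normal_inst _) x hf
      obtain ⟨m, hm⟩ := pCore_isPGroup (t : ℕ) ⟨_, h1⟩
      have hm' : (cm x f) ^ (t : ℕ) ^ m = 1 := congrArg Subtype.val hm
      rcases hx f with h2 | h2
      · exact (cm_eq_one.1 h2).symm
      · exact absurd (h2.trans (orderOf_dvd_of_pow_eq_one hm')) (not_dvd_pow hr hs hrs t.2)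
    have hE : layer G ≤ centralizer ({x} : Set G) := by
      rw [layer_le_iff]
      intro K hK k hk
      rw [mem_centralizer_singleton_iff]
      suffices h : x ∈ centralizer (K : Set G) from mem_centralizer_iff.1 h k hk
      have hQ := hK.2
      have hxn : x ∈ normalizer (K : Set G) := by
        by_contra hxn
        obtain ⟨t, ht, htd, -⟩ := exists_prime_ne hK.2.2 (quot_not_comm hK.2) hr
        have h1 : K.map (MulAut.conj x⁻¹).toMonoidHom ≠ K := fun h => hxn (by
          have := map_conj_eq_iff.1 h
          simpa using this)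
        obtain ⟨k, -, h2, m, hm⟩ := exists_of_move hK h1 ht htd
        rcases hx k with h3 | h3
        · exact h2 h3
        · rw [hm] at h3
          exact not_dvd_pow hr hs hrs ht h3
      by_contra hxc
      by_cases hD : K ⊔ zpowers x = ⊤
      · have hKn : K.Normal := by
          rw [← normalizer_eq_top_iff, ← top_le_iff, ← hD]
          exact sup_le le_normalizer (zpowers_le.2 hxn)
        refine hno G K x ⟨hKn, hQ, hD, hxc, hx, hF, ?_⟩
        intro D hxD hDt
        have h1 := ih D (card_lt hDt) ⟨x, hxD⟩ (fun g => by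
          rcases hx g with h | h
          · left
            exact Subtype.ext h
          · right
            rw [← Subgroup.orderOf_coe]
            exact h)
        exact ⟨_, h1, rfl⟩
      · set D := K ⊔ zpowers x with hDdef
        have hKD : K ≤ D := le_sup_left
        have hxD : x ∈ D := (le_sup_right : zpowers x ≤ D) (mem_zpowers x)
        have h1 := ih D (card_lt hD) ⟨x, hxD⟩ (fun g => by
          rcases hx g with h | h
          · left
            exact Subtype.ext h
          · right
            rw [← Subgroup.orderOf_coe]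
            exact h)
        have hKc : IsComponent (K.subgroupOf D) := isComponent_subgroupOf hKD hK
        have h2 : ⁅K.subgroupOf D, fittingSubgroup D⁆ = ⊥ :=
          component_commutator_solvable hKc (by rw [normalizer_eq_top_iff.2 inferInstance]; exact le_top) (by
            have := fittingSubgroup_isNilpotent (G := D)
            infer_instance)
        rw [commutator_eq_bot_iff_le_centralizer, le_centralizer_iff] at h2
        apply hxc
        rw [mem_centralizer_iff]
        intro k hk
        have h3 := mem_centralizer_iff.1 (h2 h1) ⟨k, hKD hk⟩ (mem_subgroupOf.2 hk)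
        exact congrArg Subtype.val h3
    apply centralizer_genFitting_le_fitting
    rw [mem_centralizer_iff]
    intro k hk
    have h1 : generalizedFittingSubgroup G ≤ centralizer ({x} : Set G) :=
      sup_le hE fun f hf => mem_centralizer_singleton_iff.2 (hF f hf)
    exact mem_centralizer_singleton_iff.1 (h1 hk)

end Cfsg.Agent.H472.ComRed
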