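import Cfsg.Agent.H472.ComAlt
import Cfsg.Agent.H705.ComRank
import Mathlib.Dynamics.PeriodicPts.Lemmas

/-!
# `RFix 2` automorphisms of `A_6`, `A_7` of order divisible by 6 (helper472)
-/

set_option autoImplicit false

namespace Cfsg.Agent.H472.ComAlt

open Equiv Equiv.Perm Function

/-- some even involution commutes with its image under `σ`, and is different from it -/
def PT {n : ℕ} (σ : Perm (Fin n)) : Prop :=
  ∃ s : Perm (Fin n), Perm.sign s = 1 ∧ s * s = 1 ∧ s * (σ * s * σ⁻¹) = (σ * s * σ⁻¹) * s ∧ σ * s * σ⁻¹ ≠ s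

theorem witPT {n m : ℕ} (ι : Fin m ↪ Fin n) {σ : Perm (Fin n)} (i j k l i' j' k' l' : Fin m)
    (hij : i ≠ j) (hkl : k ≠ l) (hi : σ (ι i) = ι i') (hj : σ (ι j) = ι j') (hk : σ (ι k) = ι k')
    (hl : σ (ι l) = ι l') (h1 : (swap i j * swap k l) * (swap i j * swap k l) = 1)
    (h2 : (swap i j * swap k l) * (swap i' j' * swap k' l') = (swap i' j' * swap k' l') * (swap i j * swap k l))
    (h3 : swap i' j' * swap k' l' ≠ swap i j * swap k l) : PT σ := by
  have e1 : σ * (swap (ι i) (ι j) * swap (ι k) (ι l)) * σ⁻¹ = viaEmbeddingHom ι (swap i' j' * swap k' l') := by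
    rw [map_mul, via_swap, via_swap, ← hi, ← hj, ← hk, ← hl, ← conj_swap, ← conj_swap]
    group
  have e2 : swap (ι i) (ι j) * swap (ι k) (ι l) = viaEmbeddingHom ι (swap i j * swap k l) := by
    rw [map_mul, via_swap, via_swap]
  refine ⟨swap (ι i) (ι j) * swap (ι k) (ι l), ?_, ?_, ?_, ?_⟩
  · rw [map_mul, sign_swap (fun h => hij (ι.injective h)), sign_swap (fun h => hkl (ι.injective h))]
    rfl
  · rw [e2, ← map_mul, h1, map_one]
  · rw [e1, e2, ← map_mul, ← map_mul, h2]
  · rw [e1, e2]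
    exact fun h => h3 (viaEmbeddingHom_injective ι h)

variable {n : ℕ} {σ : Perm (Fin n)}

/-- the iterates below the minimal period are different -/
theorem iter_ne (a : Fin n) {i j : ℕ} (hi : i < minimalPeriod σ a) (hj : j < minimalPeriod σ a) (hij : i ≠ j) :
    σ^[i] a ≠ σ^[j] a := fun h => hij (iterate_injOn_Iio_minimalPeriod hi hj h)

theorem period_le (a : Fin n) : minimalPeriod σ a ≤ n := by
  have h1 := Finset.card_le_card_of_injOn (s := Finset.range (minimalPeriod σ a)) (t := Finset.univ)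
    (fun i => σ^[i] a) (fun _ _ => Finset.mem_univ _) (by
      intro i hi j hj h
      rw [Finset.coe_range] at hi hj
      exact iterate_injOn_Iio_minimalPeriod hi hj h)
  rwa [Finset.card_range, Finset.card_univ, Fintype.card_fin] at h1

theorem period_pos (a : Fin n) : 0 < minimalPeriod σ a := by
  apply minimalPeriod_pos_of_mem_periodicPts
  refine ⟨orderOf σ, orderOf_pos σ, ?_⟩
  show σ^[orderOf σ] a = a
  rw [← Perm.coe_pow, pow_orderOf_eq_one]
  rfl

theorem exists_period {p : ℕ} (hp : p.Prime) (h : p ∣ orderOf σ) : ∃ a : Fin n, p ∣ minimalPeriod σ a := by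
  have h1 : σ ^ (∏ a : Fin n, minimalPeriod σ a) = 1 := by
    ext a
    rw [Perm.coe_pow]
    have h2 : IsPeriodicPt σ (∏ a : Fin n, minimalPeriod σ a) a :=
      (isPeriodicPt_minimalPeriod σ a).trans_dvd (Finset.dvd_prod_of_mem _ (Finset.mem_univ a))
    have h3 : σ^[∏ a : Fin n, minimalPeriod σ a] a = a := h2
    rw [h3]
    rfl
  obtain ⟨a, -, ha⟩ := (Prime.dvd_finsetProd_iff hp.prime _).1 (h.trans (orderOf_dvd_of_pow_eq_one h1))
  exact ⟨a, ha⟩

theorem pt_six_cycle {a : Fin n} (h : minimalPeriod σ a = 6) : PT σ := by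
  have hne : ∀ i j : ℕ, i < 6 → j < 6 → i ≠ j → σ^[i] a ≠ σ^[j] a := fun i j hi hj hij =>
    iter_ne a (h ▸ hi) (h ▸ hj) hij
  let ι := emb6 (σ^[0] a) (σ^[1] a) (σ^[2] a) (σ^[3] a) (σ^[4] a) (σ^[5] a)
    (hne 0 1 (by norm_num) (by norm_num) (by norm_num)) (hne 0 2 (by norm_num) (by norm_num) (by norm_num))
    (hne 0 3 (by norm_num) (by norm_num) (by norm_num)) (hne 0 4 (by norm_num) (by norm_num) (by norm_num))
    (hne 0 5 (by norm_num) (by norm_num) (by norm_num)) (hne 1 2 (by norm_num) (by norm_num) (by norm_num))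
    (hne 1 3 (by norm_num) (by norm_num) (by norm_num)) (hne 1 4 (by norm_num) (by norm_num) (by norm_num))
    (hne 1 5 (by norm_num) (by norm_num) (by norm_num)) (hne 2 3 (by norm_num) (by norm_num) (by norm_num))
    (hne 2 4 (by norm_num) (by norm_num) (by norm_num)) (hne 2 5 (by norm_num) (by norm_num) (by norm_num))
    (hne 3 4 (by norm_num) (by norm_num) (by norm_num)) (hne 3 5 (by norm_num) (by norm_num) (by norm_num))
    (hne 4 5 (by norm_num) (by norm_num) (by norm_num))
  have hs : ∀ i : ℕ, σ (σ^[i] a) = σ^[i + 1] a := fun i => (iterate_succ_apply' σ i a).symm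
  -- h = (0 3)(1 4) -> (1 4)(2 5)
  exact witPT ι 0 3 1 4 1 4 2 5 (by decide) (by decide) (hs 0) (hs 3) (hs 1) (hs 4) (by decide) (by decide)
    (by decide)

theorem pt_four_cycle {a : Fin n} (h : minimalPeriod σ a = 4) : PT σ := by
  have hne : ∀ i j : ℕ, i < 4 → j < 4 → i ≠ j → σ^[i] a ≠ σ^[j] a := fun i j hi hj hij =>
    iter_ne a (h ▸ hi) (h ▸ hj) hij
  let ι := emb4 (σ^[0] a) (σ^[1] a) (σ^[2] a) (σ^[3] a)
    (hne 0 1 (by norm_num) (by norm_num) (by norm_num)) (hne 0 2 (by norm_num) (by norm_num) (by norm_num))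
    (hne 0 3 (by norm_num) (by norm_num) (by norm_num)) (hne 1 2 (by norm_num) (by norm_num) (by norm_num))
    (hne 1 3 (by norm_num) (by norm_num) (by norm_num)) (hne 2 3 (by norm_num) (by norm_num) (by norm_num))
  have hs : ∀ i : ℕ, σ (σ^[i] a) = σ^[i + 1] a := fun i => (iterate_succ_apply' σ i a).symm
  have h4 : σ (σ^[3] a) = σ^[0] a := by
    rw [hs 3]
    have := isPeriodicPt_minimalPeriod σ a
    rw [h] at this
    exact this
  -- h = (0 1)(2 3) -> (1 2)(3 0)
  exact witPT ι 0 1 2 3 1 2 3 0 (by decide) (by decide) (hs 0) (hs 1) (hs 2) h4 (by decide) (by decide)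
    (by decide)

/-- **`σ ∈ S_6, S_7` of order divisible by 6.** -/
theorem pt (hn : 6 ≤ n) (hn7 : n ≤ 7) (h2 : 2 ∣ orderOf σ) (h3 : 3 ∣ orderOf σ) : PT σ := by
  obtain ⟨a, ha⟩ := exists_period Nat.prime_three h3
  obtain ⟨x, hx⟩ := exists_period Nat.prime_two h2
  have ha0 := period_pos (σ := σ) a
  have hx0 := period_pos (σ := σ) x
  have ha7 := (period_le (σ := σ) a).trans hn7
  have hx7 := (period_le (σ := σ) x).trans hn7
  have ha' : minimalPeriod σ a = 3 ∨ minimalPeriod σ a = 6 := by omega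
  have hx' : minimalPeriod σ x = 2 ∨ minimalPeriod σ x = 4 ∨ minimalPeriod σ x = 6 := by omega
  rcases ha' with ha' | ha'
  swap
  · exact pt_six_cycle ha'
  rcases hx' with hx' | hx' | hx'
  rotate_left
  · exact pt_four_cycle hx'
  · exact pt_six_cycle hx'
  have inj : ∀ {u v u' v' : Fin n}, σ u = u' → σ v = v' → u ≠ v → u' ≠ v' := by
    intro u v u' v' h1 h2 h h'
    exact h (σ.injective (by rw [h1, h2, h']))
  obtain ⟨b, hb⟩ : ∃ b, σ a = b := ⟨_, rfl⟩
  obtain ⟨c, hc⟩ : ∃ c, σ b = c := ⟨_, rfl⟩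
  have hca : σ c = a := by
    have := isPeriodicPt_minimalPeriod σ a
    rw [ha'] at this
    have h4 : σ (σ (σ a)) = a := this
    rw [← hc, ← hb, h4]
  have hab : a ≠ b := by
    have := iter_ne (σ := σ) a (i := 0) (j := 1) (by omega) (by omega) (by omega)
    have h4 : a ≠ σ a := this
    rwa [hb] at h4
  have hbc : b ≠ c := inj hb hc hab
  have hac : a ≠ c := (inj hc hca hbc).symm
  obtain ⟨y, hy⟩ : ∃ y, σ x = y := ⟨_, rfl⟩
  have hyx : σ y = x := by
    have := isPeriodicPt_minimalPeriod σ x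
    rw [hx'] at this
    have h4 : σ (σ x) = x := this
    rw [← hy, h4]
  have hxy : x ≠ y := by
    have := iter_ne (σ := σ) x (i := 0) (j := 1) (by omega) (by omega) (by omega)
    have h4 : x ≠ σ x := this
    rwa [hy] at h4
  -- `x, y` are different from `a, b, c`
  have h6 : ∀ z : Fin n, σ (σ z) = z → z ≠ a ∧ z ≠ b ∧ z ≠ c := by
    intro z hz
    refine ⟨?_, ?_, ?_⟩
    · rintro rfl
      rw [hb, hc] at hz
      exact hac hz.symm
    · rintro rfl
      rw [hc, hca] at hz
      exact hab hz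
    · rintro rfl
      rw [hca, hb] at hz
      exact hbc hz
  obtain ⟨hxa, hxb, hxc⟩ := h6 x (by rw [hy, hyx])
  obtain ⟨hya, hyb, hyc⟩ := h6 y (by rw [hyx, hy])
  obtain ⟨f, hf⟩ := exists_out ({a, b, c, x, y} : Finset (Fin n))
    (lt_of_le_of_lt Finset.card_le_five (by omega))
  simp only [Finset.mem_insert, Finset.mem_singleton, not_or] at hf
  obtain ⟨hfa, hfb, hfc, hfx, hfy⟩ := hf
  by_cases hff : σ f = f
  · -- h = (a b)(c f) -> (b c)(a f)
    let ι := emb4 a b c f hab hac (Ne.symm hfa) hbc (Ne.symm hfb) (Ne.symm hfc)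
    exact witPT ι 0 1 2 3 1 2 0 3 (by decide) (by decide) hb hc hca hff (by decide) (by decide) (by decide)
  · obtain ⟨g, hg⟩ : ∃ g, σ f = g := ⟨_, rfl⟩
    rw [hg] at hff
    have hga : g ≠ a := inj hg hca hfc
    have hgb : g ≠ b := inj hg hb hfa
    have hgx : g ≠ x := inj hg hyx hfy
    have hgy : g ≠ y := inj hg hy hfx
    -- h = (x y)(a f) -> (y x)(b g)
    let ι := emb6 a b x y f g hab (Ne.symm hxa) (Ne.symm hya) (Ne.symm hfa) (Ne.symm hga) (Ne.symm hxb)
      (Ne.symm hyb) (Ne.symm hfb) (Ne.symm hgb) hxy (Ne.symm hfx) (Ne.symm hgx) (Ne.symm hfy) (Ne.symm hgy)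
      (Ne.symm hff)
    exact witPT ι 2 3 0 4 3 2 1 5 (by decide) (by decide) hy hyx hb hg (by decide) (by decide) (by decide)

open Cfsg.Agent.H705

/-- A `RFix 2` automorphism of `A_n` does not come from a permutation satisfying `PT`. -/
theorem not_rfix_of_perm {a : MulAut (alternatingGroup (Fin n))}
    (h : ∀ x : alternatingGroup (Fin n), ((a x : alternatingGroup (Fin n)) : Perm (Fin n)) = σ * x * σ⁻¹)
    (hpt : PT σ) : ¬ RFix 2 a := by
  intro hR
  obtain ⟨s, hs, hss, hc, hne⟩ := hpt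
  set t : alternatingGroup (Fin n) := ⟨s, mem_alternatingGroup.2 hs⟩ with ht
  have htt : t * t = 1 := Subtype.ext hss
  have htc : t * a t = a t * t := by
    apply Subtype.ext
    rw [Subgroup.coe_mul, Subgroup.coe_mul, h]
    exact hc
  have hatt : a t * a t = 1 := by rw [← map_mul, htt, map_one]
  -- the group generated by `t` and `a t`
  have key : a t = t := by
    have hcl : IsPGroup 2 (Subgroup.closure ({t, a t} : Set (alternatingGroup (Fin n)))) := by
      have hcomm : ∀ u ∈ ({t, a t} : Set (alternatingGroup (Fin n))), ∀ v ∈ ({t, a t} : Set _), u * v = v * u := by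
        rintro u (rfl | hu) v (rfl | hv)
        · rfl
        · rw [Set.mem_singleton_iff.1 hv]; exact htc
        · rw [Set.mem_singleton_iff.1 hu]; exact htc.symm
        · rw [Set.mem_singleton_iff.1 hu, Set.mem_singleton_iff.1 hv]
      have hab := Subgroup.isMulCommutative_closure hcomm
      rintro ⟨u, hu⟩
      refine ⟨1, ?_⟩
      apply Subtype.ext
      show u ^ 2 ^ 1 = 1
      rw [pow_one]
      induction hu using Subgroup.closure_induction with
      | mem v hv =>
        rcases hv with rfl | hv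
        · rw [sq]; exact htt
        · rw [Set.mem_singleton_iff.1 hv, sq]; exact hatt
      | one => exact one_pow 2
      | mul v w hv hw h1 h2 =>
        have h3 : v * w = w * v := congrArg Subtype.val (hab.is_comm.comm ⟨v, hv⟩ ⟨w, hw⟩)
        rw [(show Commute v w from h3).mul_pow, h1, h2, one_mul]
      | inv v hv h1 => rw [inv_pow, h1, inv_one]
    exact hR _ hcl t (Subgroup.subset_closure (Set.mem_insert _ _))
      (Subgroup.subset_closure (Set.mem_insert_of_mem _ rfl))
  apply hne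
  rw [← h t, key]

end Cfsg.Agent.H472.ComAlt
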