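import Cfsg.Agent.H472.ComSixOne
import Cfsg.Agent.H705.ComRank
import Cfsg.Agent.Lib.GenFitting

/-!
# S4096: the automorphism of the simple quotient (helper472)

* `MinSix.bad` : it is `Bad p` for `p ∈ {r, s}` prime to `#Z(K)`;
* `MinSix.rfix` : it is `RFix ℓ` for every prime `ℓ`.
-/

set_option autoImplicit false
set_option linter.unusedSectionVars false

namespace Cfsg.Agent.H472.ComRed

open Subgroup Cfsg
open scoped Pointwise
open Cfsg.Agent.SignalizersComponents.Components
open Cfsg.Agent.H472.ComAut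
open Cfsg.Agent.Lib.Cores
open Cfsg.Agent.H705

universe u

variable {G : Type u} [Group G] [Finite G]

theorem MinSix.symm {r s : ℕ} {K : Subgroup G} {x : G} (h : MinSix r s K x) : MinSix s r K x :=
  ⟨h.normal, h.qs, h.gen, h.ne, fun g => by rw [mul_comm]; exact h.pow g, h.fit, h.ind⟩

/-- The automorphism of the simple quotient. -/
def MinSix.aut {r s : ℕ} {K : Subgroup G} {x : G} (h : MinSix r s K x) : MulAut (K ⧸ center K) :=
  quotAut (nAut h.mem_normalizer)

theorem MinSix.aut_mk {r s : ℕ} {K : Subgroup G} {x : G} (h : MinSix r s K x) (k : K) :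
    h.aut (QuotientGroup.mk k) = QuotientGroup.mk (nAut h.mem_normalizer k) := rfl

theorem MinSix.aut_ne_one {r s : ℕ} {K : Subgroup G} {x : G} (h : MinSix r s K x) : h.aut ≠ 1 := fun h1 =>
  h.ne (nAut_eq_one h.mem_normalizer (eq_one_of_quotAut h.qs.1 h1))

theorem MinSix.bad {r s : ℕ} {K : Subgroup G} {x : G} (h : MinSix r s K x) {p : ℕ} (hp : p.Prime)
    (hprs : p ∣ r * s) (hZ : ¬ p ∣ Nat.card (center K)) : Bad p h.aut := by
  intro v
  induction v using QuotientGroup.induction_on with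
  | _ k =>
  set c : K := (nAut h.mem_normalizer k)⁻¹ * k with hc
  have h1 : (h.aut (QuotientGroup.mk k))⁻¹ * QuotientGroup.mk k = (QuotientGroup.mk c : K ⧸ center K) := by
    rw [h.aut_mk, hc, QuotientGroup.mk_mul, QuotientGroup.mk_inv]
  rw [h1]
  rcases h.pow k with h2 | h2
  · left
    have h3 : c = 1 := by
      apply Subtype.ext
      rw [hc, nAut_cm]
      exact h2
    rw [h3]
    rfl
  · right
    have h3 : p ∣ orderOf c := by
      rw [← Subgroup.orderOf_coe, hc, nAut_cm]
      exact hprs.trans h2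
    have h4 : c ^ (orderOf (QuotientGroup.mk c : K ⧸ center K)) ∈ center K := by
      rw [← QuotientGroup.eq_one_iff, QuotientGroup.mk_pow, pow_orderOf_eq_one]
    have h5 : c ^ (orderOf (QuotientGroup.mk c : K ⧸ center K) * Nat.card (center K)) = 1 := by
      rw [pow_mul]
      have := pow_card_eq_one' (x := (⟨_, h4⟩ : center K))
      exact congrArg Subtype.val this
    rcases hp.dvd_mul.1 (h3.trans (orderOf_dvd_of_pow_eq_one h5)) with h6 | h6
    · exact h6
    · exact absurd h6 hZ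

/-- The preimage in `K` of an `ℓ`-subgroup of `K / Z(K)` is nilpotent. -/
theorem nilp_comap {K : Type*} [Group K] [Finite K] {l : ℕ} [Fact l.Prime] {V : Subgroup (K ⧸ center K)}
    (hV : IsPGroup l V) : Group.IsNilpotent (V.comap (QuotientGroup.mk' (center K))) := by
  set M := V.comap (QuotientGroup.mk' (center K)) with hM
  let f : M →* V := ((QuotientGroup.mk' (center K)).comp M.subtype).codRestrict V fun y => y.2
  have hk : f.ker ≤ center M := by
    intro z hz
    rw [MonoidHom.mem_ker] at hz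
    have h1 : (QuotientGroup.mk' (center K)) (z : K) = 1 := congrArg Subtype.val hz
    rw [← MonoidHom.mem_ker, QuotientGroup.ker_mk', mem_center_iff] at h1
    rw [mem_center_iff]
    intro g
    exact Subtype.ext (h1 g)
  have := hV.isNilpotent
  exact Subgroup.isNilpotent_of_ker_le_center f hk

/-- Every `ℓ`-element of `K / Z(K)` lifts to an `ℓ`-element. -/
theorem exists_lift {K : Type*} [Group K] [Finite K] {N : Subgroup K} [N.Normal] {l : ℕ} (hl : l.Prime) (k : K)
    {i : ℕ} (hi : (QuotientGroup.mk k : K ⧸ N) ^ l ^ i = 1) :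
    ∃ k' : K, (QuotientGroup.mk k' : K ⧸ N) = QuotientGroup.mk k ∧ ∃ e, k' ^ l ^ e = 1 := by
  have ho : orderOf k ≠ 0 := (orderOf_pos k).ne'
  set e := (orderOf k).factorization l with he
  set m := orderOf k / l ^ e with hm
  have hmul : l ^ e * m = orderOf k := Nat.mul_div_cancel' (Nat.ordProj_dvd _ _)
  have hcop : Nat.Coprime m (l ^ e) := Nat.Coprime.pow_right _ (Nat.coprime_ordCompl hl ho).symm
  obtain ⟨b, c, hbc⟩ : ∃ b c : ℤ, (m : ℤ) * b + ((l ^ e : ℕ) : ℤ) * c = 1 := by
    have := Nat.gcd_eq_gcd_ab m (l ^ e)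
    rw [hcop.gcd_eq_one] at this
    exact ⟨_, _, this.symm⟩
  refine ⟨k ^ ((m : ℤ) * b), ?_, e, ?_⟩
  · have h1 : orderOf (QuotientGroup.mk k : K ⧸ N) ∣ l ^ e := by
      obtain ⟨j, -, hj⟩ := (Nat.dvd_prime_pow hl).1 (orderOf_dvd_of_pow_eq_one hi)
      rw [hj]
      have h2 : l ^ j ∣ orderOf k := by
        rw [← hj]
        exact orderOf_map_dvd (QuotientGroup.mk' N) k
      exact pow_dvd_pow _ ((hl.pow_dvd_iff_le_factorization ho).1 h2)
    have h2 : (QuotientGroup.mk k : K ⧸ N) ^ (((l ^ e : ℕ) : ℤ) * c) = 1 := by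
      rw [zpow_mul, zpow_natCast, orderOf_dvd_iff_pow_eq_one.1 h1, one_zpow]
    have h3 : (QuotientGroup.mk k : K ⧸ N) = (QuotientGroup.mk k : K ⧸ N) ^ ((m : ℤ) * b) := by
      conv_lhs => rw [← zpow_one (QuotientGroup.mk k : K ⧸ N), ← hbc, zpow_add, h2, mul_one]
    rw [QuotientGroup.mk_zpow]
    exact h3.symm
  · rw [← zpow_natCast, ← zpow_mul]
    have h2 : ((m : ℤ) * b) * ((l ^ e : ℕ) : ℤ) = (orderOf k : ℤ) * b := by
      rw [← hmul]
      push_cast
      ring
    rw [h2, zpow_mul, zpow_natCast, pow_orderOf_eq_one, one_zpow]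

theorem MinSix.rfix {r s : ℕ} (hr : r.Prime) (hs : s.Prime) (hrs : r ≠ s) {K : Subgroup G} {x : G}
    (h : MinSix r s K x) {l : ℕ} (hl : l.Prime) : RFix l h.aut := by
  have := Fact.mk hl
  intro V hV v hv hav
  induction v using QuotientGroup.induction_on with
  | _ k =>
  obtain ⟨i, hi⟩ := hV ⟨_, hv⟩
  have hi' : (QuotientGroup.mk k : K ⧸ center K) ^ l ^ i = 1 := congrArg Subtype.val hi
  obtain ⟨k', hk', e, he⟩ := exists_lift hl k hi'
  rw [← hk'] at hv hav ⊢
  set α := nAut h.mem_normalizer with hα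
  set M := V.comap (QuotientGroup.mk' (center K)) with hM
  have hnil : Group.IsNilpotent M := nilp_comap hV
  have h1 : k' ∈ M := hv
  have h2 : α k' ∈ M := hav
  have h3 : (⟨k', h1⟩ : M) ∈ pCore l M :=
    Cfsg.Agent.Lib.GenFitting.mem_pCore_of_mem_nilpotent_normal (N := ⊤) inferInstance
      (by infer_instance) (mem_top _) (k := e) (Subtype.ext (by simpa using he))
  have h4 : (⟨α k', h2⟩ : M) ∈ pCore l M :=
    Cfsg.Agent.Lib.GenFitting.mem_pCore_of_mem_nilpotent_normal (N := ⊤) inferInstance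
      (by infer_instance) (mem_top _) (k := e) (Subtype.ext (by
        show (α k') ^ l ^ e = 1
        rw [← map_pow, he, map_one]))
  obtain ⟨j, hj⟩ := pCore_isPGroup (G := M) l ⟨_, mul_mem (inv_mem h4) h3⟩
  have hj' : ((α k')⁻¹ * k') ^ l ^ j = 1 := congrArg (fun z : pCore l M => ((z : M) : K)) hj
  have h5 : cm x (k' : G) = 1 := by
    rcases h.pow k' with h6 | h6
    · exact h6
    · exfalso
      rw [← nAut_cm h.mem_normalizer, Subgroup.orderOf_coe] at h6
      exact not_dvd_pow hr hs hrs hl (h6.trans (orderOf_dvd_of_pow_eq_one hj'))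
  rw [← nAut_cm h.mem_normalizer] at h5
  have h6 : (α k')⁻¹ * k' = 1 := Subtype.ext h5
  rw [h.aut_mk, inv_mul_eq_one.1 h6]

end Cfsg.Agent.H472.ComRed
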