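import Cfsg.Agent.H472.ComSixAlt
import Cfsg.Agent.H472.ComSixTwo
import Cfsg.Agent.H402.AltGrp
import Cfsg.Agent.H284.AltComp

/-!
# S4096: quasisimple groups over `A_6`, `A_7` (helper472)
-/

set_option autoImplicit false

namespace Cfsg.Agent.H472.ComRed

open Subgroup Cfsg Equiv
open Cfsg.Agent.H472.ComAut
open Cfsg.Agent.H472.ComAlt
open Cfsg.Agent.H705

universe u

theorem quotAut_pow {K : Type*} [Group K] (α : MulAut K) (k : ℕ) : quotAut α ^ k = quotAut (α ^ k) := by
  induction k with
  | zero =>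
    ext v
    induction v using QuotientGroup.induction_on with
    | _ v => rfl
  | succ k ih =>
    rw [pow_succ, ih, pow_succ]
    ext v
    induction v using QuotientGroup.induction_on with
    | _ v => rfl

variable {G : Type u} [Group G] [Finite G]

theorem MinSix.dvd_aut {r s : ℕ} (hr : r.Prime) {K : Subgroup G} {x : G} (h : MinSix r s K x) :
    r ∣ orderOf h.aut := by
  refine (h.dvd_orderOf hr).trans ?_
  apply orderOf_dvd_of_pow_eq_one
  apply eq_one_of_quotAut h.qs.1
  rw [← quotAut_pow]
  exact pow_orderOf_eq_one h.aut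

theorem MinSix.dvd_aut' {r s : ℕ} (hr : r.Prime) (hs : s.Prime) {K : Subgroup G} {x : G} (h : MinSix r s K x) {p : ℕ}
    (hp : p.Prime) (hprs : p ∣ r * s) : p ∣ orderOf h.aut := by
  rcases hp.dvd_mul.1 hprs with h1 | h1
  · rw [(Nat.prime_dvd_prime_iff_eq hp hr).1 h1]
    exact h.dvd_aut hr
  · rw [(Nat.prime_dvd_prime_iff_eq hp hs).1 h1]
    exact h.symm.dvd_aut hs

theorem rfix_transport {S T : Type*} [Group S] [Group T] (e : S ≃* T) {l : ℕ} {a : MulAut S} (h : RFix l a) :
    RFix l (((e.symm.trans a).trans e : T ≃* T) : MulAut T) := by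
  intro V hV v hv hav
  have h1 : IsPGroup l (V.comap e.toMonoidHom) := hV.comap_of_injective _ e.injective
  have h2 := h _ h1 (e.symm v) (by
    show e (e.symm v) ∈ V
    rwa [e.apply_symm_apply]) (by
    show e (a (e.symm v)) ∈ V
    exact hav)
  show e (a (e.symm v)) = v
  rw [h2, e.apply_symm_apply]

theorem MinSix.false_of_alt {r s : ℕ} (hr : r.Prime) (hs : s.Prime) (hrs : r ≠ s) {K : Subgroup G} {x : G}
    (h : MinSix r s K x) (h2 : 2 ∣ r * s) (h3 : 3 ∣ r * s) {n : ℕ} (hn : n = 6 ∨ n = 7)
    (e : (K ⧸ center K) ≃* alternatingGroup (Fin n)) : False := by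
  set b : MulAut (alternatingGroup (Fin n)) := (e.symm.trans h.aut).trans e with hb
  have hbR : RFix 2 b := rfix_transport e (h.rfix hr hs hrs Nat.prime_two)
  have hbpow : ∀ k : ℕ, ∀ v, (b ^ k) (e v) = e ((h.aut ^ k) v) := by
    intro k
    induction k with
    | zero => intro v; rfl
    | succ k ih =>
      intro v
      rw [pow_succ', pow_succ', MulAut.mul_apply, MulAut.mul_apply, ih]
      show e (h.aut (e.symm (e _))) = _
      rw [e.symm_apply_apply]
  have hbo : orderOf h.aut ∣ orderOf b := by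
    apply orderOf_dvd_of_pow_eq_one
    ext v
    apply e.injective
    rw [← hbpow, pow_orderOf_eq_one]
    rfl
  have h2b : 2 ∣ orderOf b := (h.dvd_aut' hr hs Nat.prime_two h2).trans hbo
  have h3b : 3 ∣ orderOf b := (h.dvd_aut' hr hs Nat.prime_three h3).trans hbo
  -- a fixed element of order three
  have hfix : ∃ w : alternatingGroup (Fin n), w * w * w = 1 ∧ w ≠ 1 ∧ b w = w := by
    obtain ⟨w, hw⟩ := H402.AltG.inner_four (m := n) (by omega) b
    have hbw : b w = w := by
      have h4 : MulAut.conj (b w) = MulAut.conj w := by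
        have h5 : b * MulAut.conj w * b⁻¹ = MulAut.conj w := by
          rw [← hw]
          group
        rw [← h5]
        ext v
        simp [MulAut.mul_apply]
      have h6 : (b w)⁻¹ * w ∈ center (alternatingGroup (Fin n)) := by
        rw [mem_center_iff]
        intro g
        have h7 : b w * (((b w)⁻¹ * w) * g * ((b w)⁻¹ * w)⁻¹) * (b w)⁻¹ = b w * g * (b w)⁻¹ := by
          have h8 := congrArg (fun f : MulAut (alternatingGroup (Fin n)) => f g) h4
          have h9 : b w * g * (b w)⁻¹ = w * g * w⁻¹ := h8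
          rw [h9]
          group
        have h10 := mul_left_cancel (mul_right_cancel h7)
        calc g * ((b w)⁻¹ * w) = (((b w)⁻¹ * w) * g * ((b w)⁻¹ * w)⁻¹) * ((b w)⁻¹ * w) := by rw [h10]
          _ = ((b w)⁻¹ * w) * g := by group
      have h11 : center (alternatingGroup (Fin n)) = ⊥ := by
        have : NeZero (1 : ℕ) := ⟨one_ne_zero⟩
        exact alternatingGroup.center_eq_bot (by rw [Nat.card_fin]; omega)
      rw [h11, mem_bot] at h6
      exact inv_mul_eq_one.1 h6
    have h3w : 3 ∣ orderOf w := by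
      have h4 : orderOf (b ^ 4) ∣ orderOf w := by
        rw [hw]
        exact orderOf_map_dvd MulAut.conj w
      refine dvd_trans ?_ h4
      rw [orderOf_pow]
      have h5 : (orderOf b).gcd 4 ∣ 4 := Nat.gcd_dvd_right _ _
      have h6 : 3 * ((orderOf b).gcd 4) ∣ orderOf b := by
        refine Nat.Coprime.mul_dvd_of_dvd_of_dvd ?_ h3b (Nat.gcd_dvd_left _ _)
        exact Nat.Coprime.coprime_dvd_right h5 (by decide)
      exact (Nat.dvd_div_iff_mul_dvd (Nat.gcd_dvd_left _ _)).2 (by rwa [mul_comm])
    refine ⟨w ^ (orderOf w / 3), ?_, ?_, ?_⟩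
    · have h5 : (w ^ (orderOf w / 3)) ^ 3 = 1 := by
        rw [← pow_mul, Nat.div_mul_cancel h3w, pow_orderOf_eq_one]
      rw [← h5]
      group
    · intro h5
      have h6 : orderOf (w ^ (orderOf w / 3)) = 3 := orderOf_pow_orderOf_div (orderOf_pos w).ne' h3w
      rw [h5, orderOf_one] at h6
      exact absurd h6 (by norm_num)
    · rw [map_pow, hbw]
  obtain ⟨σ, hσ⟩ := H284.AltComp.exists_conj (m := n) (by omega) b (fun _ => hfix)
  have hσb : orderOf b ∣ orderOf σ := by
    apply orderOf_dvd_of_pow_eq_one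
    have h4 : ∀ k : ℕ, ∀ v : alternatingGroup (Fin n),
        (((b ^ k) v : alternatingGroup (Fin n)) : Perm (Fin n)) = σ ^ k * v * (σ ^ k)⁻¹ := by
      intro k
      induction k with
      | zero => intro v; simp
      | succ k ih =>
        intro v
        rw [pow_succ', MulAut.mul_apply, hσ, ih, pow_succ']
        group
    ext v : 1
    apply Subtype.ext
    rw [h4, pow_orderOf_eq_one]
    simp
  exact not_rfix_of_perm hσ (pt (by omega) (by omega) (h2b.trans hσb) (h3b.trans hσb)) hbR

end Cfsg.Agent.H472.ComRed
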