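import Cfsg.Agent.H472.ComSixTwo
import Cfsg.Agent.H273.Sidki
import Cfsg.Agent.OddHalf.Known
import Cfsg.Prelude.Def_Spor_He

/-!
# S4096: both primes are odd, up to the exceptions of the Unbalanced Group Theorem (helper472)
-/

set_option autoImplicit false
set_option linter.unusedSectionVars false

namespace Cfsg.Agent.H472.ComRed

open Subgroup Cfsg
open scoped Pointwise
open Cfsg.Agent.SignalizersComponents.Components
open Cfsg.Agent.H472.ComAut
open Cfsg.Agent.Lib.Cores

universe u v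

/-- The exceptions of the Unbalanced Group Theorem. -/
def Exc (S : Type u) [Group S] : Prop :=
  (∃ p : ℕ, p.Prime ∧ p ≠ 2 ∧ Cfsg.IsLieTypeChar p S) ∨
  (∃ n : ℕ, Odd n ∧ 7 ≤ n ∧ Nonempty (S ≃* ↥(alternatingGroup (Fin n)))) ∨
  (∃ (F : Type) (_ : Field F) (_ : Fintype F), Fintype.card F = 4 ∧
    Nonempty (S ≃* Matrix.ProjectiveSpecialLinearGroup (Fin 3) F)) ∨ Cfsg.Spor.IsoHe S

theorem Exc.of_equiv {S : Type u} [Group S] {T : Type v} [Group T] (e : S ≃* T) (h : Exc T) : Exc S := by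
  rcases h with ⟨p, hp, hp2, h⟩ | ⟨n, hn, h7, ⟨f⟩⟩ | ⟨F, i1, i2, h4, ⟨f⟩⟩ | h
  · exact Or.inl ⟨p, hp, hp2, OddHalf.Known.isLieTypeChar_congr e.symm h⟩
  · exact Or.inr (Or.inl ⟨n, hn, h7, ⟨e.trans f⟩⟩)
  · exact Or.inr (Or.inr (Or.inl ⟨F, i1, i2, h4, ⟨e.trans f⟩⟩))
  · obtain ⟨f⟩ : Nonempty (T ≃* Cfsg.Spor.He) := h
    exact Or.inr (Or.inr (Or.inr ⟨e.trans f⟩))

/-- The Unbalanced Group Theorem (S1311). -/
def UGT : Prop :=
  ∀ (G : Type u) [Group G] [Finite G], IsSimpleGroup ↥(Cfsg.generalizedFittingSubgroup G) →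
    ¬ IsMulCommutative ↥(Cfsg.generalizedFittingSubgroup G) → ∀ t : G, orderOf t = 2 →
    Cfsg.centralizerPPrimeCore 2 t ≠ ⊥ → Exc ↥(Cfsg.generalizedFittingSubgroup G)

variable {G : Type u} [Group G] [Finite G]

section quot

variable {K : Subgroup G} [K.Normal]

theorem ker_subgroupMap :
    ((QuotientGroup.mk' (centralizer (K : Set G))).subgroupMap K).ker = center K := by
  ext z
  rw [MonoidHom.mem_ker, mem_center_iff]
  constructor
  · intro h g
    have h1 : (QuotientGroup.mk' (centralizer (K : Set G))) (z : G) = 1 := congrArg Subtype.val h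
    rw [← MonoidHom.mem_ker, QuotientGroup.ker_mk', mem_centralizer_iff] at h1
    exact Subtype.ext (h1 g g.2)
  · intro h
    apply Subtype.ext
    show (QuotientGroup.mk' (centralizer (K : Set G))) (z : G) = 1
    rw [← MonoidHom.mem_ker, QuotientGroup.ker_mk', mem_centralizer_iff]
    intro g hg
    exact congrArg Subtype.val (h ⟨g, hg⟩)

/-- `K / Z(K) ≃ K C(K) / C(K)` -/
noncomputable def quotEquiv (K : Subgroup G) [K.Normal] :
    (K ⧸ center K) ≃* (K.map (QuotientGroup.mk' (centralizer (K : Set G)))) :=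
  (QuotientGroup.quotientMulEquivOfEq (ker_subgroupMap (K := K)).symm).trans
    (QuotientGroup.quotientKerEquivOfSurjective _
      (MonoidHom.subgroupMap_surjective (QuotientGroup.mk' (centralizer (K : Set G))) K))

theorem centralizer_map (hQ : IsQuasisimple K) :
    centralizer (K.map (QuotientGroup.mk' (centralizer (K : Set G))) : Set (G ⧸ centralizer (K : Set G))) = ⊥ := by
  rw [eq_bot_iff]
  intro v hv
  obtain ⟨g, rfl⟩ := QuotientGroup.mk'_surjective _ v
  rw [mem_bot, ← MonoidHom.mem_ker, QuotientGroup.ker_mk']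
  have hgn : g ∈ normalizer (K : Set G) := by rw [normalizer_eq_top_iff.2 ‹K.Normal›]; trivial
  apply mem_centralizer_of_cm hQ hgn
  intro k
  have h1 : (cm g (k : G)) ∈ centralizer (K : Set G) := by
    rw [← QuotientGroup.ker_mk' (centralizer (K : Set G)), MonoidHom.mem_ker, map_cm, cm_eq_one]
    have := mem_centralizer_iff.1 hv ((QuotientGroup.mk' (centralizer (K : Set G))) (k : G)) ⟨k, k.2, rfl⟩
    exact this.symm
  rw [mem_center_iff]
  intro g'
  apply Subtype.ext
  have h2 := mem_centralizer_iff.1 h1 g' g'.2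
  have h3 := nAut_cm hgn k
  show (g' : G) * (((nAut hgn k)⁻¹ * k : K) : G) = (((nAut hgn k)⁻¹ * k : K) : G) * g'
  rw [h3]
  exact h2

end quot

theorem MinSix.exc (hU : UGT.{u}) {s : ℕ} (hs : s.Prime) (hs2 : s ≠ 2) {K : Subgroup G} {x : G}
    (h : MinSix 2 s K x) : Exc (K ⧸ center K) := by
  have hKn := h.normal
  have hQ := h.qs
  set C := centralizer (K : Set G) with hC
  set π := QuotientGroup.mk' C with hπ
  set Kb := K.map π with hKb
  have hKbn : Kb.Normal := hKn.map π (QuotientGroup.mk'_surjective _)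
  have hsim := hQ.2
  have hKbs : IsSimpleGroup Kb := (quotEquiv K).symm.isSimpleGroup
  have hCb : centralizer (Kb : Set (G ⧸ C)) = ⊥ := centralizer_map hQ
  have hna : ¬ IsMulCommutative Kb := by
    intro hcm
    apply quot_not_comm hQ
    refine ⟨⟨fun a b => (quotEquiv K).injective ?_⟩⟩
    rw [map_mul, map_mul, hcm.is_comm.comm]
  have hF : generalizedFittingSubgroup (G ⧸ C) = Kb := H273.Sidki.genFitting_eq hKbn hKbs hna hCb
  -- orders
  have hdvd : orderOf (nAut h.mem_normalizer) ∣ orderOf (π x) := by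
    apply orderOf_dvd_of_pow_eq_one
    have h1 : x ^ orderOf (π x) ∈ C := by
      have h0 : x ^ orderOf (π x) ∈ π.ker := by
        rw [MonoidHom.mem_ker, map_pow]
        exact pow_orderOf_eq_one _
      rwa [hπ, QuotientGroup.ker_mk'] at h0
    ext k
    have h2 := nAut_zpow h.mem_normalizer (orderOf (π x)) k
    rw [zpow_natCast] at h2
    rw [h2, zpow_neg, zpow_natCast]
    have h3 := mem_centralizer_iff.1 h1 k k.2
    rw [mul_assoc, h3, inv_mul_cancel_left]
    rfl
  have h2x : 2 ∣ orderOf (π x) := (h.dvd_orderOf Nat.prime_two).trans hdvd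
  have hsx : s ∣ orderOf (π x) := (h.symm.dvd_orderOf hs).trans hdvd
  set t := (π x) ^ (orderOf (π x) / 2) with ht
  have hto : orderOf t = 2 := orderOf_pow_orderOf_div (orderOf_pos _).ne' h2x
  set Db := centralizer ({t} : Set (G ⧸ C)) with hDb
  set D := Db.comap π with hD
  have hxDb : π x ∈ Db := by
    rw [hDb, mem_centralizer_singleton_iff, ht]
    exact (Commute.refl (π x)).pow_right _
  have hDt : D ≠ ⊤ := by
    intro hDt
    have h1 : t ∈ centralizer (Kb : Set (G ⧸ C)) := by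
      rw [mem_centralizer_iff]
      rintro _ ⟨k, -, rfl⟩
      have : k ∈ D := by rw [hDt]; trivial
      exact mem_centralizer_singleton_iff.1 this
    rw [hCb, mem_bot] at h1
    rw [h1, orderOf_one] at hto
    exact absurd hto (by norm_num)
  obtain ⟨f, hf, hfx⟩ := h.ind D hxDb hDt
  have hfx' : (f : G) = x := hfx
  -- the `s`-part of `x`
  have hsf := Fact.mk hs
  have ho : orderOf x ≠ 0 := (orderOf_pos x).ne'
  set m := orderOf x / s ^ (orderOf x).factorization s with hm
  have hmul : s ^ (orderOf x).factorization s * m = orderOf x := Nat.mul_div_cancel' (Nat.ordProj_dvd _ _)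
  have hfo : (f ^ m) ^ s ^ (orderOf x).factorization s = 1 := by
    rw [← pow_mul, mul_comm, hmul]
    apply Subtype.ext
    rw [SubgroupClass.coe_pow, hfx', pow_orderOf_eq_one]
    rfl
  have hy : f ^ m ∈ pCore s D := Cfsg.Agent.Lib.GenFitting.mem_pCore_of_mem_fitting (pow_mem hf m) hfo
  have hπy : π ((f ^ m : D) : G) ≠ 1 := by
    rw [SubgroupClass.coe_pow, hfx', map_pow]
    intro h1
    have h2 : s ∣ m := hsx.trans (orderOf_dvd_of_pow_eq_one h1)
    exact Nat.not_dvd_ordCompl hs ho h2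
  -- the image in the centralizer of `t`
  let ρ : D →* Db := (π.comp D.subtype).codRestrict Db fun y => y.2
  have hρ : Function.Surjective ρ := by
    rintro ⟨v, hv⟩
    obtain ⟨g, rfl⟩ := QuotientGroup.mk'_surjective _ v
    exact ⟨⟨g, hv⟩, rfl⟩
  have hN : ((pCore s D).map ρ).Normal := Subgroup.Normal.map inferInstance ρ hρ
  have hNp : IsPGroup s ((pCore s D).map ρ) := (pCore_isPGroup s).map ρ
  have hcop : (Nat.card ((pCore s D).map ρ)).Coprime 2 := by
    obtain ⟨k, hk⟩ := hNp.exists_card_eq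
    rw [hk]
    exact Nat.Coprime.pow_left _ ((Nat.coprime_primes hs Nat.prime_two).2 hs2)
  have hle : (pCore s D).map ρ ≤ pPrimeCore 2 Db := le_pPrimeCore hN hcop
  have hne : centralizerPPrimeCore 2 t ≠ ⊥ := by
    intro h1
    apply hπy
    have h2 : ((ρ (f ^ m) : Db) : G ⧸ C) ∈ centralizerPPrimeCore 2 t := ⟨_, hle ⟨_, hy, rfl⟩, rfl⟩
    rw [h1, mem_bot] at h2
    exact h2
  have h3 := hU (G ⧸ C) (by rw [hF]; exact hKbs) (by rw [hF]; exact hna) t hto hne
  rw [hF] at h3
  exact h3.of_equiv (quotEquiv K)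

/-- **Outside the list of exceptions both primes are odd.** -/
theorem MinSix.odd (hU : UGT.{u}) {r s : ℕ} (hr : r.Prime) (hs : s.Prime) (hrs : r ≠ s) {K : Subgroup G} {x : G}
    (h : MinSix r s K x) (hex : ¬ Exc (K ⧸ center K)) : r ≠ 2 ∧ s ≠ 2 := by
  constructor
  · rintro rfl
    exact hex (h.exc hU hs hrs.symm)
  · rintro rfl
    exact hex (h.symm.exc hU hr hrs)

end Cfsg.Agent.H472.ComRed
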