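import Cfsg.Agent.H472.ComSixAltB
import Cfsg.Agent.H472.ComSixThree
import Cfsg.Agent.H472.ComMul
import Cfsg.Agent.H705.ComUThree
import Cfsg.Agent.S0254

/-!
# S4096: assembly (helper472)

`false_of_minSix` : there is no minimal counterexample, given the Unbalanced Group Theorem, the classification
and the rows `Com p S`.
-/

set_option autoImplicit false
set_option linter.unusedSectionVars false

namespace Cfsg.Agent.H472.ComRed

open Subgroup Cfsg Equiv
open Cfsg.Agent.H472.ComAut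
open Cfsg.Agent.H705

universe u

/-- the rows: groups of Lie type -/
def RowLie : Prop := ∀ (S : Type u) [Group S] [Finite S] [IsSimpleGroup S] (l : ℕ), l.Prime → IsLieTypeChar l S →
  ¬ Group.IsSolvable S → ∀ p : ℕ, p.Prime → ¬ SpecThree p S → Com p S

theorem not_spec {p : ℕ} (hp2 : p ≠ 2) {S : Type*} [Group S] : ¬ SpecThree p S := fun h => hp2 h.1

/-- the rows: sporadic groups, primes at least 5 -/
def RowSpor : Prop := ∀ (S : Type u) [Group S] [Finite S] [IsSimpleGroup S], IsSporadicGroup S →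
  ∀ p : ℕ, p.Prime → 5 ≤ p → Com p S

/-- the row: the Held group -/
def RowHe : Prop := ∀ (S : Type u) [Group S] [Finite S] [IsSimpleGroup S], Spor.IsoHe S →
  ∀ p : ℕ, p.Prime → p ≠ 2 → Com p S

/-- the row: the Tits group -/
def RowTits : Prop := ∀ (S : Type u) [Group S] [Finite S] [IsSimpleGroup S], Lie.IsoTits S →
  ∀ p : ℕ, p.Prime → p ≠ 2 → Com p S

theorem not_isSolvable_of {S : Type*} [Group S] [hs : IsSimpleGroup S] (h : ¬ IsMulCommutative S) :
    ¬ Group.IsSolvable S := fun h1 =>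
  h ⟨⟨IsSimpleGroup.comm_iff_isSolvable.2 h1⟩⟩

variable {G : Type u} [Group G] [Finite G] {r s : ℕ} {K : Subgroup G} {x : G}

theorem MinSix.not_solvable (h : MinSix r s K x) : ¬ Group.IsSolvable (K ⧸ center K) := by
  have := h.qs.2
  exact not_isSolvable_of (quot_not_comm h.qs)

theorem MinSix.perf (h : MinSix r s K x) : commutator K = ⊤ := h.qs.1.commutator_eq_top

theorem MinSix.false_of_com (h : MinSix r s K x) {p : ℕ} (hp : p.Prime) (hprs : p ∣ r * s)
    (hZ : ¬ p ∣ Nat.card (center K)) (hC : Com p (K ⧸ center K)) : False :=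
  h.aut_ne_one (com_iff.1 hC _ (h.bad hp hprs hZ))

theorem exists_odd (hr : r.Prime) (hs : s.Prime) (hrs : r ≠ s) : ∃ p, p.Prime ∧ p ≠ 2 ∧ p ∣ r * s := by
  by_cases h : r = 2
  · exact ⟨s, hs, fun h1 => hrs (h.trans h1.symm), Dvd.intro_left r rfl⟩
  · exact ⟨r, hr, h, Dvd.intro s rfl⟩

theorem exists_ne_three (hr : r.Prime) (hs : s.Prime) (hrs : r ≠ s) : ∃ p, p.Prime ∧ p ≠ 3 ∧ p ∣ r * s := by
  by_cases h : r = 3
  · exact ⟨s, hs, fun h1 => hrs (h.trans h1.symm), Dvd.intro_left r rfl⟩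
  · exact ⟨r, hr, h, Dvd.intro s rfl⟩

theorem five_le {p : ℕ} (hp : p.Prime) (h2 : p ≠ 2) (h3 : p ≠ 3) : 5 ≤ p := by
  by_contra h
  have := hp.two_le
  interval_cases p
  · exact h2 rfl
  · exact h3 rfl
  · exact absurd hp (by norm_num)

theorem exists_five (hr : r.Prime) (hs : s.Prime) (hrs : r ≠ s) :
    (2 ∣ r * s ∧ 3 ∣ r * s) ∨ ∃ p, p.Prime ∧ 5 ≤ p ∧ p ∣ r * s := by
  by_cases hr2 : r = 2
  · by_cases hs3 : s = 3
    · left; subst hr2 hs3; decide
    · exact Or.inr ⟨s, hs, five_le hs (fun h => hrs (hr2.trans h.symm)) hs3, Dvd.intro_left r rfl⟩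
  · by_cases hr3 : r = 3
    · by_cases hs2 : s = 2
      · left; subst hr3 hs2; decide
      · exact Or.inr ⟨s, hs, five_le hs hs2 (fun h => hrs (hr3.trans h.symm)), Dvd.intro_left r rfl⟩
    · exact Or.inr ⟨r, hr, five_le hr hr2 hr3, Dvd.intro s rfl⟩

theorem not_dvd_of_le_two {p m : ℕ} (hp : p.Prime) (h2 : p ≠ 2) (hm0 : 0 < m) (hm : m ≤ 2) : ¬ p ∣ m := fun h => by
  have h1 := Nat.le_of_dvd hm0 h
  have h3 := hp.two_le
  omega

theorem not_dvd_of_dvd {p m n : ℕ} (hmn : m ∣ n) (h : ¬ p ∣ n) : ¬ p ∣ m := fun h1 => h (h1.trans hmn)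

theorem not_dvd_four {p : ℕ} (hp : p.Prime) (h2 : p ≠ 2) : ¬ p ∣ 4 := fun h =>
  h2 ((Nat.prime_dvd_prime_iff_eq hp Nat.prime_two).1 (hp.dvd_of_dvd_pow (show p ∣ 2 ^ 2 from h)))

theorem not_dvd_one {p : ℕ} (hp : p.Prime) : ¬ p ∣ 1 := fun h => hp.one_lt.ne' (Nat.dvd_one.1 h)

theorem not_dvd_three {p : ℕ} (hp : p.Prime) (h3 : p ≠ 3) : ¬ p ∣ 3 := fun h =>
  h3 ((Nat.prime_dvd_prime_iff_eq hp Nat.prime_three).1 h)

theorem not_dvd_twelve {p : ℕ} (hp : p.Prime) (h5 : 5 ≤ p) : ¬ p ∣ 12 := fun h => by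
  rcases hp.dvd_mul.1 (show p ∣ 4 * 3 from h) with h1 | h1
  · exact not_dvd_four hp (by omega) h1
  · exact not_dvd_three hp (by omega) h1

theorem not_dvd_six {p : ℕ} (hp : p.Prime) (h5 : 5 ≤ p) : ¬ p ∣ 6 := fun h =>
  not_dvd_twelve hp h5 (h.trans (by decide))

theorem alt_six_lie {S : Type*} [Group S] (e : S ≃* alternatingGroup (Fin 6)) : IsLieTypeChar 3 S := by
  have : Fact (Nat.Prime 3) := ⟨Nat.prime_three⟩
  have : Fintype (GaloisField 3 2) := Fintype.ofFinite _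
  have hc : Fintype.card (GaloisField 3 2) = 9 := by
    rw [← Nat.card_eq_fintype_card, GaloisField.card 3 2 (by norm_num)]; norm_num
  obtain ⟨f⟩ := Cfsg.Agent.S0254.result hc
  exact Or.inl ⟨GaloisField 3 2, inferInstance, inferInstance, inferInstance, 2, le_rfl, fun _ => by omega,
    ⟨e.trans f.symm⟩⟩

/-- alternating groups -/
theorem MinSix.false_of_altn (hlie : RowLie.{u}) (hr : r.Prime) (hs : s.Prime) (hrs : r ≠ s) (h : MinSix r s K x)
    {n : ℕ} (hn : 5 ≤ n) (e : (K ⧸ center K) ≃* alternatingGroup (Fin n)) : False := by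
  have hsim := h.qs.2
  by_cases h67 : n = 6 ∨ n = 7
  · rcases exists_five hr hs hrs with h1 | ⟨p, hp, h5, hprs⟩
    · exact h.false_of_alt hr hs hrs h1.1 h1.2 h67 e
    · refine h.false_of_com hp hprs (not_dvd_of_dvd (ComMul.alt_six_seven h.perf h67 e) (not_dvd_six hp h5)) ?_
      rcases h67 with rfl | rfl
      · exact hlie _ 3 Nat.prime_three (alt_six_lie e) h.not_solvable p hp (not_spec (by omega))
      · exact Com.of_equiv e (ComAlt.com (by norm_num) (by norm_num) hp)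
  · obtain ⟨p, hp, hp2, hprs⟩ := exists_odd hr hs hrs
    have h6 : n ≠ 6 := fun h => h67 (Or.inl h)
    have h7 : n ≠ 7 := fun h => h67 (Or.inr h)
    exact h.false_of_com hp hprs
      (not_dvd_of_le_two hp hp2 Nat.card_pos (ComMul.alt h.perf (by omega) h6 h7 e))
      (Com.of_equiv e (ComAlt.com hn h6 hp))

/-- groups of Lie type -/
theorem MinSix.false_of_lie (hlie : RowLie.{u}) (hr : r.Prime) (hs : s.Prime) (hrs : r ≠ s) (h : MinSix r s K x)
    {l : ℕ} (hl : l.Prime) (hL : IsLieTypeChar l (K ⧸ center K)) : False := by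
  have hsim := h.qs.2
  have hlf := Fact.mk hl
  obtain ⟨p, hp, hp2, hprs⟩ := exists_odd hr hs hrs
  by_cases hsz : l = 2 ∧ Lie.IsoSuzuki (K ⧸ center K)
  · exact h.false_of_com hp hprs (not_dvd_of_dvd (ComMul.suzuki h.perf hsz.2) (not_dvd_four hp hp2))
      (hlie _ l hl hL h.not_solvable p hp (not_spec hp2))
  rcases cases_all hL with h1 | h1 | h1 | h1 | h1 | h1
  · obtain ⟨P, U, S, h2⟩ := h1
    exact h.aut_ne_one ((h.rfix hr hs hrs hl).eq_one_of_rank (H400.LieLocal.local_char_of_lie hL hsz) S h2)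
  · obtain ⟨F, i1, i2, i3, hF, ⟨e⟩⟩ := h1
    by_cases h9 : Fintype.card F = 9
    · obtain ⟨f⟩ := Cfsg.Agent.S0254.result h9
      exact h.false_of_altn hlie hr hs hrs (n := 6) (by norm_num) (e.trans f)
    · exact h.false_of_com hp hprs (not_dvd_of_le_two hp hp2 Nat.card_pos (ComMul.psl_two h.perf hF h9 e))
        (hlie _ l hl hL h.not_solvable p hp (not_spec hp2))
  · obtain ⟨F, i1, i2, i3, q, hF, hq2, ⟨e⟩⟩ := h1
    by_cases hsp : SpecThree 2 (K ⧸ center K)
    · obtain ⟨-, F', j1, j2, hF', ⟨e'⟩⟩ := hsp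
      exact h.false_of_com hp hprs (not_dvd_of_dvd (ComMul.psu_three_three h.perf hF' e') (not_dvd_one hp))
        (hlie _ l hl hL h.not_solvable p hp (not_spec hp2))
    · obtain ⟨p', hp', hp3', hprs'⟩ := exists_ne_three hr hs hrs
      refine h.false_of_com hp' hprs' (not_dvd_of_dvd (ComMul.psu_three h.perf hF hq2 e) (not_dvd_three hp' hp3'))
        (hlie _ l hl hL h.not_solvable p' hp' ?_)
      intro h2
      obtain rfl := h2.1
      exact hsp h2
  · exact hsz h1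
  · exact h.false_of_com hp hprs (not_dvd_of_dvd (ComMul.twoF4 h.perf h1.2) (not_dvd_one hp))
      (hlie _ l hl hL h.not_solvable p hp (not_spec hp2))
  · exact h.false_of_com hp hprs (not_dvd_of_dvd (ComMul.ree h.perf h1.2) (not_dvd_one hp))
      (hlie _ l hl hL h.not_solvable p hp (not_spec hp2))

/-- the Held group -/
theorem MinSix.false_of_he (hhe : RowHe.{u}) (hr : r.Prime) (hs : s.Prime) (hrs : r ≠ s) (h : MinSix r s K x)
    (hH : Spor.IsoHe (K ⧸ center K)) : False := by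
  have hsim := h.qs.2
  obtain ⟨p, hp, hp2, hprs⟩ := exists_odd hr hs hrs
  exact h.false_of_com hp hprs (not_dvd_of_dvd (ComMul.he h.perf hH) (not_dvd_one hp)) (hhe _ hH p hp hp2)

/-- **There is no minimal counterexample to S4096.** -/
theorem false_of_minSix (hU : UGT.{u})
    (hK : ∀ (S : Type u) [Group S] [Finite S] [IsSimpleGroup S], IsKnownSimple' S) (hlie : RowLie.{u})
    (hspor : RowSpor.{u}) (hhe : RowHe.{u}) (htits : RowTits.{u}) (hr : r.Prime) (hs : s.Prime) (hrs : r ≠ s)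
    (h : MinSix r s K x) : False := by
  have hsim := h.qs.2
  -- the exceptions of the Unbalanced Group Theorem
  have hexc : ¬ Exc (K ⧸ center K) := by
    rintro (⟨l, hl, -, hL⟩ | ⟨n, -, hn, ⟨e⟩⟩ | ⟨F, i1, i2, h4, ⟨e⟩⟩ | hH)
    · exact h.false_of_lie hlie hr hs hrs hl hL
    · exact h.false_of_altn hlie hr hs hrs (by omega) e
    · have hch : CharP F 2 := by
        obtain ⟨p, hp⟩ := CharP.exists F
        obtain ⟨n, hp', hn⟩ := FiniteField.card F p
        have h5 : p ∣ 4 := by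
          rw [← h4, hn]
          exact dvd_pow_self p n.pos.ne'
        have h6 : p = 2 := (Nat.prime_dvd_prime_iff_eq hp' Nat.prime_two).1
          (hp'.dvd_of_dvd_pow (show p ∣ 2 ^ 2 from h5))
        rwa [h6] at hp
      exact h.false_of_lie hlie hr hs hrs Nat.prime_two
        (Or.inl ⟨F, i1, i2, hch, 3, by norm_num, fun h => absurd h (by norm_num), ⟨e⟩⟩)
    · exact h.false_of_he hhe hr hs hrs hH
  obtain ⟨hr2, hs2⟩ := h.odd hU hr hs hrs hexc
  rcases OddHalf.Known.classify' (quot_not_comm h.qs) (hK (K ⧸ center K)) with h1 | h1 | h1 | h1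
  · obtain ⟨n, hn, ⟨e⟩⟩ := h1
    exact h.false_of_altn hlie hr hs hrs hn e
  · obtain ⟨l, hl, hL⟩ := h1
    exact h.false_of_lie hlie hr hs hrs hl hL
  · obtain ⟨p, hp, hp2, hprs⟩ := exists_odd hr hs hrs
    exact h.false_of_com hp hprs (not_dvd_of_dvd (ComMul.tits h.perf h1) (not_dvd_one hp)) (htits _ h1 p hp hp2)
  · rcases exists_five hr hs hrs with h2 | ⟨p, hp, h5, hprs⟩
    · rcases Nat.prime_two.dvd_mul.1 h2.1 with h3 | h3
      · exact hr2 ((Nat.prime_dvd_prime_iff_eq Nat.prime_two hr).1 h3).symm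
      · exact hs2 ((Nat.prime_dvd_prime_iff_eq Nat.prime_two hs).1 h3).symm
    · exact h.false_of_com hp hprs (not_dvd_of_dvd (ComMul.spor h.perf h1) (not_dvd_twelve hp h5))
        (hspor _ h1 p hp h5)

end Cfsg.Agent.H472.ComRed
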