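import Cfsg.Agent.H472.ComRedSix
import Cfsg.Agent.Lib.NilpotentCoprime
import Cfsg.Agent.S0034
import Cfsg.Agent.S0042

/-!
# S4096: both primes divide the order of the induced automorphism (helper472)

`MinSix.dvd_orderOf` : in a minimal counterexample `MinSix r s K x` the prime `r` divides the order of the automorphism
of `K` induced by `x`.  (Otherwise `C_G(x) / Z(G)` is a Frobenius complement in `G / Z(G)`.)
-/

set_option autoImplicit false
set_option linter.unusedSectionVars false

namespace Cfsg.Agent.H472.ComRed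

open Subgroup Cfsg
open scoped Pointwise
open Cfsg.Agent.SignalizersComponents.Components
open Cfsg.Agent.H472.ComAut
open Cfsg.Agent.Lib.Cores

universe u

section nilp

variable {N : Type*} [Group N] [Finite N]

/-- In a finite nilpotent group the elements of order prime to `r` are closed under multiplication. -/
theorem nilp_mul_coprime [hN : Group.IsNilpotent N] {r : ℕ} (hr : r.Prime) {a b : N} (ha : (orderOf a).Coprime r)
    (hb : (orderOf b).Coprime r) : (orderOf (a * b)).Coprime r := by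
  classical
  have := Fact.mk hr
  obtain ⟨P⟩ : Nonempty (Sylow r N) := inferInstance
  have hPn : (P : Subgroup N).Normal := by
    have h2 := (Group.isNilpotent_of_finite_tfae (G := N)).out 0 3
    exact (h2.mp hN) r ⟨hr⟩ P
  obtain ⟨Q, hQ⟩ := Subgroup.exists_right_complement'_of_coprime P.card_coprime_index
  have hQcard : Nat.card Q = (P : Subgroup N).index := by
    rw [← hQ.symm.index_eq_card]
  have hQp : ¬ r ∣ Nat.card Q := by
    rw [hQcard]
    exact P.not_dvd_index
  have hQcop : ∀ z ∈ Q, (orderOf z).Coprime r := by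
    intro z hz
    have h3 : orderOf z ∣ Nat.card Q := by
      have := orderOf_dvd_natCard (⟨z, hz⟩ : Q)
      rwa [Subgroup.orderOf_mk] at this
    exact ((Nat.Prime.coprime_iff_not_dvd hr).mpr (fun h => hQp (h.trans h3))).symm
  have hchar : ∀ x : N, (orderOf x).Coprime r → x ∈ Q := by
    intro x hx
    obtain ⟨⟨y, z⟩, hyz⟩ := hQ.2 x
    have hyz' : (y : N) * z = x := hyz
    obtain ⟨k, hk⟩ := P.isPGroup' y
    have hk' : (y : N) ^ r ^ k = 1 := congrArg Subtype.val hk
    obtain ⟨j, -, hj⟩ := (Nat.dvd_prime_pow hr).1 (orderOf_dvd_of_pow_eq_one hk')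
    have hcom : Commute (y : N) (z : N) := by
      apply Cfsg.Agent.Lib.NilpotentCoprime.commute_of_coprime_orderOf
      rw [hj]
      exact Nat.Coprime.pow_left _ (hQcop z z.2).symm
    have h4 : ((y : N) * z) ^ (orderOf x * orderOf (z : N)) = 1 := by
      rw [hyz', pow_mul, pow_orderOf_eq_one, one_pow]
    rw [hcom.mul_pow, mul_comm (orderOf x), pow_mul (z : N), pow_orderOf_eq_one, one_pow, mul_one] at h4
    have h5 : orderOf (y : N) ∣ orderOf (z : N) * orderOf x := orderOf_dvd_of_pow_eq_one h4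
    have h6 : Nat.Coprime (orderOf (y : N)) (orderOf (z : N) * orderOf x) := by
      rw [hj]
      exact Nat.Coprime.pow_left _ ((Nat.Coprime.mul_left (hQcop z z.2) hx).symm)
    have h7 : orderOf (y : N) = 1 := Nat.Coprime.eq_one_of_dvd h6 h5
    rw [orderOf_eq_one_iff] at h7
    rw [← hyz', h7, one_mul]
    exact z.2
  exact hQcop _ (mul_mem (hchar a ha) (hchar b hb))

end nilp

variable {G : Type u} [Group G] [Finite G]

/-- `G / Z(G)` is not a Frobenius group with complement `C_G(x) / Z(G)` if `x` centralizes `F(G)`. -/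
theorem false_of_frob {x : G} (hfit : ∀ f ∈ fittingSubgroup G, f * x = x * f)
    (hc : ∀ D : Subgroup G, x ∈ D → D ≠ ⊤ → ∀ d ∈ D, x * d = d * x)
    (hcomm : ∀ g : G, x * (g * x * g⁻¹) = (g * x * g⁻¹) * x → x * g = g * x) (hxZ : x ∉ center G) : False := by
  set C : Subgroup G := centralizer ({x} : Set G) with hC
  have hmemC : ∀ {c : G}, c ∈ C ↔ c * x = x * c := fun {c} => mem_centralizer_singleton_iff
  have hxC : x ∈ C := hmemC.2 rfl
  have hZC : center G ≤ C := fun z hz => hmemC.2 (mem_center_iff.1 hz x).symm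
  -- `C` meets its conjugates in `Z(G)`
  have hTI : ∀ g : G, g ∉ C → ∀ u ∈ C, g⁻¹ * u * g ∈ C → u ∈ center G := by
    intro g hg u hu hu'
    by_contra hun
    apply hg
    have hD : centralizer ({u} : Set G) ≠ ⊤ := by
      intro h
      apply hun
      rw [mem_center_iff]
      intro v
      exact mem_centralizer_singleton_iff.1 (show v ∈ centralizer ({u} : Set G) by rw [h]; trivial)
    have h1 : x ∈ centralizer ({u} : Set G) := mem_centralizer_singleton_iff.2 (hmemC.1 hu).symm
    have h2 : g * x * g⁻¹ ∈ centralizer ({u} : Set G) := by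
      rw [mem_centralizer_singleton_iff]
      have h3 : (g⁻¹ * u * g) * x = x * (g⁻¹ * u * g) := hmemC.1 hu'
      calc g * x * g⁻¹ * u = g * (x * (g⁻¹ * u * g)) * g⁻¹ := by group
        _ = g * ((g⁻¹ * u * g) * x) * g⁻¹ := by rw [h3]
        _ = u * (g * x * g⁻¹) := by group
    exact hmemC.2 (hcomm g (hc _ h1 hD _ h2)).symm
  -- the quotient
  let π : G →* G ⧸ center G := QuotientGroup.mk' (center G)
  have hπs : Function.Surjective π := QuotientGroup.mk'_surjective _
  set H : Subgroup (G ⧸ center G) := C.map π with hH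
  have hker : ∀ {v : G}, π v = 1 ↔ v ∈ center G := fun {v} => QuotientGroup.eq_one_iff v
  have hmemH : ∀ {v : G}, π v ∈ H ↔ v ∈ C := by
    intro v
    constructor
    · rintro ⟨c, hc', hcv⟩
      have h1 : c⁻¹ * v ∈ center G := by
        rw [← hker, map_mul, map_inv, hcv, inv_mul_cancel]
      have h2 := mul_mem hc' (hZC h1)
      simpa using h2
    · exact fun h => ⟨v, h, rfl⟩
  have hF : IsFrobeniusComplement H := by
    refine ⟨?_, ?_, ?_⟩
    · intro h
      apply hxZ
      rw [← hker, ← mem_bot, ← h]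
      exact hmemH.2 hxC
    · intro h
      apply hxZ
      rw [mem_center_iff]
      intro g
      exact hmemC.1 (hmemH.1 (show π g ∈ H by rw [h]; trivial))
    · intro g hg
      obtain ⟨g, rfl⟩ := hπs g
      rw [eq_bot_iff]
      rintro v ⟨hv1, hv2⟩
      obtain ⟨u, rfl⟩ := hπs v
      rw [mem_bot, hker]
      have h1 : g ∉ C := fun h => hg (hmemH.2 h)
      refine hTI g h1 u (hmemH.1 hv1) ?_
      replace hv2 : π u ∈ MulAut.conj (π g) • H := hv2
      rw [Subgroup.mem_pointwise_smul_iff_inv_smul_mem] at hv2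
      have h2 : (MulAut.conj (π g))⁻¹ • π u = π (g⁻¹ * u * g) := by
        rw [← map_inv, MulAut.smul_def, MulAut.conj_apply, inv_inv, map_mul, map_mul, map_inv]
      rw [h2] at hv2
      exact hmemH.1 hv2
  obtain ⟨N, hN, hNn, hNnil⟩ := Cfsg.Agent.S0042.result H hF
  -- the preimage of `N` is nilpotent
  have hNc : N.comap π ≤ fittingSubgroup G := by
    refine le_fittingSubgroup inferInstance ?_
    let f : N.comap π →* N := (π.comp (N.comap π).subtype).codRestrict N fun y => y.2
    have hk : f.ker ≤ center (N.comap π) := by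
      intro z hz
      rw [MonoidHom.mem_ker] at hz
      have h1 : π (z : G) = 1 := congrArg Subtype.val hz
      rw [hker, mem_center_iff] at h1
      rw [mem_center_iff]
      intro g
      exact Subtype.ext (h1 g)
    exact Subgroup.isNilpotent_of_ker_le_center f hk
  have hNb : N = ⊥ := by
    rw [eq_bot_iff]
    intro v hv
    obtain ⟨u, rfl⟩ := hπs v
    have h1 : u ∈ C := hmemC.2 (hfit u (hNc hv))
    have h2 : π u ∈ frobeniusKernel H := hN ▸ hv
    rcases h2 with h2 | h2
    · rw [h2]; exact one_mem _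
    · exfalso
      apply h2 1
      rw [map_one, one_smul]
      exact hmemH.2 h1
  have h1 := (Cfsg.Agent.S0034.result H hF).1
  rw [← hN, hNb] at h1
  have h2 : H.index = 1 := by
    rw [← h1]
    show Nat.card (⊥ : Subgroup (G ⧸ center G)) = 1
    exact Subgroup.card_bot
  exact hF.2.1 (Subgroup.index_eq_one.1 h2)

/-- A power of `x` centralizing `K` is central. -/
theorem MinSix.pow_central {r s : ℕ} {K : Subgroup G} {x : G} (h : MinSix r s K x) {i : ℤ}
    (hi : x ^ i ∈ centralizer (K : Set G)) : x ^ i ∈ center G := by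
  have h1 : K ⊔ zpowers x ≤ centralizer ({x ^ i} : Set G) := by
    refine sup_le ?_ (zpowers_le.2 ?_)
    · intro k hk
      rw [mem_centralizer_singleton_iff]
      exact mem_centralizer_iff.1 hi k hk
    · rw [mem_centralizer_singleton_iff]
      exact (Commute.refl x).zpow_right i
  rw [h.gen] at h1
  rw [mem_center_iff]
  intro g
  exact mem_centralizer_singleton_iff.1 (h1 (mem_top g))

theorem MinSix.mem_normalizer {r s : ℕ} {K : Subgroup G} {x : G} (h : MinSix r s K x) :
    x ∈ normalizer (K : Set G) := by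
  have := h.normal
  rw [normalizer_eq_top_iff.2 this]
  trivial

theorem nAut_zpow {K : Subgroup G} {x : G} (hx : x ∈ normalizer (K : Set G)) (i : ℤ) (k : K) :
    (((nAut hx) ^ i) k : G) = x ^ (-i) * k * x ^ i := by
  have h1 : (nAut hx) ^ i = K.normalizerMonoidHom ((⟨x⁻¹, inv_mem hx⟩ : normalizer (K : Set G)) ^ i) := by
    rw [map_zpow]
    rfl
  have h2 : ((⟨x⁻¹, inv_mem hx⟩ : normalizer (K : Set G)) ^ i : normalizer (K : Set G)) =
      ⟨(x ^ (-i)), zpow_mem hx _⟩ := by
    apply Subtype.ext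
    rw [SubgroupClass.coe_zpow]
    show x⁻¹ ^ i = x ^ (-i)
    rw [inv_zpow, zpow_neg]
  rw [h1, h2]
  show x ^ (-i) * k * (x ^ (-i))⁻¹ = _
  rw [zpow_neg, inv_inv]

/-- Powers `x ^ i` with `nAut ^ i = 1` centralize `K`. -/
theorem zpow_mem_centralizer {K : Subgroup G} {x : G} (hx : x ∈ normalizer (K : Set G)) {i : ℤ}
    (hi : (nAut hx) ^ i = 1) : x ^ i ∈ centralizer (K : Set G) := by
  rw [mem_centralizer_iff]
  intro k hk
  have h1 := nAut_zpow hx i ⟨k, hk⟩
  rw [hi] at h1
  have h2 : k = x ^ (-i) * k * x ^ i := h1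
  rw [zpow_neg] at h2
  calc k * x ^ i = (x ^ i) * ((x ^ i)⁻¹ * k * x ^ i) := by group
    _ = x ^ i * k := by rw [← h2]

/-- **`r` divides the order of the automorphism induced by `x`.** -/
theorem MinSix.dvd_orderOf {r s : ℕ} (hr : r.Prime) {K : Subgroup G} {x : G} (h : MinSix r s K x) :
    r ∣ orderOf (nAut h.mem_normalizer) := by
  by_contra hrn
  set n := orderOf (nAut h.mem_normalizer) with hn
  have hn0 : 0 < n := orderOf_pos _
  -- `x = y w`
  set e := (orderOf x).factorization r with he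
  have hcop : Nat.Coprime (r ^ e) n := Nat.Coprime.pow_left _ ((Nat.Prime.coprime_iff_not_dvd hr).2 hrn)
  obtain ⟨b, c, hbc⟩ : ∃ b c : ℤ, (r ^ e : ℕ) * b + n * c = 1 := by
    have := Nat.gcd_eq_gcd_ab (r ^ e) n
    rw [hcop.gcd_eq_one] at this
    exact ⟨_, _, this.symm⟩
  set w := x ^ ((r ^ e : ℕ) * b : ℤ) with hw
  set y := x ^ (n * c : ℤ) with hy
  have hxyw : x = y * w := by
    rw [hy, hw, ← zpow_add, add_comm, hbc, zpow_one]
  have hyZ : y ∈ center G := by
    apply h.pow_central
    apply zpow_mem_centralizer h.mem_normalizer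
    rw [zpow_mul, zpow_natCast, hn, pow_orderOf_eq_one, one_zpow]
  have hwo : (orderOf w).Coprime r := by
    have hox : orderOf x ≠ 0 := (orderOf_pos x).ne'
    have h1 : w ^ (orderOf x / r ^ e) = 1 := by
      rw [hw, ← zpow_natCast, ← zpow_mul]
      have h2 : ((r ^ e : ℕ) * b : ℤ) * ((orderOf x / r ^ e : ℕ) : ℤ) = (orderOf x : ℤ) * b := by
        have h3 : (r ^ e) * (orderOf x / r ^ e) = orderOf x := Nat.mul_div_cancel' (Nat.ordProj_dvd _ _)
        calc ((r ^ e : ℕ) * b : ℤ) * ((orderOf x / r ^ e : ℕ) : ℤ) =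
            (((r ^ e) * (orderOf x / r ^ e) : ℕ) : ℤ) * b := by push_cast; ring
          _ = _ := by rw [h3]
      rw [h2, zpow_mul, zpow_natCast, pow_orderOf_eq_one, one_zpow]
    refine Nat.Coprime.coprime_dvd_left (orderOf_dvd_of_pow_eq_one h1) ?_
    exact ((Nat.coprime_ordCompl hr hox)).symm
  have hwx : w ∈ zpowers x := ⟨_, rfl⟩
  have hcmw : ∀ g : G, cm x g = w⁻¹ * (g⁻¹ * w * g) := by
    intro g
    have h1 : g⁻¹ * y = y * g⁻¹ := mem_center_iff.1 hyZ g⁻¹
    have h2 : w * y = y * w := mem_center_iff.1 hyZ w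
    rw [cm_eq', hxyw]
    calc (y * w)⁻¹ * (g⁻¹ * (y * w) * g) = w⁻¹ * y⁻¹ * ((g⁻¹ * y) * w * g) := by group
      _ = w⁻¹ * (g⁻¹ * w * g) := by rw [h1]; group
  -- commutators of order prime to `r` are trivial
  have hone : ∀ g : G, (orderOf (cm x g)).Coprime r → cm x g = 1 := by
    intro g hg
    rcases h.pow g with h1 | h1
    · exact h1
    · exfalso
      have h2 : r ∣ orderOf (cm x g) := dvd_of_mul_right_dvd h1
      have h3 := Nat.dvd_gcd h2 dvd_rfl
      rw [hg.gcd_eq_one] at h3
      exact hr.one_lt.ne' (Nat.dvd_one.1 h3)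
  have hwg : ∀ g : G, (orderOf (g⁻¹ * w * g)).Coprime r := by
    intro g
    have h1 : orderOf (g⁻¹ * w * g) = orderOf w := by
      have := orderOf_injective (MulAut.conj g⁻¹).toMonoidHom (MulAut.conj g⁻¹).injective w
      simpa using this
    rw [h1]
    exact hwo
  have hwi : (orderOf w⁻¹).Coprime r := by rw [orderOf_inv]; exact hwo
  refine false_of_frob (x := x) h.fit ?_ ?_ ?_
  · -- `x` is central in every proper subgroup containing it
    intro D hxD hDt d hd
    obtain ⟨f, hf, hfx⟩ := h.ind D hxD hDt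
    have hfx' : (f : G) = x := hfx
    have hnil : Group.IsNilpotent (fittingSubgroup D) := fittingSubgroup_isNilpotent
    have hFn : (fittingSubgroup D).Normal := fittingSubgroup_normal
    -- `w` and its conjugate in `F(D)`
    obtain ⟨i, hi⟩ := hwx
    have hi' : x ^ i = w := hi
    set w' : D := f ^ i with hw'
    have hw'c : (w' : G) = w := by
      rw [hw', SubgroupClass.coe_zpow, hfx', hi']
    have hw'F : w' ∈ fittingSubgroup D := zpow_mem hf i
    have hw'F2 : (⟨d, hd⟩ : D)⁻¹ * w' * ⟨d, hd⟩ ∈ fittingSubgroup D := by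
      simpa using hFn.conj_mem w' hw'F (⟨d, hd⟩ : D)⁻¹
    have h1 := nilp_mul_coprime (N := fittingSubgroup D) hr (a := (⟨w', hw'F⟩ : fittingSubgroup D)⁻¹)
      (b := ⟨_, hw'F2⟩) (by
        rw [orderOf_inv, ← Subgroup.orderOf_coe, ← Subgroup.orderOf_coe]
        show (orderOf (w' : G)).Coprime r
        rw [hw'c]
        exact hwo) (by
        rw [← Subgroup.orderOf_coe, ← Subgroup.orderOf_coe]
        show (orderOf (d⁻¹ * (w' : G) * d)).Coprime r
        rw [hw'c]
        exact hwg d)
    rw [← Subgroup.orderOf_coe, ← Subgroup.orderOf_coe] at h1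
    have h2 : (orderOf ((w' : G)⁻¹ * (d⁻¹ * (w' : G) * d))).Coprime r := h1
    rw [hw'c, ← hcmw] at h2
    exact cm_eq_one.1 (hone d h2)
  · -- commuting conjugates are equal
    intro g hg
    have hwx : w ∈ zpowers x := ⟨_, rfl⟩
    obtain ⟨i, hi⟩ := hwx
    have hi' : x ^ i = w := hi
    have h1 : Commute x (g * x * g⁻¹) := hg
    have h2 : Commute w⁻¹ (g⁻¹⁻¹ * w * g⁻¹) := by
      have h3 : g⁻¹⁻¹ * w * g⁻¹ = (g * x * g⁻¹) ^ i := by
        rw [inv_inv, conj_zpow, hi']
      rw [h3, ← hi']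
      exact ((h1.zpow_left i).inv_left).zpow_right i
    have h3 : (orderOf (cm x g⁻¹)).Coprime r := by
      rw [hcmw]
      have h4 : orderOf (w⁻¹ * (g⁻¹⁻¹ * w * g⁻¹)) ∣ orderOf w⁻¹ * orderOf (g⁻¹⁻¹ * w * g⁻¹) :=
        (h2.orderOf_mul_dvd_lcm).trans (Nat.lcm_dvd_mul _ _)
      exact Nat.Coprime.coprime_dvd_left h4 (Nat.Coprime.mul_left hwi (hwg g⁻¹))
    have h5 := cm_eq_one.1 (hone _ h3)
    have h6 : x * g⁻¹ = g⁻¹ * x := h5
    calc x * g = g * (g⁻¹ * x) * g := by group
      _ = g * (x * g⁻¹) * g := by rw [h6]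
      _ = g * x := by group
  · intro hZ
    apply h.ne
    rw [mem_centralizer_iff]
    intro k _
    exact mem_center_iff.1 hZ k

end Cfsg.Agent.H472.ComRed
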