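import Cfsg.Agent.H472.ComFour
import Cfsg.Agent.S0001
import Cfsg.Agent.S0581

/-!
# The strong form: `p`-elements and `p'`-elements in a minimal counterexample to S4094 (helper472)
-/

set_option autoImplicit false
set_option linter.unusedSectionVars false

namespace Cfsg.Agent.H472.ComRed

open Subgroup Cfsg
open scoped Pointwise
open Cfsg.Agent.Lib.Cores
open Cfsg.Agent.H705

universe u

section gen

variable {B : Type u} [Group B] [Finite B]

/-- the orders in a subgroup generated by two commuting elements -/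
theorem pow_of_closure_pair {x v : B} (hc : Commute x v) {n : ℕ} (hx : x ^ n = 1) (hv : v ^ n = 1) {w : B}
    (hw : w ∈ closure ({x, v} : Set B)) : w ^ n = 1 ∧ Commute x w ∧ Commute v w := by
  induction hw using closure_induction with
  | mem w hw =>
    rcases hw with rfl | hw
    · exact ⟨hx, Commute.refl _, hc.symm⟩
    · rw [Set.mem_singleton_iff.1 hw]
      exact ⟨hv, hc, Commute.refl _⟩
  | one => exact ⟨one_pow n, Commute.one_right _, Commute.one_right _⟩
  | mul a b ha hb h1 h2 =>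
    refine ⟨?_, h1.2.1.mul_right h2.2.1, h1.2.2.mul_right h2.2.2⟩
    have hab : Commute a b := by
      have h3 : closure ({x, v} : Set B) ≤ centralizer ({a} : Set B) := by
        rw [closure_le]
        rintro c (rfl | hc')
        · exact mem_centralizer_singleton_iff.2 h1.2.1
        · rw [Set.mem_singleton_iff.1 hc']
          exact mem_centralizer_singleton_iff.2 h1.2.2
      exact (mem_centralizer_singleton_iff.1 (h3 hb)).symm
    rw [hab.mul_pow, h1.1, h2.1, one_mul]
  | inv a ha h1 => exact ⟨by rw [inv_pow, h1.1, inv_one], h1.2.1.inv_right, h1.2.2.inv_right⟩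

/-- **Commuting modulo a normal `p`-subgroup**: for `p'`-elements. -/
theorem exists_conj_commute {p : ℕ} [hp : Fact p.Prime] {P : Subgroup B} [hPn : P.Normal] (hP : IsPGroup p P)
    {x v : B} (hx : (orderOf x).Coprime p) (hv : (orderOf v).Coprime p) (hxv : cm x v ∈ P) :
    ∃ a ∈ P, Commute (a * x * a⁻¹) v := by
  classical
  set π := QuotientGroup.mk' P with hπ
  have hker : ∀ {w : B}, π w = 1 ↔ w ∈ P := fun {w} => QuotientGroup.eq_one_iff w
  have hcomm : Commute (π x) (π v) := by
    have h1 : π (cm x v) = 1 := hker.2 hxv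
    rw [map_cm, cm_eq_one] at h1
    exact h1
  set n := orderOf x * orderOf v with hn
  have hncop : n.Coprime p := Nat.Coprime.mul_left hx hv
  have hxn : (π x) ^ n = 1 := by rw [hn, pow_mul, ← map_pow, pow_orderOf_eq_one, map_one, one_pow]
  have hvn : (π v) ^ n = 1 := by rw [hn, mul_comm, pow_mul, ← map_pow, pow_orderOf_eq_one, map_one, one_pow]
  set Eb := closure ({π x, π v} : Set (B ⧸ P)) with hEb
  set E := Eb.comap π with hE
  have hPE : P ≤ E := fun w hw => by
    show π w ∈ Eb
    rw [hker.2 hw]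
    exact one_mem _
  have hxE : x ∈ E := subset_closure (Set.mem_insert _ _)
  have hvE : v ∈ E := subset_closure (Set.mem_insert_of_mem _ rfl)
  have hEbmap : E.map π = Eb := map_comap_eq_self_of_surjective (QuotientGroup.mk'_surjective P) Eb
  -- `|E : P| = |Eb|` is prime to `p`
  have hidx : (P.subgroupOf E).index = Nat.card Eb := by
    have h1 : P = (⊥ : Subgroup (B ⧸ P)).comap π := by
      rw [MonoidHom.comap_bot, hπ, QuotientGroup.ker_mk']
    have h2 : P.relIndex E = (⊥ : Subgroup (B ⧸ P)).relIndex (E.map π) := by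
      conv_lhs => rw [h1]
      exact relIndex_comap _ π E
    rw [hEbmap, relIndex_bot_left] at h2
    exact h2
  have hEbcop : (Nat.card Eb).Coprime p := by
    rw [Nat.coprime_comm, Nat.Prime.coprime_iff_not_dvd hp.out]
    intro h
    obtain ⟨w, hw⟩ := exists_prime_orderOf_dvd_card' p h
    have h1 := (pow_of_closure_pair hcomm hxn hvn w.2).1
    have h2 : orderOf w ∣ n := orderOf_dvd_of_pow_eq_one (Subtype.ext h1)
    rw [hw] at h2
    have h3 := Nat.dvd_gcd h2 (dvd_refl p)
    rw [hncop.gcd_eq_one] at h3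
    exact hp.out.one_lt.ne' (Nat.dvd_one.1 h3)
  set P' := P.subgroupOf E with hP'
  have hP'p : IsPGroup p P' := hP.comap_subtype
  obtain ⟨k, hk⟩ := hP'p.exists_card_eq
  have hcop : (Nat.card P').Coprime P'.index := by
    rw [hk, hidx]
    exact Nat.Coprime.pow_left _ hEbcop.symm
  obtain ⟨H, hH⟩ := exists_right_complement'_of_coprime hcop
  have hHc : ∀ a ∈ H, ∀ b ∈ H, a * b = b * a := by
    intro a ha b hb
    have h1 : cm a b ∈ H := mul_mem (mul_mem (mul_mem (inv_mem ha) (inv_mem hb)) ha) hb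
    have h2 : cm a b ∈ P' := by
      rw [mem_subgroupOf, ← hker]
      have h3 : Commute (π (a : B)) (π (b : B)) := by
        have h4 : Eb ≤ centralizer ({π (a : B)} : Set (B ⧸ P)) := by
          rw [hEb, closure_le]
          rintro c (rfl | hc')
          · exact mem_centralizer_singleton_iff.2 (pow_of_closure_pair hcomm hxn hvn a.2).2.1
          · rw [Set.mem_singleton_iff.1 hc']
            exact mem_centralizer_singleton_iff.2 (pow_of_closure_pair hcomm hxn hvn a.2).2.2
        exact (mem_centralizer_singleton_iff.1 (h4 b.2)).symm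
      have h5 : π ((cm a b : E) : B) = cm (π (a : B)) (π (b : B)) := by
        rw [← map_cm]
        rfl
      rw [h5]
      exact cm_eq_one.2 h3
    have h3 : cm a b = 1 := by
      have := hH.disjoint.le_bot (show cm a b ∈ P' ⊓ H from ⟨h2, h1⟩)
      exact this
    exact cm_eq_one.1 h3
  have hHnil : Group.IsNilpotent H := by
    let _ : CommGroup H := { (inferInstance : Group H) with mul_comm := fun a b => Subtype.ext (hHc a a.2 b b.2) }
    exact CommGroup.isNilpotent
  have hHcard : Nat.card H = P'.index := by rw [← hH.symm.index_eq_card]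
  have hHidx : H.index = Nat.card P' := hH.index_eq_card
  have hHall : (Nat.card H).Coprime H.index := by
    rw [hHcard, hHidx]
    exact hcop.symm
  -- every `p'`-element of `E` is conjugate into `H` by an element of `P'`
  have key : ∀ w : E, (orderOf w).Coprime p → ∃ a ∈ P', a * w * a⁻¹ ∈ H := by
    intro w hw
    obtain ⟨g, hg⟩ := Cfsg.Agent.S0581.result H (zpowers w) hHnil hHall (by
      intro q hq hqd
      rw [Nat.card_zpowers] at hqd
      have h1 : q ∣ Nat.card E := hqd.trans (orderOf_dvd_natCard w)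
      rw [← P'.card_mul_index, ← hHcard, hk] at h1
      rcases hq.dvd_mul.1 h1 with h2 | h2
      · exfalso
        have h3 := (Nat.prime_dvd_prime_iff_eq hq hp.out).1 (hq.dvd_of_dvd_pow h2)
        rw [h3] at hqd
        have h4 := Nat.dvd_gcd hqd (dvd_refl p)
        rw [hw.gcd_eq_one] at h4
        exact hp.out.one_lt.ne' (Nat.dvd_one.1 h4)
      · exact h2)
    have h1 : w ∈ MulAut.conj g • H := hg (mem_zpowers w)
    rw [mem_pointwise_smul_iff_inv_smul_mem] at h1
    have h2 : (MulAut.conj g)⁻¹ • w = g⁻¹ * w * g := by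
      rw [← map_inv, MulAut.smul_def, MulAut.conj_apply, inv_inv]
    rw [h2] at h1
    -- `g = a h`
    obtain ⟨⟨a, b⟩, hab⟩ := hH.2 g
    have hab' : (a : E) * b = g := hab
    refine ⟨(a : E)⁻¹, inv_mem a.2, ?_⟩
    have h3 := mul_mem (mul_mem b.2 h1) (inv_mem b.2)
    have h4 : (b : E) * (g⁻¹ * w * g) * (b : E)⁻¹ = (a : E)⁻¹ * w * (a : E)⁻¹⁻¹ := by
      rw [← hab']
      group
    rwa [h4] at h3
  obtain ⟨a, ha, hax⟩ := key ⟨x, hxE⟩ (by rwa [Subgroup.orderOf_mk])
  obtain ⟨b, hb, hbv⟩ := key ⟨v, hvE⟩ (by rwa [Subgroup.orderOf_mk])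
  refine ⟨((b⁻¹ * a : E) : B), (mem_subgroupOf.1 (mul_mem (inv_mem hb) ha)), ?_⟩
  have h1 := hHc _ hax _ hbv
  have h2 : (a : B) * x * (a : B)⁻¹ * ((b : B) * v * (b : B)⁻¹) =
      (b : B) * v * (b : B)⁻¹ * ((a : B) * x * (a : B)⁻¹) := congrArg Subtype.val h1
  show ((b⁻¹ * a : E) : B) * x * ((b⁻¹ * a : E) : B)⁻¹ * v = v * (((b⁻¹ * a : E) : B) * x * ((b⁻¹ * a : E) : B)⁻¹)
  rw [coe_mul, coe_inv]
  calc (b : B)⁻¹ * a * x * ((b : B)⁻¹ * a)⁻¹ * v
      = (b : B)⁻¹ * ((a : B) * x * (a : B)⁻¹ * ((b : B) * v * (b : B)⁻¹)) * b := by group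
    _ = (b : B)⁻¹ * ((b : B) * v * (b : B)⁻¹ * ((a : B) * x * (a : B)⁻¹)) * b := by rw [h2]
    _ = v * ((b : B)⁻¹ * a * x * ((b : B)⁻¹ * a)⁻¹) := by group

end gen

variable {G : Type u} [Group G] [Finite G] {p : ℕ} {S : Subgroup G} {x : G}

theorem MinCtx.center_eq_bot (h : MinCtx p S x) : center G = ⊥ := by
  rw [eq_bot_iff, ← h.cent]
  intro z hz
  rw [mem_centralizer_iff]
  intro g _
  exact mem_center_iff.1 hz g

theorem MinCtx.centralizer_ne_top (h : MinCtx p S x) {e : G} (he : e ≠ 1) : centralizer ({e} : Set G) ≠ ⊤ := by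
  intro h1
  apply he
  rw [← mem_bot, ← h.center_eq_bot, mem_center_iff]
  intro g
  exact mem_centralizer_singleton_iff.1 (show g ∈ centralizer ({e} : Set G) by rw [h1]; trivial)

theorem cm_conj (g x k : G) : cm (g * x * g⁻¹) k = g * cm x (g⁻¹ * k * g) * g⁻¹ := by
  unfold cm
  group

theorem MinCtx.conj (h : MinCtx p S x) (g : G) : MinCtx p S (g * x * g⁻¹) := by
  have hSn := h.normal
  refine ⟨h.normal, h.simple, h.nonab, h.cent, ?_, ?_, ?_, ?_⟩
  · have h1 : (S ⊔ zpowers x).map (MulAut.conj g).toMonoidHom = ⊤ := by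
      rw [h.gen]
      exact map_top_of_surjective _ (MulAut.conj g).surjective
    rw [Subgroup.map_sup, MonoidHom.map_zpowers] at h1
    have h2 : S.map (MulAut.conj g).toMonoidHom = S := by
      rw [map_conj_eq_iff, normalizer_eq_top_iff.2 hSn]
      trivial
    rw [h2] at h1
    exact h1
  · intro h1
    apply h.ne
    have h2 : x = g⁻¹ * (g * x * g⁻¹) * g := by group
    rw [h2, h1]
    group
  · intro k
    obtain ⟨m, hm⟩ := h.pow (g⁻¹ * k * g)
    refine ⟨m, ?_⟩
    rw [← hm, cm_conj]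
    exact orderOf_injective (MulAut.conj g).toMonoidHom (MulAut.conj g).injective _
  · intro D hxD hDt d hd
    set D' := D.comap (MulAut.conj g).toMonoidHom with hD'
    have hxD' : x ∈ D' := hxD
    have hDt' : D' ≠ ⊤ := by
      intro h1
      apply hDt
      rw [eq_top_iff]
      intro w _
      have h2 : g⁻¹ * w * g ∈ D' := by rw [h1]; trivial
      have h3 : g * (g⁻¹ * w * g) * g⁻¹ ∈ D := h2
      have h4 : g * (g⁻¹ * w * g) * g⁻¹ = w := by group
      rwa [h4] at h3
    have hd' : g⁻¹ * d * g ∈ D' := by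
      show g * (g⁻¹ * d * g) * g⁻¹ ∈ D
      have h4 : g * (g⁻¹ * d * g) * g⁻¹ = d := by group
      rwa [h4]
    obtain ⟨c, hc, hcx⟩ := h.ind D' hxD' hDt' _ hd'
    -- the isomorphism
    let e : D' ≃* D :=
      { toFun := fun w => ⟨g * w * g⁻¹, w.2⟩
        invFun := fun w => ⟨g⁻¹ * w * g, by
          show g * (g⁻¹ * (w : G) * g) * g⁻¹ ∈ D
          have h4 : g * (g⁻¹ * (w : G) * g) * g⁻¹ = w := by group
          rw [h4]; exact w.2⟩
        left_inv := fun w => Subtype.ext (by
          show g⁻¹ * (g * (w : G) * g⁻¹) * g = w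
          group)
        right_inv := fun w => Subtype.ext (by
          show g * (g⁻¹ * (w : G) * g) * g⁻¹ = w
          group)
        map_mul' := fun a b => Subtype.ext (by
          show g * ((a : G) * b) * g⁻¹ = g * a * g⁻¹ * (g * b * g⁻¹)
          group) }
    have h1 : e c ∈ pCore p D := by
      rw [← map_equiv_pCore e p]
      exact ⟨c, hc, rfl⟩
    refine ⟨e c, h1, ?_⟩
    show g * (c : G) * g⁻¹ = cm (g * x * g⁻¹) d
    rw [cm_conj, ← hcx]
    rfl

/-- **Commuting conjugates of a power of a `p'`-element `x` are equal.** -/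
theorem MinCtx.isolated [hp : Fact p.Prime] (h : MinCtx p S x) (hx : (orderOf x).Coprime p) {i : ℕ} (hi : x ^ i ≠ 1)
    {g : G} (hg : Commute (x ^ i) (g * x ^ i * g⁻¹)) : g * x ^ i * g⁻¹ = x ^ i := by
  set e := x ^ i with he
  set v := g * e * g⁻¹ with hv
  have hordconj : ∀ (k : G), orderOf (k * x * k⁻¹) = orderOf x := fun k =>
    orderOf_injective (MulAut.conj k).toMonoidHom (MulAut.conj k).injective x
  have hvi : (g * x * g⁻¹) ^ i = v := by rw [conj_pow]
  have hv1 : v ≠ 1 := by
    intro h1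
    apply hi
    have h2 : e = g⁻¹ * (g * e * g⁻¹) * g := by group
    rw [h2, ← hv, h1]
    group
  -- first step
  obtain ⟨a, ha, hax⟩ : ∃ a : G, Commute a e ∧ Commute (a * x * a⁻¹) v := by
    have hD := h.centralizer_ne_top hi
    have hxD : x ∈ centralizer ({e} : Set G) := mem_centralizer_singleton_iff.2 ((Commute.refl x).pow_right i)
    have hvD : v ∈ centralizer ({e} : Set G) := mem_centralizer_singleton_iff.2 hg.symm
    have hvo : (orderOf v).Coprime p := by
      rw [← hvi]
      refine Nat.Coprime.coprime_dvd_left (orderOf_pow_dvd i) ?_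
      rw [hordconj]
      exact hx
    obtain ⟨c, hc, hcx⟩ := h.ind _ hxD hD v hvD
    obtain ⟨a, ha, hax⟩ := exists_conj_commute (P := pCore p (centralizer ({e} : Set G)))
      (pCore_isPGroup p) (x := ⟨x, hxD⟩) (v := ⟨v, hvD⟩) (by rwa [Subgroup.orderOf_mk])
      (by rwa [Subgroup.orderOf_mk]) (by
        have h1 : cm (⟨x, hxD⟩ : centralizer ({e} : Set G)) ⟨v, hvD⟩ = c := Subtype.ext hcx.symm
        rw [h1]
        exact hc)
    exact ⟨a, mem_centralizer_singleton_iff.1 a.2, congrArg Subtype.val hax⟩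
  set x₁ := a * x * a⁻¹ with hx₁
  have hx₁i : x₁ ^ i = e := by
    rw [hx₁, conj_pow, ← he, ha.eq, mul_inv_cancel_right]
  -- second step
  have hy := h.conj g
  obtain ⟨b, hb, hby⟩ : ∃ b : G, Commute b v ∧ Commute (b * (g * x * g⁻¹) * b⁻¹) x₁ := by
    have hD := h.centralizer_ne_top hv1
    have hyD : g * x * g⁻¹ ∈ centralizer ({v} : Set G) := by
      rw [mem_centralizer_singleton_iff, ← hvi]
      exact (Commute.refl _).pow_right i
    have hxD : x₁ ∈ centralizer ({v} : Set G) := mem_centralizer_singleton_iff.2 hax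
    obtain ⟨c, hc, hcx⟩ := hy.ind _ hyD hD x₁ hxD
    obtain ⟨b, hb, hbx⟩ := exists_conj_commute (P := pCore p (centralizer ({v} : Set G)))
      (pCore_isPGroup p) (x := ⟨g * x * g⁻¹, hyD⟩) (v := ⟨x₁, hxD⟩)
      (by rw [Subgroup.orderOf_mk, hordconj]; exact hx)
      (by rw [Subgroup.orderOf_mk, hx₁, hordconj]; exact hx) (by
        have h1 : cm (⟨g * x * g⁻¹, hyD⟩ : centralizer ({v} : Set G)) ⟨x₁, hxD⟩ = c := Subtype.ext hcx.symm
        rw [h1]
        exact hc)
    exact ⟨b, mem_centralizer_singleton_iff.1 b.2, congrArg Subtype.val hbx⟩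
  set y₂ := b * (g * x * g⁻¹) * b⁻¹ with hy₂
  have hy₂i : y₂ ^ i = v := by
    rw [hy₂, conj_pow, hvi, hb.eq, mul_inv_cancel_right]
  -- they are equal
  have heq : x₁ = y₂ := by
    have h1 : x₁⁻¹ * y₂ = a * cm x (g⁻¹ * b⁻¹ * a) * a⁻¹ := by
      rw [hx₁, hy₂]
      unfold cm
      group
    obtain ⟨m, hm⟩ := h.pow (g⁻¹ * b⁻¹ * a)
    have h2 : orderOf (x₁⁻¹ * y₂) = p ^ m := by
      rw [h1, ← hm]
      exact orderOf_injective (MulAut.conj a).toMonoidHom (MulAut.conj a).injective _
    have h3 : orderOf (x₁⁻¹ * y₂) ∣ orderOf x := by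
      have h4 : (orderOf x₁⁻¹).lcm (orderOf y₂) = orderOf x := by
        rw [orderOf_inv, hx₁, hordconj]
        have h5 : y₂ = (b * g) * x * (b * g)⁻¹ := by rw [hy₂]; group
        rw [h5, hordconj, Nat.lcm_self]
      rw [← h4]
      exact (hby.symm.inv_left).orderOf_mul_dvd_lcm
    have h4 : orderOf (x₁⁻¹ * y₂) = 1 := by
      have h5 : (p ^ m).Coprime (orderOf x) := Nat.Coprime.pow_left _ hx.symm
      rw [← h2] at h5
      exact Nat.Coprime.eq_one_of_dvd h5 h3
    exact inv_mul_eq_one.1 (orderOf_eq_one_iff.1 h4)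
  rw [← hy₂i, ← heq, hx₁i]

end Cfsg.Agent.H472.ComRed
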