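import Cfsg.Agent.H472.ComStrongB

/-!
# S4094 and S3842 at the prime 2: the interface for the rows (helper472)

`Strong a` : what is known of the automorphism `a` of `S` induced by `x`, if `MinCtx 2 S x`.
`MinCtx.strong` : from `MinCtx`, given an invariant Sylow 2-subgroup (`SylGen`).
-/

set_option autoImplicit false
set_option linter.unusedSectionVars false

namespace Cfsg.Agent.H472.ComTwo

open Subgroup Cfsg
open Cfsg.Agent.Lib.Cores

universe u v

variable {K : Type u} [Group K] {K' : Type v} [Group K']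

/-- `D` is invariant under `a`. -/
def Inv (a : MulAut K) (D : Subgroup K) : Prop := ∀ d ∈ D, a d ∈ D

/-- What is known of the automorphism of `S` induced by `x` in a minimal counterexample at the prime 2. -/
structure Strong (a : MulAut K) : Prop where
  sq : a * a ≠ 1
  bad : ∀ s : K, ∃ k : ℕ, orderOf ((a s)⁻¹ * s) = 2 ^ k
  loc : ∀ D : Subgroup K, D ≠ ⊤ → Inv a D → ∃ W : Subgroup K, W ≤ D ∧ IsPGroup 2 W ∧
    (∀ u ∈ D, ∀ w ∈ W, u * w * u⁻¹ ∈ W) ∧ ∀ d ∈ D, (a d)⁻¹ * d ∈ W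
  syl : ∃ T : Sylow 2 K, Inv a (T : Subgroup K)
  gen : ∀ T : Sylow 2 K, Inv a (T : Subgroup K) → ∀ D₁ D₂ : Subgroup K, (T : Subgroup K) ≤ D₁ → (T : Subgroup K) ≤ D₂ →
    Inv a D₁ → Inv a D₂ → D₁ ≠ ⊤ → D₂ ≠ ⊤ → D₁ ⊔ D₂ ≠ ⊤

theorem Inv.map {a : MulAut K} {D : Subgroup K} (h : Inv a D) (e : K ≃* K') :
    Inv (MulAut.congr e a) (D.map e.toMonoidHom) := by
  rintro _ ⟨d, hd, rfl⟩
  refine ⟨a d, h d hd, ?_⟩
  show e (a d) = e (a (e.symm (e d)))
  rw [e.symm_apply_apply]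

theorem Inv.of_congr {a : MulAut K} {e : K ≃* K'} {D : Subgroup K'} (h : Inv (MulAut.congr e a) D) :
    Inv a (D.map e.symm.toMonoidHom) := by
  have h1 := h.map e.symm
  have h2 : MulAut.congr e.symm (MulAut.congr e a) = a := by
    ext s
    show e.symm (e (a (e.symm (e.symm.symm s)))) = a s
    rw [e.symm_apply_apply]
    show a (e.symm (e s)) = a s
    rw [e.symm_apply_apply]
  rwa [h2] at h1

theorem map_ne_top {D : Subgroup K} (h : D ≠ ⊤) (e : K ≃* K') : D.map e.toMonoidHom ≠ ⊤ := by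
  intro h1
  apply h
  rw [eq_top_iff]
  intro s _
  have h2 : e s ∈ D.map e.toMonoidHom := by rw [h1]; trivial
  obtain ⟨d, hd, hd'⟩ := h2
  have h3 : d = s := e.injective hd'
  exact h3 ▸ hd

theorem map_symm_map (D : Subgroup K) (e : K ≃* K') : (D.map e.toMonoidHom).map e.symm.toMonoidHom = D := by
  ext s
  constructor
  · rintro ⟨_, ⟨d, hd, rfl⟩, hs⟩
    have : d = s := by rw [← hs]; exact (e.symm_apply_apply d).symm
    exact this ▸ hd
  · intro hs
    exact ⟨e s, ⟨s, hs, rfl⟩, e.symm_apply_apply s⟩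

/-- `Strong` is invariant under isomorphisms. -/
theorem Strong.congr [Finite K] {a : MulAut K} (h : Strong a) (e : K ≃* K') : Strong (MulAut.congr e a) := by
  have hf : Finite K' := Finite.of_equiv K e.toEquiv
  have hback : ∀ D : Subgroup K', (D.map e.symm.toMonoidHom).map e.toMonoidHom = D := fun D => by
    have := map_symm_map D e.symm
    simpa using this
  refine ⟨?_, ?_, ?_, ?_, ?_⟩
  · intro h1
    apply h.sq
    rw [← map_mul] at h1
    exact (MulAut.congr e).map_eq_one_iff.1 h1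
  · intro s
    obtain ⟨k, hk⟩ := h.bad (e.symm s)
    refine ⟨k, ?_⟩
    rw [← hk, ← orderOf_injective e.toMonoidHom e.injective]
    congr 1
    show (e (a (e.symm s)))⁻¹ * s = e ((a (e.symm s))⁻¹ * e.symm s)
    rw [map_mul, map_inv, e.apply_symm_apply]
  · intro D hD hi
    obtain ⟨W, hW, hW2, hWn, hd⟩ := h.loc _ (map_ne_top hD e.symm) hi.of_congr
    refine ⟨W.map e.toMonoidHom, ?_, hW2.map _, ?_, ?_⟩
    · rw [← hback D]
      exact Subgroup.map_mono hW
    · rintro u hu _ ⟨w, hw, rfl⟩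
      refine ⟨e.symm u * w * (e.symm u)⁻¹, hWn _ ⟨u, hu, rfl⟩ w hw, ?_⟩
      show e (e.symm u * w * (e.symm u)⁻¹) = u * e w * u⁻¹
      rw [map_mul, map_mul, map_inv, e.apply_symm_apply]
    · intro d hd'
      refine ⟨_, hd (e.symm d) ⟨d, hd', rfl⟩, ?_⟩
      show e ((a (e.symm d))⁻¹ * e.symm d) = (e (a (e.symm d)))⁻¹ * d
      rw [map_mul, map_inv, e.apply_symm_apply]
  · obtain ⟨T, hT⟩ := h.syl
    refine ⟨T.mapSurjective (f := e.toMonoidHom) e.surjective, ?_⟩
    exact hT.map e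
  · intro T hT D₁ D₂ h1 h2 i1 i2 n1 n2 hs
    refine h.gen (T.mapSurjective (f := e.symm.toMonoidHom) e.symm.surjective) hT.of_congr _ _
      (Subgroup.map_mono h1) (Subgroup.map_mono h2) i1.of_congr i2.of_congr (map_ne_top n1 e.symm)
      (map_ne_top n2 e.symm) ?_
    rw [← Subgroup.map_sup, hs]
    exact Subgroup.map_top_of_surjective _ e.symm.surjective

/-- The row of `K`. -/
def NoStrong (K : Type u) [Group K] : Prop := ∀ a : MulAut K, ¬ Strong a

theorem NoStrong.of_equiv [Finite K] (h : NoStrong K') (e : K ≃* K') : NoStrong K := fun _ ha => h _ (ha.congr e)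

section basic

variable [Finite K] {a : MulAut K}

theorem fix_apply_iff {a : MulAut K} {s : K} : a⁻¹ s = s ↔ a s = s := by
  rw [MulAut.inv_def, MulEquiv.symm_apply_eq]
  exact eq_comm

/-- an automorphism fixing `z` leaves `C_K(z)` invariant -/
theorem inv_centralizer {z : K} (hz : a z = z) : Inv a (centralizer ({z} : Set K)) := by
  intro d hd
  rw [mem_centralizer_singleton_iff] at hd ⊢
  have := congrArg a hd
  rw [map_mul, map_mul, hz] at this
  exact this

theorem centralizer_ne_top (hc : center K = ⊥) {z : K} (hz : z ≠ 1) : centralizer ({z} : Set K) ≠ ⊤ := by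
  intro h
  apply hz
  have h1 : z ∈ center K := by
    rw [mem_center_iff]
    intro g
    have hg : g ∈ centralizer ({z} : Set K) := by rw [h]; trivial
    exact mem_centralizer_singleton_iff.1 hg
  rw [hc] at h1
  exact mem_bot.1 h1

/-- `[a, D] ≤ O_2(D)` -/
theorem Strong.mem_pCore (h : Strong a) {D : Subgroup K} (hD : D ≠ ⊤) (hi : Inv a D) {d : K} (hd : d ∈ D) :
    (a d)⁻¹ * d ∈ (pCore 2 D).map D.subtype := by
  obtain ⟨W, hW, hW2, hWn, hmem⟩ := h.loc D hD hi
  have hn : (W.subgroupOf D).Normal := ⟨fun w hw u => hWn u u.2 w hw⟩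
  have h2 : IsPGroup 2 (W.subgroupOf D) :=
    hW2.of_injective (Subgroup.subgroupOfEquivOfLe hW).toMonoidHom (Subgroup.subgroupOfEquivOfLe hW).injective
  have h3 : (⟨(a d)⁻¹ * d, hW (hmem d hd)⟩ : D) ∈ W.subgroupOf D := hmem d hd
  exact ⟨_, le_pCore hn h2 h3, rfl⟩

/-- if the square of `a` is inner, it is the conjugation by a fixed element -/
theorem fix_of_sq (hc : center K = ⊥) {g : K} (hg : a * a = MulAut.conj g) : a g = g := by
  have h1 : a * MulAut.conj g * a⁻¹ = MulAut.conj g := by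
    rw [← hg]; group
  have h2 : a * MulAut.conj g * a⁻¹ = MulAut.conj (a g) := by
    ext s
    show a (g * a⁻¹ s * g⁻¹) = a g * s * (a g)⁻¹
    rw [map_mul, map_mul, map_inv, MulAut.apply_inv_self]
  have h3 : MulAut.conj (a g) = MulAut.conj g := h2.symm.trans h1
  have h4 : (a g) * g⁻¹ ∈ center K := by
    rw [mem_center_iff]
    intro s
    have h5 := DFunLike.congr_fun h3 (g⁻¹ * s * g)
    simp only [MulAut.conj_apply] at h5
    calc s * (a g * g⁻¹) = g * (g⁻¹ * s * g) * g⁻¹ * (a g * g⁻¹) := by group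
      _ = a g * (g⁻¹ * s * g) * (a g)⁻¹ * (a g * g⁻¹) := by rw [h5]
      _ = a g * g⁻¹ * s := by group
  rw [hc, mem_bot, mul_inv_eq_one] at h4
  exact h4

/-- the square of `a` in `C_K(z)`: `g ∈ C_K(z)` is central modulo `O_2(C_K(z))`. -/
theorem Strong.sq_central (h : Strong a) {g : K} (hg : a * a = MulAut.conj g) {D : Subgroup K} (hD : D ≠ ⊤)
    (hi : Inv a D) {d : K} (hd : d ∈ D) : g * d * g⁻¹ * d⁻¹ ∈ (pCore 2 D).map D.subtype := by
  have h1 := h.mem_pCore hD hi hd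
  have h2 := h.mem_pCore hD hi (hi d hd)
  have h3 := DFunLike.congr_fun hg d
  rw [MulAut.mul_apply, MulAut.conj_apply] at h3
  have h4 : g * d * g⁻¹ * d⁻¹ = (((a d)⁻¹ * d)⁻¹ * ((a d)⁻¹ * d)⁻¹⁻¹) * (g * d * g⁻¹ * d⁻¹) := by group
  rw [← h3]
  have h5 : (a (a d)) * d⁻¹ = d * (((a (a d))⁻¹ * a d) * ((a d)⁻¹ * d))⁻¹ * d⁻¹ := by group
  rw [h5]
  have h6 : (((a (a d))⁻¹ * a d) * ((a d)⁻¹ * d))⁻¹ ∈ (pCore 2 D).map D.subtype := inv_mem (mul_mem h2 h1)
  obtain ⟨w, hw, hw'⟩ := h6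
  have h7 : (pCore 2 D).Normal := pCore_normal 2 D
  refine ⟨⟨d, hd⟩ * w * ⟨d, hd⟩⁻¹, h7.conj_mem w hw _, ?_⟩
  rw [← hw']
  rfl

end basic

end Cfsg.Agent.H472.ComTwo
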