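import Cfsg.Agent.H187.FiOdd.Three

/-!
# Rank three 3-transposition groups: elements all whose commutators are trivial or of order divisible by 3 (helper472)

The weak form of `H187.FiOdd.Three` (S4095): `N` of index 2 in `G` not containing the transpositions. `no_three`: if
`C_N(g)` has odd order, then some commutator `[g, u] ≠ 1`, `u ∈ N`, has order prime to 3.

* `path_pow` : the Coxeter element of a path of length four satisfies `w ^ 5 = 1`;
* `no_adj` : `g` of odd order: `x` and `g • x` are never adjacent.
-/

set_option autoImplicit false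
set_option linter.unusedSectionVars false
set_option linter.unusedSimpArgs false

namespace Cfsg.Agent.H472.FiThree

open Subgroup Cfsg.Agent.Fischer.Abstract Cfsg.Agent.LThreeM.SrgFix Cfsg.Agent.H711.SrgEven

/-- trivial or of order divisible by 3 -/
def W3 {G : Type*} [Group G] (w : G) : Prop := w = 1 ∨ 3 ∣ orderOf w

section A4

variable {G : Type*} [Group G]

theorem W3.conj {w : G} (h : W3 w) (g : G) : W3 (g * w * g⁻¹) := by
  rcases h with h | h
  · left
    rw [h]; group
  · right
    rwa [show orderOf (g * w * g⁻¹) = orderOf w from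
      orderOf_injective (MulAut.conj g).toMonoidHom (MulAut.conj g).injective w]

theorem W3.eq_one {w : G} (h : W3 w) {n : ℕ} (hn : ¬ 3 ∣ n) (h2 : w ^ n = 1) : w = 1 := by
  rcases h with h | h
  · exact h
  · exact absurd (h.trans (orderOf_dvd_of_pow_eq_one h2)) hn

/-- **A path of length four**: its Coxeter element has order 5. -/
theorem path_pow {a b c d : G} (ha : a * a = 1) (hb : b * b = 1) (hc : c * c = 1) (hd : d * d = 1)
    (hab : a * b * a = b * a * b) (hbc : b * c * b = c * b * c) (hcd : c * d * c = d * c * d)
    (hac : Commute a c) (had : Commute a d) (hbd : Commute b d) : (a * b * c * d) ^ 5 = 1 := by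
  have ra : ∀ x : G, a * (a * x) = x := fun x => by rw [← mul_assoc, ha, one_mul]
  have rb : ∀ x : G, b * (b * x) = x := fun x => by rw [← mul_assoc, hb, one_mul]
  have rc : ∀ x : G, c * (c * x) = x := fun x => by rw [← mul_assoc, hc, one_mul]
  have rd : ∀ x : G, d * (d * x) = x := fun x => by rw [← mul_assoc, hd, one_mul]
  have rca : ∀ x : G, c * (a * x) = a * (c * x) := fun x => by rw [← mul_assoc, ← hac.eq, mul_assoc]
  have rda : ∀ x : G, d * (a * x) = a * (d * x) := fun x => by rw [← mul_assoc, ← had.eq, mul_assoc]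
  have rdb : ∀ x : G, d * (b * x) = b * (d * x) := fun x => by rw [← mul_assoc, ← hbd.eq, mul_assoc]
  have rbab : ∀ x : G, b * (a * (b * x)) = a * (b * (a * x)) := fun x => by
    rw [← mul_assoc a b x, ← mul_assoc, ← mul_assoc, ← hab]; simp only [mul_assoc]
  have rcbc : ∀ x : G, c * (b * (c * x)) = b * (c * (b * x)) := fun x => by
    rw [← mul_assoc b c x, ← mul_assoc, ← mul_assoc, ← hbc]; simp only [mul_assoc]
  have rdcd : ∀ x : G, d * (c * (d * x)) = c * (d * (c * x)) := fun x => by
    rw [← mul_assoc c d x, ← mul_assoc, ← mul_assoc, ← hcd]; simp only [mul_assoc]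
  have rcbac : ∀ x : G, c * (b * (a * (c * x))) = b * (c * (b * (a * x))) := fun x => by
    rw [← rca x, rcbc]
  have rdcbd : ∀ x : G, d * (c * (b * (d * x))) = c * (d * (c * (b * x))) := fun x => by
    rw [← rdb x, rdcd]
  have rdcbad : ∀ x : G, d * (c * (b * (a * (d * x)))) = c * (d * (c * (b * (a * x)))) := fun x => by
    rw [← rda x, rdcbd]
  have h : (a * b * c * d) ^ 5 * 1 = 1 := by
    simp only [pow_succ, pow_zero, one_mul, mul_assoc, ra, rb, rc, rd, rca, rda, rdb, rbab, rcbc, rdcd, rcbac, rdcbd,
      rdcbad]
  rwa [mul_one] at h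

/-- **A path of length four**: its Coxeter element is not trivial or of order divisible by 3. -/
theorem not_path {a b c d : G} (ha : a * a = 1) (hb : b * b = 1) (hc : c * c = 1) (hd : d * d = 1)
    (hab : a * b * a = b * a * b) (hbc : b * c * b = c * b * c) (hcd : c * d * c = d * c * d)
    (hac : Commute a c) (had : Commute a d) (hbd : Commute b d) (hne : a ≠ b) : ¬ W3 (a * b * c * d) := by
  intro h
  have h1 := h.eq_one (n := 5) (by norm_num) (path_pow ha hb hc hd hab hbc hcd hac had hbd)
  -- `a b = d c`
  have h2 : a * b = d * c := by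
    have h3 : a * b * (c * d) = 1 := by rw [← h1]; group
    have h4 : (c * d)⁻¹ = d * c := by
      rw [mul_inv_rev, inv_eq_of_mul_eq_one_left hd, inv_eq_of_mul_eq_one_left hc]
    rw [← h4]
    exact eq_inv_of_mul_eq_one_left h3
  -- `a` commutes with `d c = a b`, hence with `b`
  have h3 : Commute a (d * c) := had.mul_right hac
  rw [← h2] at h3
  have h4 : Commute a b := by
    have h5 : Commute a (a⁻¹ * (a * b)) := ((Commute.refl a).inv_right).mul_right h3
    rwa [inv_mul_cancel_left] at h5
  apply hne
  have h5 : a * b * a = b := by rw [h4.eq, mul_assoc, ha, mul_one]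
  have h6 : b * a * b = a := by rw [← h4.eq, mul_assoc, hb, mul_one]
  rw [← h6, ← hab, h5]

end A4

variable {G X : Type*} [Group G] [MulAction G X] (R : Rank3 G X)

/-- **The pattern argument**: no point is adjacent to its image under `g`. -/
theorem no_adj {g : G} (hgo : Odd (orderOf g)) (N : Subgroup G)
    (hNmul : ∀ a b : X, R.t a * R.t b ∈ N)
    (hP : ∀ u ∈ N, W3 (g * u * g⁻¹ * u⁻¹))
    (key : ∀ u ∈ N, Commute g u → u * u = 1 → u = 1) (x : X) : ¬ Adj R x (g • x) := by
  rintro ⟨hne, hcom⟩
  set n := MulAction.period g x with hn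
  have hodd : Odd n := hgo.of_dvd_nat (MulAction.period_dvd_orderOf g x)
  have hn1 : n ≠ 1 := by
    intro h
    apply hne
    have h1 := (MulAction.pow_smul_eq_iff_period_dvd (n := 1) (m := g) (a := x)).2 (by rw [← hn, h])
    rw [pow_one] at h1
    exact h1.symm
  have hdist : ∀ i j : ℕ, i < j → j < n → g ^ i • x ≠ g ^ j • x := by
    intro i j hij hjn h
    have h1 : g ^ (j - i) • x = x := by
      have h2 : g ^ j • x = g ^ i • g ^ (j - i) • x := by
        rw [← mul_smul, ← pow_add, Nat.add_sub_cancel' hij.le]
      rw [h2] at h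
      exact ((MulAction.injective (g ^ i)) h).symm
    have h2 := MulAction.pow_smul_eq_iff_period_dvd.1 h1
    have h3 := Nat.le_of_dvd (by omega) h2
    omega
  have hshift : ∀ i j : ℕ, R.Com (g ^ i • x) (g ^ (i + j) • x) ↔ R.Com x (g ^ j • x) := by
    intro i j
    rw [pow_add, mul_smul, R.com_smul]
  have ht : ∀ i : ℕ, R.t (g ^ (i + 1) • x) = g * R.t (g ^ i • x) * g⁻¹ := by
    intro i
    rw [pow_succ', mul_smul, R.map_smul]
  have hW : ∀ k : ℕ, W3 (R.t (g ^ 1 • x) * R.t (g ^ (k + 1) • x) * R.t (g ^ k • x) * R.t (g ^ 0 • x)) := by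
    intro k
    have h1 := hP (R.t (g ^ 0 • x) * R.t (g ^ k • x)) (hNmul _ _)
    rw [mul_inv_rev, R.t_inv, R.t_inv] at h1
    have h2 : g * (R.t (g ^ 0 • x) * R.t (g ^ k • x)) * g⁻¹ * (R.t (g ^ k • x) * R.t (g ^ 0 • x)) =
        R.t (g ^ 1 • x) * R.t (g ^ (k + 1) • x) * R.t (g ^ k • x) * R.t (g ^ 0 • x) := by
      rw [ht k, ht 0]
      group
    rwa [h2] at h1
  have hs1 : R.Com x (g ^ 1 • x) := by rw [pow_one]; exact hcom
  have e0 : g ^ 0 • x = x := by rw [pow_zero, one_smul]
  have claim : ∀ k : ℕ, 1 ≤ k → k < n → (R.Com x (g ^ k • x) ↔ Odd k) := by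
    intro k
    induction k using Nat.strong_induction_on with
    | _ k ih =>
      intro hk1 hkn
      rcases Nat.lt_or_ge k 3 with hlt | hge
      · interval_cases k
        · exact ⟨fun _ => ⟨0, rfl⟩, fun _ => hs1⟩
        · refine ⟨fun h => ?_, fun h => absurd h (by decide)⟩
          exfalso
          have h0 := hW 1
          have c12 : R.Com (g ^ 1 • x) (g ^ (1 + 1) • x) := (hshift 1 1).2 hs1
          have h1 : R.t (g ^ 1 • x) * R.t (g ^ (1 + 1) • x) * R.t (g ^ 1 • x) * R.t (g ^ 0 • x) =
              R.t (g ^ 2 • x) * R.t (g ^ 0 • x) := by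
            rw [show R.t (g ^ 1 • x) * R.t (g ^ (1 + 1) • x) = R.t (g ^ (1 + 1) • x) * R.t (g ^ 1 • x) from c12,
              mul_assoc (R.t (g ^ (1 + 1) • x)), R.sq', mul_one]
          rw [h1] at h0
          have c02 : R.t (g ^ 0 • x) * R.t (g ^ 2 • x) = R.t (g ^ 2 • x) * R.t (g ^ 0 • x) := by
            rw [pow_zero, one_smul]; exact h
          have h2 := h0.eq_one (n := 2) (by norm_num) (by
            rw [pow_two]
            calc R.t (g ^ 2 • x) * R.t (g ^ 0 • x) * (R.t (g ^ 2 • x) * R.t (g ^ 0 • x))
                = R.t (g ^ 2 • x) * (R.t (g ^ 0 • x) * R.t (g ^ 2 • x)) * R.t (g ^ 0 • x) := by group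
              _ = (R.t (g ^ 2 • x) * R.t (g ^ 2 • x)) * (R.t (g ^ 0 • x) * R.t (g ^ 0 • x)) := by rw [c02]; group
              _ = 1 := by rw [R.sq', R.sq', one_mul])
          rw [mul_eq_one_iff_eq_inv, R.t_inv] at h2
          exact hdist 0 2 (by norm_num) hkn (R.t_inj.1 h2).symm
      · -- `k = q + 2`, `q ≥ 1`
        obtain ⟨m, rfl⟩ : ∃ m, k = m + 1 := ⟨k - 1, by omega⟩
        obtain ⟨q, rfl⟩ : ∃ q, m = q + 1 := ⟨m - 1, by omega⟩
        have i1 := ih (q + 1) (by omega) (by omega) (by omega)
        have i2 := ih q (by omega) (by omega) (by omega)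
        by_cases hq : Odd (q + 1)
        · -- `s (q+1) = C`, `s q = N`; want `s (q+2) = N`
          have hq' : ¬ Odd q := by
            intro h; exact (Nat.not_even_iff_odd.2 hq) (h.add_one)
          have hq2 : ¬ Odd (q + 1 + 1) := by
            intro h; exact (Nat.not_even_iff_odd.2 h) (hq.add_one)
          refine ⟨fun h => ?_, fun h => absurd h hq2⟩
          exfalso
          have hqge : 2 ≤ q := by
            rcases Nat.lt_or_ge q 2 with h1 | h1
            · exfalso
              have h2 : q = 1 := by omega
              subst h2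
              exact hq' (by decide)
            · exact h1
          have i3 := ih 3 (by omega) (by norm_num) (by omega)
          -- `q + 3 < n`
          have hlt3 : q + 3 < n := by
            rcases Nat.lt_or_ge (q + 3) n with h1 | h1
            · exact h1
            · exfalso
              have hn3 : n = q + 3 := by omega
              have i4 := ih 2 (by omega) (by norm_num) (by omega)
              have h2 : ¬ R.Com x (g ^ 2 • x) := fun h => absurd (i4.1 h) (by decide)
              apply h2
              have h5 : R.Com (g ^ 2 • x) (g ^ (2 + (q + 1)) • x) := (hshift 2 (q + 1)).2 (i1.2 hq)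
              have h6 : g ^ (2 + (q + 1)) • x = x := by
                rw [show 2 + (q + 1) = n by omega, hn, MulAction.pow_period_smul]
              rw [h6] at h5
              exact R.com_symm h5
          have sq : ∀ i : ℕ, R.t (g ^ i • x) * R.t (g ^ i • x) = 1 := fun i => R.sq' _
          -- commuting pairs
          have cc : ∀ i j : ℕ, R.Com x (g ^ j • x) → Commute (R.t (g ^ i • x)) (R.t (g ^ (i + j) • x)) :=
            fun i j h => (hshift i j).2 h
          have sm1 : R.Com x (g ^ (q + 1) • x) := i1.2 hq
          have c0m1 := cc 0 (q + 2) h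
          have c1m2 := cc 1 (q + 2) h
          have c1m1 := cc 1 (q + 1) sm1
          have c0m := cc 0 (q + 1) sm1
          have cmm1 := cc (q + 1) 1 hs1
          have cm1m2 := cc (q + 2) 1 hs1
          have c01 := cc 0 1 hs1
          rw [zero_add] at c0m1 c0m c01
          rw [show 1 + (q + 2) = q + 3 by ring] at c1m2
          rw [show 1 + (q + 1) = q + 2 by ring] at c1m1
          rw [show q + 1 + 1 = q + 2 by ring] at cmm1
          rw [show q + 2 + 1 = q + 3 by ring] at cm1m2
          -- `s (q+3) = N`
          have hs3 : ¬ R.Com x (g ^ (q + 3) • x) := by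
            intro hc
            have c0m2 := cc 0 (q + 3) hc
            rw [zero_add] at c0m2
            have hw := hW (q + 2)
            rw [show q + 2 + 1 = q + 3 by ring] at hw
            set A := R.t (g ^ 1 • x) with hA
            set B := R.t (g ^ (q + 3) • x) with hB
            set C := R.t (g ^ (q + 2) • x) with hC
            set D := R.t (g ^ 0 • x) with hD
            have sA : A * A = 1 := sq 1
            have sB : B * B = 1 := sq _
            have sC : C * C = 1 := sq _
            have sD : D * D = 1 := sq _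
            have kAB : Commute A B := c1m2
            have kAC : Commute A C := c1m1
            have kDA : Commute D A := c01
            have kDC : Commute D C := c0m1
            have kDB : Commute D B := c0m2
            have kCB : Commute C B := cm1m2
            have hAB2 : (A * B) ^ 2 = 1 := by rw [kAB.mul_pow, pow_two, pow_two, sA, sB, one_mul]
            have hCD2 : (C * D) ^ 2 = 1 := by rw [kDC.symm.mul_pow, pow_two, pow_two, sC, sD, one_mul]
            have hcm : Commute (A * B) (C * D) :=
              ((kAC.mul_right kDA.symm).mul_left (kCB.symm.mul_right kDB.symm))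
            have h1 : A * B * C * D = 1 := hw.eq_one (n := 2) (by norm_num) (by
              rw [mul_assoc (A * B), hcm.mul_pow, hAB2, hCD2, one_mul])
            -- `C D = B A` commutes with `g`
            have h2 : C * D = B * A := by
              have h3 : (A * B) * (C * D) = 1 := by rw [← h1]; group
              have h4 := eq_inv_of_mul_eq_one_right h3
              rw [mul_inv_rev, inv_eq_of_mul_eq_one_left sA, inv_eq_of_mul_eq_one_left sB] at h4
              exact h4
            have h3 : Commute g (C * D) := by
              have h4 : g * (C * D) * g⁻¹ = B * A := by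
                have h5 : B = g * C * g⁻¹ := ht (q + 2)
                have h6 : A = g * D * g⁻¹ := ht 0
                rw [h5, h6]
                group
              rw [← h2] at h4
              exact mul_inv_eq_iff_eq_mul.1 h4
            have h5 := key (C * D) (hNmul _ _) h3 (by rw [← pow_two]; exact hCD2)
            rw [mul_eq_one_iff_eq_inv, hD, R.t_inv] at h5
            exact hdist 0 (q + 2) (by omega) (by omega) (R.t_inj.1 h5).symm
          -- the commutator with `d_{q+2} d_q d_0 d_{q+1}`
          have hNN : R.t (g ^ (q + 2) • x) * R.t (g ^ q • x) * (R.t (g ^ 0 • x) * R.t (g ^ (q + 1) • x)) ∈ N :=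
            mul_mem (hNmul _ _) (hNmul _ _)
          have hw := (hP _ hNN).conj (R.t (g ^ (q + 2) • x))
          have c0m2n : ¬ R.Com (g ^ (q + 3) • x) (g ^ 0 • x) := by
            rw [e0]; exact fun h' => hs3 (R.com_symm h')
          have c0qn : ¬ R.Com (g ^ 0 • x) (g ^ q • x) := by
            rw [e0]; exact fun h' => hq' (i2.1 h')
          have c1qn : ¬ R.Com (g ^ 1 • x) (g ^ (q + 1) • x) := by
            rw [show q + 1 = 1 + q by ring]
            exact fun h' => hq' (i2.1 ((hshift 1 q).1 h'))
          have ih2 := ih 2 (by omega) (by norm_num) (by omega)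
          have cmm2n : ¬ R.Com (g ^ (q + 1) • x) (g ^ (q + 3) • x) := by
            rw [show q + 3 = (q + 1) + 2 by ring]
            exact fun h' => absurd (ih2.1 ((hshift (q + 1) 2).1 h')) (by decide)
          have cqm2 := cc q 3 (i3.2 (by decide))
          have cqm := cc q 1 hs1
          have c1q : Commute (R.t (g ^ 1 • x)) (R.t (g ^ q • x)) := by
            have h1 := cc 1 (q - 1) ((ih (q - 1) (by omega) (by omega) (by omega)).2 (by
              rcases Nat.even_or_odd (q - 1) with h2 | h2
              · exfalso
                apply hq'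
                have := h2.add_one
                rwa [Nat.sub_add_cancel (by omega)] at this
              · exact h2))
            rwa [show 1 + (q - 1) = q by omega] at h1
          set d0 := R.t (g ^ 0 • x) with hd0
          set d1 := R.t (g ^ 1 • x) with hd1
          set dq := R.t (g ^ q • x) with hdq
          set dm := R.t (g ^ (q + 1) • x) with hdm
          set e := R.t (g ^ (q + 2) • x) with he
          set f := R.t (g ^ (q + 3) • x) with hf
          have s0 : d0 * d0 = 1 := R.sq' _
          have s1 : d1 * d1 = 1 := R.sq' _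
          have sq' : dq * dq = 1 := R.sq' _
          have sm : dm * dm = 1 := R.sq' _
          have se : e * e = 1 := R.sq' _
          have sf : f * f = 1 := R.sq' _
          have hge : g * e * g⁻¹ = f := (ht (q + 2)).symm
          have hgq : g * dq * g⁻¹ = dm := (ht q).symm
          have hg0 : g * d0 * g⁻¹ = d1 := (ht 0).symm
          have hgm : g * dm * g⁻¹ = e := (ht (q + 1)).symm
          have ie : e⁻¹ = e := R.t_inv _
          have iq : dq⁻¹ = dq := R.t_inv _
          have im : dm⁻¹ = dm := R.t_inv _
          have i0 : d0⁻¹ = d0 := R.t_inv _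
          have hcomp : e * (g * (e * dq * (d0 * dm)) * g⁻¹ * (e * dq * (d0 * dm))⁻¹) * e⁻¹ =
              f * (dm * d1 * dm) * d0 * dq := by
            have k1 : Commute e f := cm1m2
            have k2 : Commute dm e := cmm1
            have k3 : Commute d1 e := c1m1
            have h1 : g * (e * dq * (d0 * dm)) * g⁻¹ = f * dm * (d1 * e) := by
              calc g * (e * dq * (d0 * dm)) * g⁻¹
                  = (g * e * g⁻¹) * (g * dq * g⁻¹) * ((g * d0 * g⁻¹) * (g * dm * g⁻¹)) := by group
                _ = f * dm * (d1 * e) := by rw [hge, hgq, hg0, hgm]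
            have h2 : (e * dq * (d0 * dm))⁻¹ = dm * d0 * (dq * e) := by
              rw [mul_inv_rev, mul_inv_rev, mul_inv_rev, ie, iq, im, i0]
            rw [h1, h2, ie]
            have k4 : Commute e (f * dm * d1) := (k1.mul_right k2.symm).mul_right k3.symm
            calc e * (f * dm * (d1 * e) * (dm * d0 * (dq * e))) * e
                = (e * (f * dm * d1)) * e * dm * d0 * dq * (e * e) := by group
              _ = ((f * dm * d1) * e) * e * dm * d0 * dq := by rw [k4.eq, se, mul_one]
              _ = (f * dm * d1) * (e * e) * dm * d0 * dq := by group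
              _ = f * (dm * d1 * dm) * d0 * dq := by rw [se]; group
          rw [hcomp] at hw
          -- `f' = dm d1 dm` is a transposition
          set y := R.t (g ^ (q + 1) • x) • (g ^ 1 • x) with hy
          have hfy : R.t y = dm * d1 * dm := by
            rw [hy, R.map_smul, ← hdm, ← hd1, im]
          have ky0 : Commute (R.t y) d0 := by
            rw [hfy]
            have k5 : Commute dm d0 := c0m.symm
            have k6 : Commute d1 d0 := c01.symm
            exact (k5.mul_left k6).mul_left k5
          have kyq : Commute (R.t y) dq := by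
            rw [hfy]
            have k5 : Commute dm dq := cqm.symm
            have k6 : Commute d1 dq := c1q
            exact (k5.mul_left k6).mul_left k5
          have nyf : ¬ R.Com y (g ^ (q + 3) • x) := by
            intro h1
            have h2 : Commute (R.t y) f := h1
            rw [hfy] at h2
            -- `f dm f = dm f dm`, `d1 f = f d1`
            have hb : dm * f * dm = f * dm * f := (R.com_or_braid _ _).resolve_left cmm2n
            have h3 : Commute d1 (dm * f * dm) := by
              show d1 * (dm * f * dm) = dm * f * dm * d1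
              have h4 : dm * (dm * d1 * dm * f) * dm = dm * (f * (dm * d1 * dm)) * dm := by rw [h2.eq]
              calc d1 * (dm * f * dm) = (dm * dm) * d1 * dm * f * dm := by rw [sm]; group
                _ = dm * (dm * d1 * dm * f) * dm := by group
                _ = dm * (f * (dm * d1 * dm)) * dm := h4
                _ = dm * f * dm * d1 * (dm * dm) := by group
                _ = dm * f * dm * d1 := by rw [sm, mul_one]
            rw [hb] at h3
            have h5 : Commute d1 f := c1m2
            have h6 : Commute d1 dm := by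
              have h7 : Commute d1 (f⁻¹ * (f * dm * f) * f⁻¹) := (h5.inv_right.mul_right h3).mul_right h5.inv_right
              have h8 : f⁻¹ * (f * dm * f) * f⁻¹ = dm := by group
              rwa [h8] at h7
            exact c1qn h6
          have hwc := hw.conj (R.t y)
          refine not_path (R.sq' y) sf s0 sq' ((R.com_or_braid _ _).resolve_left nyf)
            ((R.com_or_braid _ _).resolve_left c0m2n) ((R.com_or_braid _ _).resolve_left c0qn) ky0 kyq cqm2.symm
            (fun h1 => nyf (by
              show R.t y * R.t (g ^ (q + 3) • x) = R.t (g ^ (q + 3) • x) * R.t y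
              rw [h1])) ?_
          rw [R.t_inv, ← hfy] at hwc
          have h9 : R.t y * (f * R.t y * d0 * dq) * R.t y = R.t y * f * d0 * dq := by
            have h10 : Commute (R.t y) (d0 * dq) := ky0.mul_right kyq
            calc R.t y * (f * R.t y * d0 * dq) * R.t y = R.t y * f * (R.t y * (d0 * dq)) * R.t y := by group
              _ = R.t y * f * ((d0 * dq) * R.t y) * R.t y := by rw [h10.eq]
              _ = R.t y * f * d0 * dq * (R.t y * R.t y) := by group
              _ = R.t y * f * d0 * dq := by rw [R.sq', mul_one]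
          rwa [h9] at hwc
        · -- `s (q+1) = N`, `s q = C`; want `s (q+2) = C`
          have hq' : Odd q := by
            by_contra h
            exact hq ((Nat.not_odd_iff_even.1 h).add_one)
          have hq2 : Odd (q + 1 + 1) := (Nat.not_odd_iff_even.1 hq).add_one
          have hw := hW (q + 1)
          have eAB : R.Com (g ^ 1 • x) (g ^ (q + 1 + 1) • x) ↔ R.Com x (g ^ (q + 1) • x) := by
            rw [show q + 1 + 1 = 1 + (q + 1) by ring]; exact hshift 1 (q + 1)
          have eAC : R.Com (g ^ 1 • x) (g ^ (q + 1) • x) ↔ R.Com x (g ^ q • x) := by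
            rw [show q + 1 = 1 + q by ring]; exact hshift 1 q
          have cBC : R.Com (g ^ (q + 1) • x) (g ^ (q + 1 + 1) • x) := (hshift (q + 1) 1).2 hs1
          have cAD : R.Com (g ^ 0 • x) (g ^ 1 • x) := by rw [e0]; exact hs1
          have nAB : g ^ 1 • x ≠ g ^ (q + 1 + 1) • x := hdist 1 (q + 1 + 1) (by omega) hkn
          refine ⟨fun _ => hq2, fun _ => ?_⟩
          by_contra h
          have nCD : ¬ R.Com (g ^ 0 • x) (g ^ (q + 1) • x) := by rw [e0]; exact fun h => hq (i1.1 h)
          have nAB' : ¬ R.Com (g ^ 1 • x) (g ^ (q + 1 + 1) • x) := fun h => hq (i1.1 (eAB.1 h))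
          have cAC := eAC.2 (i2.2 hq')
          have nBD' : ¬ R.Com (g ^ (q + 1 + 1) • x) (g ^ 0 • x) := by
            rw [e0]; exact fun h' => h (R.com_symm h')
          have bAB := (R.com_or_braid _ _).resolve_left nAB'
          have bBD := (R.com_or_braid _ _).resolve_left nBD'
          have bDC := (R.com_or_braid _ _).resolve_left nCD
          refine not_path (R.sq' _) (R.sq' _) (R.sq' _) (R.sq' _) bAB bBD bDC (Eq.symm cAD) cAC (Eq.symm cBC)
            (fun h => nAB (R.t_inj.1 h)) ?_
          have h7 := hw.conj (R.t (g ^ (q + 1) • x))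
          convert h7 using 1
          rw [R.t_inv]
          have kCA : Commute (R.t (g ^ (q + 1) • x)) (R.t (g ^ 1 • x)) := Eq.symm cAC
          have kCB : Commute (R.t (g ^ (q + 1) • x)) (R.t (g ^ (q + 1 + 1) • x)) := cBC
          have sC : R.t (g ^ (q + 1) • x) * R.t (g ^ (q + 1) • x) = 1 := R.sq' _
          set A := R.t (g ^ 1 • x) with hA
          set B := R.t (g ^ (q + 1 + 1) • x) with hB
          set C := R.t (g ^ (q + 1) • x) with hC
          set D := R.t (g ^ 0 • x) with hD
          calc A * B * D * C = (A * B) * (C * C) * D * C := by rw [sC, mul_one]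
            _ = (A * B * C) * C * D * C := by group
            _ = (C * (A * B)) * C * D * C := by rw [(kCA.mul_right kCB).eq]
            _ = C * (A * B * C * D) * C := by group
  -- the end
  have h3 : 3 ≤ n := by
    obtain ⟨q, hq⟩ := hodd
    omega
  have h4 := (claim (n - 1) (by omega) (by omega)).1 (by
    have h5 : R.Com (g • x) (g • g ^ (n - 1) • x) := by
      rw [← mul_smul, ← pow_succ', show n - 1 + 1 = n by omega, hn, MulAction.pow_period_smul]
      exact R.com_symm hcom
    exact (R.com_smul g _ _).1 h5)
  obtain ⟨q, hq⟩ := hodd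
  obtain ⟨q', hq'⟩ := h4
  omega

variable {k l m : ℕ} {s : ℤ}

/-- **Some commutator is nontrivial of order prime to 3.** -/
theorem no_three [Finite G] [Finite X] (hk : (nb R R.x0).ncard = k) (hl : (cn R R.x0 R.c).ncard = l)
    (hm : (cn R R.x0 R.b).ncard = m) (hs : s * s = ((l : ℤ) - m) * s + ((k : ℤ) - m))
    (ha : (l : ℤ) - m - 2 * s ≠ 0) (hd : ¬ ((l : ℤ) - m - 2 * s) ∣ ((k : ℤ) - s))
    (h2a : (2 : ℤ) ∣ (l : ℤ) - m - 2 * s) (h2k : (2 : ℤ) ∣ (k : ℤ) - s) (hs1 : Odd s)
    (N : Subgroup G) (hN : N.index = 2) (hN' : ∀ x, R.t x ∉ N) {g : G}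
    (hodd : Odd (Nat.card ↥(centralizer ({g} : Set G) ⊓ N : Subgroup G)))
    (hP : ∀ u ∈ N, W3 (g * u * g⁻¹ * u⁻¹)) : False := by
  -- an involution of `C(g) ∩ N` is trivial
  have key : ∀ u ∈ N, Commute g u → u * u = 1 → u = 1 := by
    intro u hu hgu huu
    have hmem : u ∈ (centralizer ({g} : Set G) ⊓ N : Subgroup G) :=
      ⟨mem_centralizer_singleton_iff.2 hgu.eq.symm, hu⟩
    have h1 : orderOf (⟨u, hmem⟩ : ↥(centralizer ({g} : Set G) ⊓ N : Subgroup G)) ∣ 2 :=
      orderOf_dvd_of_pow_eq_one (Subtype.ext (by rw [SubgroupClass.coe_pow]; exact (pow_two u).trans huu))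
    have h2 := orderOf_dvd_natCard (⟨u, hmem⟩ : ↥(centralizer ({g} : Set G) ⊓ N : Subgroup G))
    have h3 : orderOf (⟨u, hmem⟩ : ↥(centralizer ({g} : Set G) ⊓ N : Subgroup G)) = 1 := by
      rcases (Nat.dvd_prime Nat.prime_two).1 h1 with h | h
      · exact h
      · exfalso
        rw [h] at h2
        exact (Nat.not_even_iff_odd.2 hodd) (even_iff_two_dvd.2 h2)
    exact congrArg Subtype.val (orderOf_eq_one_iff.1 h3)
  have hNmul : ∀ a b : G, a ∉ N → b ∉ N → a * b ∈ N := by
    intro a b h1 h2
    by_contra h3
    exact h3 ((Subgroup.mul_mem_iff_of_index_two hN).2 ⟨fun h => absurd h h1, fun h => absurd h h2⟩)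
  set F : Set X := {x | g • x = x} with hF
  set M : Set X := {x | Adj R x (g • x)} with hM
  -- no adjacent pairs
  have hM0 : M = ∅ := by
    rw [Set.eq_empty_iff_forall_notMem]
    intro x hx
    have hx' : Adj R x (g • x) := hx
    by_cases hA : ∃ τ : G, τ ∉ N ∧ Commute g τ
    · obtain ⟨τ, hτ, hgτ⟩ := hA
      have h1 := hP (R.t x * τ) (hNmul _ _ (hN' x) hτ)
      have h2 : g * (R.t x * τ) * g⁻¹ * (R.t x * τ)⁻¹ = R.t (g • x) * R.t x := by
        rw [R.map_smul]
        have h3 : τ * g⁻¹ = g⁻¹ * τ := hgτ.symm.inv_right.eq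
        calc g * (R.t x * τ) * g⁻¹ * (R.t x * τ)⁻¹ = g * R.t x * (τ * g⁻¹) * τ⁻¹ * (R.t x)⁻¹ := by group
          _ = g * R.t x * g⁻¹ * (R.t x)⁻¹ := by rw [h3]; group
          _ = g * R.t x * g⁻¹ * R.t x := by rw [R.t_inv]
      rw [h2] at h1
      have h4 : R.t x * R.t (g • x) = R.t (g • x) * R.t x := hx'.2
      have h5 := h1.eq_one (n := 2) (by norm_num) (by
        calc (R.t (g • x) * R.t x) ^ 2 = R.t (g • x) * (R.t x * R.t (g • x)) * R.t x := by rw [pow_two]; group
          _ = (R.t (g • x) * R.t (g • x)) * (R.t x * R.t x) := by rw [h4]; group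
          _ = 1 := by rw [R.sq', R.sq', one_mul])
      rw [mul_eq_one_iff_eq_inv, R.t_inv] at h5
      exact hx'.1 (R.t_inj.1 h5).symm
    · push Not at hA
      have hgo : Odd (orderOf g) := by
        have hle : centralizer ({g} : Set G) ≤ N := by
          intro τ hτ
          by_contra h
          exact hA τ h (Commute.symm (mem_centralizer_singleton_iff.1 hτ))
        rw [inf_eq_left.2 hle] at hodd
        have h1 : g ∈ centralizer ({g} : Set G) := mem_centralizer_singleton_iff.2 rfl
        have h2 := orderOf_dvd_natCard (⟨g, h1⟩ : ↥(centralizer ({g} : Set G)))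
        rw [← Subgroup.orderOf_coe] at h2
        exact hodd.of_dvd_nat h2
      exact no_adj R hgo N (fun y z => hNmul _ _ (hN' y) (hN' z)) hP key x hx'
  obtain ⟨z, hz⟩ := count R hk hl hm hs ha (n := orderOf g) (orderOf_pos g) (pow_orderOf_eq_one g)
  rw [← hF, ← hM, hM0, Set.ncard_empty] at hz
  by_cases hA : F.Nonempty
  · obtain ⟨x0, hx0⟩ := hA
    have hgx : Commute g (R.t x0) := (fix_iff R g x0).1 hx0
    have hsq : R.t x0 * R.t x0 = 1 := R.sq' _
    have a1 : F.ncard ≡ ({x | x ∈ F ∧ R.t x0 • x = x} : Set X).ncard [MOD 2] := by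
      refine modEq_fix F (fun x => R.t x0 • x) (fun x hx => ?_) (fun x _ => ?_)
      · show g • R.t x0 • x = R.t x0 • x
        rw [← mul_smul, hgx.eq, mul_smul, show g • x = x from hx]
      · show R.t x0 • R.t x0 • x = x
        rw [← mul_smul, hsq, one_smul]
    have e1 : ({x | x ∈ F ∧ R.t x0 • x = x} : Set X) = {x0} := by
      ext y
      constructor
      · rintro ⟨hy, hy2⟩
        have hgy : Commute g (R.t y) := (fix_iff R g y).1 hy
        have hc : Commute (R.t x0) (R.t y) := (fix_iff R _ _).1 hy2
        have h1 := key (R.t x0 * R.t y) (hNmul _ _ (hN' _) (hN' _)) (hgx.mul_right hgy) (by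
          calc R.t x0 * R.t y * (R.t x0 * R.t y) = R.t x0 * (R.t y * R.t x0) * R.t y := by group
            _ = (R.t x0 * R.t x0) * (R.t y * R.t y) := by rw [← hc.eq]; group
            _ = 1 := by rw [R.sq', R.sq', one_mul])
        rw [mul_eq_one_iff_eq_inv, R.t_inv] at h1
        exact (R.t_inj.1 h1).symm
      · rintro rfl
        exact ⟨hx0, (fix_iff R _ _).2 (Commute.refl _)⟩
    rw [e1, Set.ncard_singleton] at a1
    have o1 : Odd (F.ncard : ℤ) := by
      have : Odd F.ncard := Nat.odd_iff.2 a1
      exact_mod_cast this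
    have h1 : (2 : ℤ) ∣ s * (F.ncard : ℤ) := by
      have h2 : s * (F.ncard : ℤ) = -(((k : ℤ) - s) + ((l : ℤ) - m - 2 * s) * z) := by
        rw [← hz]; push_cast; ring
      rw [h2]
      exact (dvd_add h2k (h2a.mul_right z)).neg_right
    exact (Int.not_even_iff_odd.2 (hs1.mul o1)) (even_iff_two_dvd.2 h1)
  · rw [Set.not_nonempty_iff_eq_empty] at hA
    apply hd
    rw [hA, Set.ncard_empty] at hz
    refine ⟨-z, ?_⟩
    push_cast at hz
    linarith [hz]

end Cfsg.Agent.H472.FiThree
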