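import Cfsg.Agent.H472.ComStrongB
import Cfsg.Agent.H472.ComFour
import Cfsg.Agent.H472.ComAlt
import Cfsg.Agent.H472.ComSixAsm

/-!
# S4094, S3842: assembly (helper472)

`noMin` : there is no minimal counterexample to S4094, given the classification, the `Z*_p`-theorem and the rows.
-/

set_option autoImplicit false

namespace Cfsg.Agent.H472.ComRed

open Subgroup Cfsg
open Cfsg.Agent.H472.ComAut
open Cfsg.Agent.H705

universe u

/-- the rows for the sporadic groups and the Tits group -/
def RowSpec : Prop := ∀ (H : Type u) [Group H] [Finite H] (S : Subgroup H) (y : H) (p : ℕ), p.Prime → MinCtx p S y →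
  p ∣ orderOf y → (IsSporadicGroup S ∨ Lie.IsoTits S) → False

/-- the rows for the groups of Lie type -/
def RowLieAll : Prop := ∀ (S : Type u) [Group S] [Finite S] [IsSimpleGroup S] (l : ℕ), l.Prime →
  IsLieTypeChar l S → ¬ Group.IsSolvable S → ∀ p : ℕ, p.Prime → Com p S

/-- **No minimal counterexample to S4094.** -/
theorem noMin (hZ : ZStarThm.{u})
    (hK : ∀ (S : Type u) [Group S] [Finite S] [IsSimpleGroup S], IsKnownSimple' S) (hlie : RowLieAll.{u})
    (hspec : RowSpec.{u}) {p : ℕ} [hp : Fact p.Prime] : NoMin.{u} p := by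
  intro H _ _ S y h
  have hsim := h.simple
  have hsp := hspec H S y p hp.out h (h.dvd_orderOf hZ)
  rcases OddHalf.Known.classify' h.nonab (hK S) with h1 | h1 | h1 | h1
  · obtain ⟨n, hn, ⟨e⟩⟩ := h1
    by_cases h6 : n = 6
    · subst h6
      exact h.false_of_com (hlie S 3 Nat.prime_three (alt_six_lie e) (not_isSolvable_of h.nonab) p hp.out)
    · exact h.false_of_com ((ComAlt.com hn h6 hp.out).of_equiv e)
  · obtain ⟨l, hl, hL⟩ := h1
    exact h.false_of_com (hlie S l hl hL (not_isSolvable_of h.nonab) p hp.out)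
  · exact hsp (Or.inr h1)
  · exact hsp (Or.inl h1)

end Cfsg.Agent.H472.ComRed
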