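import Cfsg.Agent.S0000
import Cfsg.Agent.S1311
import Cfsg.Agent.S1938
import Cfsg.Agent.H705.ComAll
import Cfsg.Agent.H472.NoMinAsm

/-!
# The inputs of S4096, S4094 and S3842 (helper472)
-/

set_option autoImplicit false

namespace Cfsg.Agent.H472.Fin

open Cfsg
open Cfsg.Agent.H472.ComRed
open Cfsg.Agent.H705

universe u

theorem ugt : UGT.{u} := fun _ _ _ hs hna t ht hcore => Cfsg.Agent.S1311.result hs hna t ht hcore

theorem known : ∀ (S : Type u) [Group S] [Finite S] [IsSimpleGroup S], IsKnownSimple' S :=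
  fun _ _ _ _ => Cfsg.Agent.S0000.result

theorem zstar : ZStarThm.{u} := fun _ _ _ _ _ T e he hiso => Cfsg.Agent.S1938.result T e he hiso

theorem rowLieAll : RowLieAll.{u} := fun _ _ _ _ l hl hL hns _ hp => by
  have : Fact l.Prime := ⟨hl⟩
  exact Cfsg.Agent.H705.lie hL hns hp

theorem rowLie : RowLie.{u} := fun S _ _ _ l hl hL hns p hp _ => rowLieAll S l hl hL hns p hp

end Cfsg.Agent.H472.Fin
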