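import Cfsg.Agent.H472.ComStrong

/-!
# The Monster at the prime 3: abstract part (helper472)

* `card_le` : two commuting fixed-point-free automorphisms `a`, `b` of order 3 of an elementary abelian 2-group `V`:
  `|V| ≤ |C_V(ab)| |C_V(ab⁻¹)|`;
* `Q3 x` : `x ≠ 1` is central modulo `O_3(D)` in every proper subgroup `D` containing it, commutes with no involution and
  normalizes a Sylow 3-subgroup;
* `Q3.exists_y` : if `x` and the involution `z` normalize `T ∈ Syl_3(G)` and `x` does not centralize `x₀ ∈ Z(T) ∩ C(z)` of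
  order 3, then some `y ∈ N(T) ∩ C(z)` satisfies `x₀^y ≠ x₀, x₀⁻¹`.
-/

set_option autoImplicit false

namespace Cfsg.Agent.H472.MonAbs

open Subgroup Cfsg
open Cfsg.Agent.Lib.Cores
open Cfsg.Agent.H472.ComRed (cm cm_eq' cm_eq_one map_cm exists_conj_commute)

universe u

local instance : Fact (Nat.Prime 3) := ⟨Nat.prime_three⟩

/-! ### Linear algebra -/

section lin

variable {V : Type*} [AddCommGroup V] {A : Type*} [Group A] [DistribMulAction A V]

/-- Two commuting fixed-point-free elements of order 3. -/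
theorem card_le [Finite V] (h2 : ∀ v : V, v + v = 0) {a b : A} (hab : a * b = b * a)
    (ha : ∀ v : V, v + a • v + a • a • v = 0) (hb : ∀ v : V, v + b • v + b • b • v = 0) :
    Nat.card V ≤ Nat.card {v : V // (a * b) • v = v} * Nat.card {v : V // (a * b⁻¹) • v = v} := by
  have hab' : ∀ v : V, a • b • v = b • a • v := fun v => by rw [← mul_smul, hab, mul_smul]
  have key : ∀ u v w : V, u + v + w = 0 → w = u + v := by
    intro u v w h
    have h3 := h2 (u + v)
    have h4 : u + v + (u + v + w) = (u + v) + (u + v) + w := by abel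
    rw [h, h3, add_zero, zero_add] at h4
    exact h4.symm
  have haa : ∀ v : V, a • a • v = v + a • v := fun v => key _ _ _ (ha v)
  have hbb : ∀ v : V, b • b • v = v + b • v := fun v => key _ _ _ (hb v)
  -- the two maps
  have h1 : ∀ v : V, (a * b) • (a • v + b • v) = a • v + b • v := by
    intro v
    rw [mul_smul, smul_add, hbb, smul_add, smul_add, ← hab' v, haa (b • v)]
    have e : b • v + a • b • v + (a • v + a • b • v) = a • v + b • v + (a • b • v + a • b • v) := by abel
    rw [e, h2, add_zero]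
  have h3 : ∀ v : V, (a * b⁻¹) • (a • v + (v + b • v)) = a • v + (v + b • v) := by
    intro v
    have e1 : a • (a • v + (v + b • v)) = b • (a • v + (v + b • v)) := by
      simp only [smul_add]
      rw [haa, hbb, hab' v]
      have e2 : v + a • v + (a • v + b • a • v) = v + b • a • v + (a • v + a • v) := by abel
      have e3 : b • a • v + (b • v + (v + b • v)) = v + b • a • v + (b • v + b • v) := by abel
      rw [e2, e3, h2, h2]
    have e4 : a * b⁻¹ = b⁻¹ * a := by
      rw [eq_inv_mul_iff_mul_eq, ← mul_assoc, ← hab, mul_inv_cancel_right]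
    rw [e4, mul_smul, e1, inv_smul_smul]
  let f : V → {v : V // (a * b) • v = v} × {v : V // (a * b⁻¹) • v = v} := fun v => (⟨_, h1 v⟩, ⟨_, h3 v⟩)
  have hf : Function.Injective f := by
    intro v w h
    have e1 : a • v + b • v = a • w + b • w := congrArg (fun p => (p.1 : V)) h
    have e2 : a • v + (v + b • v) = a • w + (w + b • w) := congrArg (fun p => (p.2 : V)) h
    have e3 : ∀ v : V, v = (a • v + b • v) + (a • v + (v + b • v)) := by
      intro v
      have e4 : (a • v + b • v) + (a • v + (v + b • v)) = v + (a • v + a • v) + (b • v + b • v) := by abel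
      rw [e4, h2, h2, add_zero, add_zero]
    rw [e3 v, e3 w, e1, e2]
  have h4 := Nat.card_le_card_of_injective f hf
  rwa [Nat.card_prod] at h4

/-- an element of order 3 without fixed points -/
theorem sum_zero {s : A} (hs : s ^ 3 = 1) (hf : Nat.card {v : V // s • v = v} = 1) (v : V) :
    v + s • v + s • s • v = 0 := by
  have h1 : s • (v + s • v + s • s • v) = v + s • v + s • s • v := by
    have h2 : s • s • s • v = v := by
      rw [← mul_smul, ← mul_smul, ← pow_three', hs, one_smul]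
    rw [smul_add, smul_add, h2]
    abel
  have h3 : Subsingleton {v : V // s • v = v} := (Nat.card_eq_one_iff_unique.1 hf).1
  have h4 : (⟨_, h1⟩ : {v : V // s • v = v}) = ⟨0, smul_zero s⟩ := Subsingleton.elim _ _
  exact congrArg Subtype.val h4

end lin

/-! ### The property -/

section grp

variable {G : Type u} [Group G]

/-- The elements to be excluded. -/
structure Q3 (x : G) : Prop where
  ne : x ≠ 1
  ind : ∀ D : Subgroup G, x ∈ D → D ≠ ⊤ → ∀ d ∈ D, x⁻¹ * (d * x * d⁻¹) ∈ (pCore 3 D).map D.subtype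
  odd : ∀ v : G, v * v = 1 → v ≠ 1 → v * x ≠ x * v
  nrm : ∃ T : Sylow 3 G, x ∈ normalizer ((T : Subgroup G) : Set G)

/-- Transfer. -/
theorem Q3.map {G' : Type*} [Group G'] (e : G ≃* G') {x : G} (h : Q3 x) : Q3 (e x) where
  ne := fun h1 => h.ne (e.map_eq_one_iff.1 h1)
  odd := fun v hv hv1 hvx => by
    refine h.odd (e.symm v) (by rw [← map_mul, hv, map_one]) (fun h1 => hv1 (e.symm.map_eq_one_iff.1 h1)) ?_
    apply e.injective
    rw [map_mul, map_mul, e.apply_symm_apply, hvx]
  nrm := by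
    obtain ⟨T, hT⟩ := h.nrm
    have h1 : IsPGroup 3 ((T : Subgroup G).map e.toMonoidHom) := T.isPGroup'.map _
    let T' : Sylow 3 G' :=
      { toSubgroup := (T : Subgroup G).map e.toMonoidHom
        isPGroup' := h1
        is_maximal' := by
          intro Q hQ hTQ
          have h2 : (T : Subgroup G) ≤ Q.comap e.toMonoidHom := map_le_iff_le_comap.1 hTQ
          have h3 : IsPGroup 3 (Q.comap e.toMonoidHom) := hQ.comap_of_injective _ e.injective
          have h4 := T.is_maximal' h3 h2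
          rw [← h4]
          exact (map_comap_eq_self_of_surjective e.surjective Q).symm }
    refine ⟨T', ?_⟩
    show e x ∈ normalizer (((T : Subgroup G).map e.toMonoidHom : Subgroup G') : Set G')
    rw [mem_normalizer_iff] at hT ⊢
    intro k
    have h2 : ∀ k : G', k ∈ (T : Subgroup G).map e.toMonoidHom ↔ e.symm k ∈ (T : Subgroup G) := by
      intro k
      rw [mem_map_equiv]
    show k ∈ (T : Subgroup G).map e.toMonoidHom ↔ e x * k * (e x)⁻¹ ∈ (T : Subgroup G).map e.toMonoidHom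
    rw [h2, h2, map_mul, map_mul, map_inv, e.symm_apply_apply]
    exact hT (e.symm k)
  ind := fun D' hx hD' d' hd' => by
    set D : Subgroup G := D'.comap e.toMonoidHom with hD
    have hxD : x ∈ D := hx
    have hDt : D ≠ ⊤ := by
      intro h1
      apply hD'
      rw [eq_top_iff]
      intro k _
      have h2 : e.symm k ∈ D := h1 ▸ mem_top _
      have h3 : e (e.symm k) ∈ D' := h2
      rwa [e.apply_symm_apply] at h3
    have hdD : e.symm d' ∈ D := by
      show e (e.symm d') ∈ D'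
      rwa [e.apply_symm_apply]
    have h1 := h.ind D hxD hDt (e.symm d') hdD
    -- the image of `O_3(D)`
    have h2 : e (x⁻¹ * (e.symm d' * x * (e.symm d')⁻¹)) ∈ ((pCore 3 D).map D.subtype).map e.toMonoidHom :=
      mem_map_of_mem _ h1
    have h3 : e (x⁻¹ * (e.symm d' * x * (e.symm d')⁻¹)) = (e x)⁻¹ * (d' * e x * d'⁻¹) := by
      rw [map_mul, map_inv, map_mul, map_mul, map_inv, e.apply_symm_apply]
    rw [h3] at h2
    set R : Subgroup G' := ((pCore 3 D).map D.subtype).map e.toMonoidHom with hR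
    have hRp : IsPGroup 3 R := ((pCore_isPGroup (G := D) 3).map _).map _
    have hRD : R ≤ D' := by
      rintro _ ⟨r, ⟨s, -, rfl⟩, rfl⟩
      exact s.2
    have hRn : (R.subgroupOf D').Normal := by
      refine ⟨fun r hr k => ?_⟩
      rw [mem_subgroupOf] at hr ⊢
      obtain ⟨_, ⟨s, hs, rfl⟩, hsr⟩ := hr
      have hk : e.symm (k : G') ∈ D := by
        show e (e.symm (k : G')) ∈ D'
        rw [e.apply_symm_apply]
        exact k.2
      have h4 := (pCore_normal (G := D) 3).conj_mem s hs ⟨_, hk⟩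
      refine ⟨_, ⟨_, h4, rfl⟩, ?_⟩
      show e (e.symm (k : G') * s * (e.symm (k : G'))⁻¹) = (k : G') * r * (k : G')⁻¹
      rw [map_mul, map_mul, map_inv, e.apply_symm_apply]
      have h5 : e s = r := hsr
      rw [h5]
    have h5 : R.subgroupOf D' ≤ pCore 3 D' := le_pCore hRn hRp.comap_subtype
    have h6 : (e x)⁻¹ * (d' * e x * d'⁻¹) ∈ D' := hRD h2
    exact ⟨⟨_, h6⟩, h5 (mem_subgroupOf.2 h2), rfl⟩

theorem Q3.conj {x : G} (h : Q3 x) (g : G) : Q3 (g * x * g⁻¹) := h.map (MulAut.conj g)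

variable [Finite G]

theorem Q3.odd_order {x : G} (h : Q3 x) : Odd (orderOf x) := by
  rw [← Nat.not_even_iff_odd]
  intro hev
  refine h.odd (x ^ (orderOf x / 2)) ?_ ?_ ?_
  · rw [← pow_add, ← two_mul, Nat.mul_div_cancel' (even_iff_two_dvd.1 hev), pow_orderOf_eq_one]
  · intro h1
    have h2 := orderOf_dvd_of_pow_eq_one h1
    have h3 : 0 < orderOf x := orderOf_pos x
    have h4 := Nat.le_of_dvd (Nat.div_pos (Nat.le_of_dvd h3 (even_iff_two_dvd.1 hev)) (by norm_num)) h2
    omega
  · exact ((Commute.refl x).pow_left _).eq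

theorem Q3.exists_y {x z x₀ : G} (h : Q3 x) (T : Sylow 3 G) (hxT : x ∈ normalizer ((T : Subgroup G) : Set G))
    (hzT : z ∈ normalizer ((T : Subgroup G) : Set G)) (hB : normalizer ((T : Subgroup G) : Set G) ≠ ⊤)
    (hz : orderOf z = 2) (hx₀T : ∀ t ∈ (T : Subgroup G), t * x₀ = x₀ * t) (hxx₀ : x * x₀ ≠ x₀ * x) :
    ∃ y : G, y * z = z * y ∧ y ∈ normalizer ((T : Subgroup G) : Set G) ∧ y * x₀ * y⁻¹ ≠ x₀ ∧ y * x₀ * y⁻¹ ≠ x₀⁻¹ := by
  classical
  obtain ⟨k, m, hm, hn⟩ := Nat.exists_eq_pow_mul_and_not_dvd (orderOf_pos x).ne' 3 (by norm_num)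
  have hcop : (3 ^ k).Coprime m := Nat.Coprime.pow_left k ((Nat.Prime.coprime_iff_not_dvd Nat.prime_three).2 hm)
  set B := normalizer ((T : Subgroup G) : Set G) with hBdef
  -- the 3-part
  have he : x ^ m ∈ (T : Subgroup G) := by
    have h1 : IsPGroup 3 (zpowers (x ^ m)) := by
      refine IsPGroup.of_card_dvd_pow (n := k) ?_
      rw [Nat.card_zpowers]
      apply orderOf_dvd_of_pow_eq_one
      rw [← pow_mul, mul_comm, ← hn, pow_orderOf_eq_one]
    have h2 := h1.inf_normalizer_sylow T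
    have h3 : x ^ m ∈ zpowers (x ^ m) ⊓ B := ⟨mem_zpowers _, pow_mem hxT m⟩
    have h4 : x ^ m ∈ zpowers (x ^ m) ⊓ (T : Subgroup G) := by
      rw [← h2]
      exact h3
    exact h4.2
  have hy₀ : x ^ 3 ^ k * x₀ ≠ x₀ * x ^ 3 ^ k := by
    intro h1
    apply hxx₀
    have h2 : Commute (x ^ 3 ^ k) x₀ := h1
    have h3 : Commute (x ^ m) x₀ := hx₀T _ he
    have h4 : (1 : ℤ) = (3 ^ k : ℕ) * (3 ^ k : ℕ).gcdA m + m * (3 ^ k : ℕ).gcdB m := by
      rw [← Nat.gcd_eq_gcd_ab, hcop.gcd_eq_one]
      rfl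
    have h5 : x = (x ^ 3 ^ k) ^ ((3 ^ k : ℕ).gcdA m) * (x ^ m) ^ ((3 ^ k : ℕ).gcdB m) := by
      rw [← zpow_natCast, ← zpow_natCast, ← zpow_mul, ← zpow_mul, ← zpow_add, ← h4, zpow_one]
    have h6 : Commute x x₀ := by
      rw [h5]
      exact (h2.zpow_left _).mul_left (h3.zpow_left _)
    exact h6
  -- inside the normalizer
  have hTB : (T : Subgroup G) ≤ B := le_normalizer
  set P : Subgroup B := (T : Subgroup G).subgroupOf B with hP
  have hPn : P.Normal := by
    rw [hP]
    exact Subgroup.normal_in_normalizer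
  have hPp : IsPGroup 3 P := T.isPGroup'.comap_subtype
  have hcen : ∀ d : B, cm (⟨x, hxT⟩ : B) d ∈ P := by
    intro d
    have h1 := h.ind B hxT hB (d : G)⁻¹ (inv_mem d.2)
    obtain ⟨r, hr, hre⟩ := h1
    have h2 : r ∈ (T.subtype hTB : Subgroup B) := pCore_le_sylow (T.subtype hTB) hr
    rw [Sylow.coe_subtype] at h2
    have h3 : r = cm (⟨x, hxT⟩ : B) d := by
      apply Subtype.ext
      have h4 : (r : G) = x⁻¹ * ((d : G)⁻¹ * x * (d : G)⁻¹⁻¹) := hre
      rw [h4, inv_inv, cm_eq']
      rfl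
    rw [← h3]
    exact h2
  set y₀ : B := (⟨x, hxT⟩ : B) ^ 3 ^ k with hy₀def
  have hy₀c : (y₀ : G) = x ^ 3 ^ k := rfl
  set z' : B := ⟨z, hzT⟩ with hz'
  have hyz : cm y₀ z' ∈ P := by
    have h1 : QuotientGroup.mk' P (cm y₀ z') = 1 := by
      rw [map_cm, cm_eq_one, hy₀def, map_pow]
      have h2 : Commute (QuotientGroup.mk' P (⟨x, hxT⟩ : B)) (QuotientGroup.mk' P z') := by
        have h3 : QuotientGroup.mk' P (cm (⟨x, hxT⟩ : B) z') = 1 := (QuotientGroup.eq_one_iff _).2 (hcen z')
        rw [map_cm, cm_eq_one] at h3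
        exact h3
      exact h2.pow_left _
    exact (QuotientGroup.eq_one_iff _).1 h1
  obtain ⟨a, ha, hcomm⟩ := exists_conj_commute (B := B) (P := P) hPp (x := y₀) (v := z') (by
      rw [← Subgroup.orderOf_coe, hy₀c, orderOf_pow_of_dvd (pow_ne_zero _ (by norm_num)) (by rw [hn]; exact dvd_mul_right _ _),
        hn, Nat.mul_div_cancel_left _ (by positivity)]
      exact ((Nat.Prime.coprime_iff_not_dvd Nat.prime_three).2 hm).symm) (by
      rw [← Subgroup.orderOf_coe, hz', hz]
      norm_num) hyz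
  have haT : (a : G) ∈ (T : Subgroup G) := mem_subgroupOf.1 ha
  have hax : Commute (a : G) x₀ := hx₀T _ haT
  set y : G := (a : G) * x ^ 3 ^ k * (a : G)⁻¹ with hy
  have hyne : ¬ Commute y x₀ := by
    intro h1
    apply hy₀
    have h2 : x ^ 3 ^ k = (a : G)⁻¹ * y * a := by rw [hy]; group
    rw [h2]
    exact ((hax.inv_left.mul_left h1).mul_left hax)
  refine ⟨y, congrArg Subtype.val hcomm, ?_, ?_, ?_⟩
  · exact mul_mem (mul_mem a.2 (pow_mem hxT _)) (inv_mem a.2)
  · intro h1
    exact hyne (mul_inv_eq_iff_eq_mul.1 h1)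
  · intro h1
    -- `y ^ 2` commutes with `x₀`
    have h2 : Commute (y * y) x₀ := by
      have h3 : y * x₀ = x₀⁻¹ * y := mul_inv_eq_iff_eq_mul.1 h1
      have h4 : y * x₀⁻¹ = x₀ * y := by
        have h5 : y * x₀⁻¹ * y⁻¹ = x₀ := by
          have h6 : (y * x₀ * y⁻¹)⁻¹ = y * x₀⁻¹ * y⁻¹ := by group
          rw [← h6, h1, inv_inv]
        exact mul_inv_eq_iff_eq_mul.1 h5
      show y * y * x₀ = x₀ * (y * y)
      rw [mul_assoc, h3, ← mul_assoc, h4, mul_assoc]
    obtain ⟨j, hj⟩ := h.odd_order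
    have h3 : y ^ (2 * j + 1) = 1 := by
      rw [← hj, hy, conj_pow, ← pow_mul, mul_comm, pow_mul, pow_orderOf_eq_one, one_pow, mul_one, mul_inv_cancel]
    apply hyne
    have h4 : y = (y * y) ^ (j + 1) := by
      rw [← pow_two, ← pow_mul, show 2 * (j + 1) = (2 * j + 1) + 1 by ring, pow_succ, h3, one_mul]
    rw [h4]
    exact h2.pow_left _

end grp

end Cfsg.Agent.H472.MonAbs
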