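import Cfsg.Agent.H472.MonOrb
import Cfsg.Agent.H472.MonAbs
import Cfsg.Agent.H345.IRowM
import Cfsg.Agent.SporadicStructure.OddProducts

/-!
# The Monster at the prime 3: no elements with the property `Q3` (helper472)

`x₀` of order 3 and fixed rank 0 in the centre of the Sylow 3-subgroup `T`, normalized by `z` and `x`.
* `x ∈ C(x₀)` : `MonOrb.exists_inv`.
* otherwise `MonAbs.Q3.exists_y` : `x₀` and `x₀^y` are in `Z(T) ∩ C(z)` and of fixed rank 0, so
  `Λ/2Λ = C(x₀ x₀^y) + C(x₀ (x₀^y)⁻¹)`, but elements of order 3 of `Z(T)` have fixed rank at most 6.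
-/

set_option autoImplicit false

namespace Cfsg.Agent.H472.MonMix

open Subgroup Cfsg
open Cfsg.Agent.MonsterU Cfsg.Agent.LThree Cfsg.Agent.LThreeMB
open Cfsg.Agent.MonsterU.Ch
open Cfsg.Agent.MonsterU.Lam2 (L2 IsType card_L2 add_self)
open Cfsg.Agent.MonsterX.KSide Cfsg.Agent.MonsterX.KLift
open Cfsg.Spor (Co1)
open Cfsg.Agent.H411.MThree (card_cent iso_of_rank)
open Cfsg.Agent.H472.MonAbs

universe u

local instance : Fact (Nat.Prime 3) := ⟨Nat.prime_three⟩

section chart

variable {G : Type u} [Group G] [Finite G] {Q : Subgroup G} {z : G} {eta : G → L2}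
  {pi : Subgroup.centralizer ({z} : Set G) →* Co1}

/-- Elements of order 3 whose centralizer has order divisible by `3²⁰` have fixed rank at most 6. -/
theorem rank_le [IsSimpleGroup G] (h : Chart Q z eta pi) (I : CoOne) {w : Subgroup.centralizer ({z} : Set G)}
    (hw : orderOf w = 3) (hcard : 3 ^ 20 ∣ Nat.card ↥(centralizer ({(w : G)} : Set G))) : fr (pi w) ≤ 2 ^ 6 := by
  have hwo : orderOf (w : G) = 3 := by rw [Subgroup.orderOf_coe]; exact hw
  rcases I.ranks (pi w) (orderOf_pi h hw) with h1 | h1 | h1 | h1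
  · rw [h1]; norm_num
  · rw [h1]
  · exfalso
    obtain ⟨e⟩ := (iso_of_rank h I hw).1 h1
    have h2 := card_cent hwo ((Nat.card_congr e.toEquiv).trans Cfsg.Agent.S1700.result.2)
    rw [h2] at hcard
    revert hcard
    norm_num
  · exfalso
    obtain ⟨e⟩ := (iso_of_rank h I hw).2 h1
    have h2 := card_cent hwo ((Nat.card_congr e.toEquiv).trans Cfsg.Agent.S1698.result.2)
    rw [h2] at hcard
    revert hcard
    norm_num

/-- **Two elements of fixed rank 0 in the centre of a Sylow 3-subgroup.** -/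
theorem false_of_two [IsSimpleGroup G] (h : Chart Q z eta pi) (I : CoOne) (hcard : 3 ^ 20 ∣ Nat.card G) (T : Sylow 3 G)
    {a b : Subgroup.centralizer ({z} : Set G)} (ha : orderOf a = 3) (hb : orderOf b = 3) (hfa : fr (pi a) = 1)
    (hfb : fr (pi b) = 1) (haT : ∀ t ∈ (T : Subgroup G), t * (a : G) = a * t)
    (hbT : ∀ t ∈ (T : Subgroup G), t * (b : G) = b * t) (hab : a * b = b * a) (h1 : a * b ≠ 1) (h2 : a * b⁻¹ ≠ 1) :
    False := by
  have hfin : Finite L2 := Nat.finite_of_card_ne_zero (by rw [card_L2]; norm_num)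
  have ha3 : a ^ 3 = 1 := by rw [← ha, pow_orderOf_eq_one]
  have hb3 : b ^ 3 = 1 := by rw [← hb, pow_orderOf_eq_one]
  have hc : Commute a b := hab
  have hTc : 3 ^ 20 ∣ Nat.card (T : Subgroup G) := by
    rw [T.card_eq_multiplicity]
    apply pow_dvd_pow
    exact (Nat.Prime.pow_dvd_iff_le_factorization Nat.prime_three Nat.card_pos.ne').1 hcard
  have key : ∀ w : Subgroup.centralizer ({z} : Set G), w ^ 3 = 1 → w ≠ 1 →
      (∀ t ∈ (T : Subgroup G), t * (w : G) = w * t) → fr (pi w) ≤ 2 ^ 6 := by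
    intro w hw hw1 hwT
    refine rank_le h I (orderOf_eq_prime hw hw1) (hTc.trans (card_dvd_of_le ?_))
    intro t ht
    exact mem_centralizer_singleton_iff.2 (hwT t ht)
  have k1 := key (a * b) (by rw [hc.mul_pow, ha3, hb3, one_mul]) h1 (fun t ht => by
    rw [coe_mul, ← mul_assoc, haT t ht, mul_assoc, hbT t ht, mul_assoc])
  have k2 := key (a * b⁻¹) (by rw [hc.inv_right.mul_pow, ha3, inv_pow, hb3, inv_one, one_mul]) h2 (fun t ht => by
    have h3 : Commute t (b : G) := hbT t ht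
    have h4 : Commute t (a : G) := haT t ht
    rw [coe_mul, coe_inv]
    exact (h4.mul_right h3.inv_right).eq)
  have h3 := card_le (V := L2) (a := pi a) (b := pi b) add_self (by rw [← map_mul, ← map_mul, hab])
    (sum_zero (by rw [← map_pow, ha3, map_one]) hfa) (sum_zero (by rw [← map_pow, hb3, map_one]) hfb)
  have h4 : Nat.card {v : L2 // (pi a * pi b) • v = v} ≤ 2 ^ 6 := by
    have h5 : Nat.card {v : L2 // (pi a * pi b) • v = v} = fr (pi (a * b)) := by rw [map_mul]; rfl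
    rw [h5]
    exact k1
  have h5 : Nat.card {v : L2 // (pi a * (pi b)⁻¹) • v = v} ≤ 2 ^ 6 := by
    have h6 : Nat.card {v : L2 // (pi a * (pi b)⁻¹) • v = v} = fr (pi (a * b⁻¹)) := by rw [map_mul, map_inv]; rfl
    rw [h6]
    exact k2
  rw [card_L2] at h3
  have h6 := h3.trans (Nat.mul_le_mul h4 h5)
  norm_num at h6

end chart

section lift

variable {G : Type u} {V P W : Type*} [Group G] [AddCommGroup V] [Module ℚ V]
  [DistribMulAction G V] [SMulCommClass G ℚ V] [Group P] [AddCommGroup W] [Module ℚ W]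
  {M : KS G V P W} {θ : leechLattice → P}

/-- **No element of the Monster has the property `Q3`.** -/
theorem false_of_lift [Finite G] [IsSimpleGroup G] (hna : center G = ⊥) (L : Lift M θ) (hc : KChart.Cent M) (I : CoOne)
    (h0 : ClassOf 1) (ht : TrNe M.z (KChart.pi hc)) (hpair : HasPair M.z (KChart.pi hc))
    (hex : ∀ x : G, orderOf x = 3 → (∃ v : G, v * v = 1 ∧ v ≠ 1 ∧ v * x = x * v) →
      ∃ g : G, (g * M.z * g⁻¹) * x = x * (g * M.z * g⁻¹))
    (hcard : 3 ^ 20 ∣ Nat.card G) (hcard' : ¬ 3 ^ 21 ∣ Nat.card G) {x : G} (hq : Q3 x) : False := by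
  have h := KChart.chart L hc
  obtain ⟨x₀, hx₀, hfr₀, hidx⟩ := Cfsg.Agent.H345.IRowM.exists_x₀ h I h0 ht hpair hex hcard
  have hx₀o : orderOf (x₀ : G) = 3 := by rw [Subgroup.orderOf_coe]; exact hx₀
  have hDat := Cfsg.Agent.BpSpor.MThree.dat_zero L hc ht hx₀ hfr₀ (I.suz _ (orderOf_pi h hx₀) hfr₀)
  have hne : centralizer ({(x₀ : G)} : Set G) ≠ ⊤ := by
    intro h1
    have h2 : (x₀ : G) ∈ center G := by
      rw [mem_center_iff]
      intro y
      exact mem_centralizer_singleton_iff.1 (h1 ▸ mem_top y)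
    rw [hna, mem_bot] at h2
    rw [h2, orderOf_one] at hx₀o
    norm_num at hx₀o
  set D := centralizer ({(x₀ : G)} : Set G) with hDdef
  have hz2 : orderOf M.z = 2 := LargeExtra.Base.orderOf_z h.large
  have hzx₀ : M.z * (x₀ : G) = x₀ * M.z := (mem_centralizer_singleton_iff.1 x₀.2).symm
  have hzD : M.z ∈ D := mem_centralizer_singleton_iff.2 hzx₀
  -- a Sylow 3-subgroup of `D` normalized by `z`
  have hiso : IsIsolatedInvolution (⟨M.z, hzD⟩ : D) := by
    refine ⟨by rw [Subgroup.orderOf_mk]; exact hz2, fun d hd => ?_⟩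
    apply Subtype.ext
    refine isolated h ht hx₀ hfr₀ (d : G) (mem_centralizer_singleton_iff.1 d.2) ?_
    exact (congrArg Subtype.val hd).symm
  obtain ⟨S, hS⟩ := Cfsg.Agent.SporadicStructure.OddProducts.exists_invariant_sylow hiso 3
  have hSp : IsPGroup 3 ↥((S : Subgroup D).map D.subtype) := S.isPGroup'.map _
  have hci : ¬ 3 ∣ ((S : Subgroup D).map D.subtype).index := by
    rw [← relIndex_mul_index (map_subtype_le (S : Subgroup D)), Nat.prime_three.dvd_mul, not_or]
    refine ⟨?_, hidx⟩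
    have h1 : ((S : Subgroup D).map D.subtype).relIndex D = (S : Subgroup D).index := by
      rw [relIndex, subgroupOf, comap_map_eq_self_of_injective D.subtype_injective]
    rw [h1]
    exact S.not_dvd_index
  let T : Sylow 3 G := hSp.toSylow hci
  have hTeq : (T : Subgroup G) = (S : Subgroup D).map D.subtype := rfl
  have hTD : (T : Subgroup G) ≤ D := map_subtype_le (S : Subgroup D)
  have hx₀T : ∀ t ∈ (T : Subgroup G), t * (x₀ : G) = x₀ * t := fun t ht =>
    mem_centralizer_singleton_iff.1 (hTD ht)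
  have hzT : M.z ∈ normalizer ((T : Subgroup G) : Set G) := by
    have h1 : ∀ v ∈ (T : Subgroup G), M.z * v * M.z⁻¹ ∈ (T : Subgroup G) := by
      rintro _ ⟨v, hv, rfl⟩
      exact ⟨_, (mem_normalizer_iff.1 hS v).1 hv, rfl⟩
    rw [mem_normalizer_iff]
    intro v
    refine ⟨h1 v, fun hv => ?_⟩
    have h2 := h1 _ hv
    have h3 : M.z * (M.z * v * M.z⁻¹) * M.z⁻¹ = v := by
      have h4 : M.z * M.z = 1 := h.large.z_sq
      calc M.z * (M.z * v * M.z⁻¹) * M.z⁻¹ = (M.z * M.z) * v * (M.z * M.z)⁻¹ := by group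
        _ = v := by rw [h4]; group
    rwa [h3] at h2
  -- `x₀ ∈ T`
  have hx₀mem : (x₀ : G) ∈ (T : Subgroup G) := by
    have h1 : IsPGroup 3 (zpowers (x₀ : G)) := IsPGroup.of_card (n := 1) (by rw [Nat.card_zpowers, hx₀o, pow_one])
    have h2 := h1.inf_normalizer_sylow T
    have h3 : (x₀ : G) ∈ zpowers (x₀ : G) ⊓ (T : Subgroup G) := by
      rw [← h2]
      have h4 : (x₀ : G) ∈ centralizer ((T : Subgroup G) : Set G) := mem_centralizer_iff.2 fun t ht => hx₀T t ht
      exact ⟨mem_zpowers _, centralizer_le_normalizer _ h4⟩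
    exact h3.2
  -- a conjugate of `x` normalizes `T`
  obtain ⟨T', hT'⟩ := hq.nrm
  obtain ⟨g, hg⟩ := MulAction.exists_smul_eq G T' T
  set x' := g * x * g⁻¹ with hx'
  have hq' : Q3 x' := hq.conj g
  have hxT : x' ∈ normalizer ((T : Subgroup G) : Set G) := by
    rw [← hg, Sylow.coe_subgroup_smul, mem_normalizer_iff]
    intro k
    rw [mem_pointwise_smul_iff_inv_smul_mem, mem_pointwise_smul_iff_inv_smul_mem]
    have h1 : ∀ k : G, (MulAut.conj g)⁻¹ • k = g⁻¹ * k * g := fun k => by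
      rw [← map_inv, MulAut.smul_def, MulAut.conj_apply, inv_inv]
    rw [h1, h1]
    have h2 : g⁻¹ * (x' * k * x'⁻¹) * g = x * (g⁻¹ * k * g) * x⁻¹ := by
      rw [hx']; group
    rw [h2]
    exact mem_normalizer_iff.1 hT' _
  by_cases hxD : x' * (x₀ : G) = x₀ * x'
  · -- `x' ∈ D`
    have hx'D : x' ∈ D := mem_centralizer_singleton_iff.2 hxD
    obtain ⟨s, hs2, hs1, hsy⟩ := MonOrb.exists_inv hDat (Cfsg.Agent.BpSpor.BThree.not_nine h hx₀ hfr₀)
      (fun h1 => hcard' (h1.trans (card_subgroup_dvd_card _)))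
      (x₀ := (⟨(x₀ : G), mem_centralizer_singleton_iff.2 rfl⟩ : ↥(centralizer ({(x₀ : G)} : Set G))))
      (by rw [Subgroup.orderOf_mk]; exact hx₀o)
      (fun d => Subtype.ext (mem_centralizer_singleton_iff.1 d.2))
      (y := ⟨x', hx'D⟩) (P := pCore 3 D) (hPn := Cfsg.Agent.Lib.Cores.pCore_normal 3)
      (Cfsg.Agent.Lib.Cores.pCore_isPGroup 3) (fun d => by
        obtain ⟨r, hr, hre⟩ := hq'.ind D hx'D hne (d : G) d.2
        have h1 : r = (⟨x', hx'D⟩ : D)⁻¹ * (d * ⟨x', hx'D⟩ * d⁻¹) := Subtype.ext hre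
        rw [← h1]
        exact hr)
    exact hq'.odd s (congrArg Subtype.val hs2) (fun h1 => hs1 (Subtype.ext h1)) (congrArg Subtype.val hsy)
  · -- mixed
    have hB : normalizer ((T : Subgroup G) : Set G) ≠ ⊤ := by
      intro h1
      have hTn : (T : Subgroup G).Normal := normalizer_eq_top_iff.1 h1
      rcases hTn.eq_bot_or_eq_top with h2 | h2
      · rw [h2, mem_bot] at hx₀mem
        rw [hx₀mem, orderOf_one] at hx₀o
        norm_num at hx₀o
      · have h3 : M.z ∈ (T : Subgroup G) := by rw [h2]; trivial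
        obtain ⟨k, hk⟩ := T.isPGroup' ⟨M.z, h3⟩
        have h4 : M.z ^ 3 ^ k = 1 := congrArg Subtype.val hk
        have h5 := orderOf_dvd_of_pow_eq_one h4
        rw [hz2] at h5
        have h6 := Nat.prime_two.dvd_of_dvd_pow h5
        norm_num at h6
    obtain ⟨y, hyz, hyT, hy1, hy2⟩ := hq'.exists_y T hxT hzT hB hz2 hx₀T hxD
    let c : centralizer ({M.z} : Set G) := ⟨y, mem_centralizer_singleton_iff.2 hyz⟩
    have hbT : ∀ t ∈ (T : Subgroup G), t * ((c * x₀ * c⁻¹ : centralizer ({M.z} : Set G)) : G) =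
        ((c * x₀ * c⁻¹ : centralizer ({M.z} : Set G)) : G) * t := by
      intro t ht
      show t * (y * x₀ * y⁻¹) = y * x₀ * y⁻¹ * t
      have h1 : y⁻¹ * t * y ∈ (T : Subgroup G) := (mem_normalizer_iff''.1 hyT t).1 ht
      have h2 := hx₀T _ h1
      calc t * (y * x₀ * y⁻¹) = y * ((y⁻¹ * t * y) * x₀) * y⁻¹ := by group
        _ = y * (x₀ * (y⁻¹ * t * y)) * y⁻¹ := by rw [h2]
        _ = y * x₀ * y⁻¹ * t := by group
    have hcomm : x₀ * (c * x₀ * c⁻¹) = (c * x₀ * c⁻¹) * x₀ := Subtype.ext (hbT _ hx₀mem)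
    refine false_of_two h I hcard T hx₀ (b := c * x₀ * c⁻¹) ?_ hfr₀ ?_ hx₀T hbT hcomm ?_ ?_
    · rw [← hx₀]
      exact orderOf_injective (MulAut.conj c).toMonoidHom (MulAut.conj c).injective x₀
    · rw [map_mul, map_mul, map_inv, fr_conj]
      exact hfr₀
    · intro h1
      apply hy2
      have h2 : (x₀ : G) * (y * x₀ * y⁻¹) = 1 := congrArg Subtype.val h1
      exact (inv_eq_of_mul_eq_one_right h2).symm
    · intro h1
      apply hy1
      have h2 : (x₀ : G) * (y * x₀ * y⁻¹)⁻¹ = 1 := congrArg Subtype.val h1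
      exact (mul_inv_eq_one.1 h2).symm

end lift

/-! ### The model -/

open Cfsg.Agent.MonsterX Cfsg.Agent.MonsterX.InstData Cfsg.Agent.MonsterX.MainPack
open Cfsg.Agent.MonsterP Cfsg.Agent.MonsterN
open Cfsg.Agent.MonsterX.MainBasic Cfsg.Agent.MonsterX.MainSimple Cfsg.Agent.MonsterX.Model

theorem not_model {x : ↥InstData.M.G} (hx : Q3 x) : False := by
  have := Row.finite_model
  have := Row.simple_model
  obtain ⟨A, B, F⟩ := LThreeM.SigRow.facts_model
  refine false_of_lift ?_ KDone.lft Row.cent CoOneFin.coOne LThreeCo1.Ranks.zero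
    (KPair.trNe KDone.lft Row.cent (LThreeMBTr.traceNe KDone.lft LThreeMBTr.TensK.tens))
    (KPair.hasPair KDone.lft Row.cent Row.second COct.octPair) ?_ ?_ ?_ hx
  · exact Cfsg.Agent.H345.IRowM.center_eq_bot (by rw [F.card]; norm_num)
  · rintro x hx ⟨v, hv, hv1, hc⟩
    exact LThreeM.FiRow.exists_z_of_comm (by rw [← hx, pow_orderOf_eq_one]) hv hv1 hc.symm
  · rw [F.card]
    norm_num
  · rw [F.card]
    norm_num

/-- **No element of the Monster has the property `Q3`.** -/
theorem not_q3 {x : Spor.Monster} (hx : Q3 x) : False := by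
  obtain ⟨f⟩ := Cfsg.Agent.MonsterP.Equiv.equiv
  exact not_model (hx.map f)

end Cfsg.Agent.H472.MonMix
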