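import Cfsg.Agent.H345.MOrb

/-!
# Isolated involutions with quotient `Suz`: elements central modulo a normal 3-subgroup (helper472, after H345.MOrb)

`exists_inv` : `D` with the data `Dat φ` (`C_D(z) → Suz`, central kernel of order 6), `x₀` of order 3 in the centre,
`3 ^ 21 ∤ |D|`: an element `y` which is central modulo a normal 3-subgroup commutes with an involution.
-/

set_option autoImplicit false

namespace Cfsg.Agent.H472.MonOrb

open Subgroup Cfsg
open Cfsg.Agent.LThreeBX.Abs (Ker zA)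
open Cfsg.Agent.BpSpor.MThree (Dat exists_hom core_le_ker ker_solvable)
open Cfsg.Agent.H345 Cfsg.Agent.H345.MOrb

universe u v

variable {D : Type u} [Group D] [Finite D] {z : D} {X : Type v} [Group X] {φ : ↥(centralizer ({z} : Set D)) →* X}

/-- **Elements which are central modulo a normal 3-subgroup commute with an involution.** -/
theorem exists_inv (h : Dat φ) (h9 : ¬ 9 ∣ Nat.card ↥φ.ker) (hD : ¬ 3 ^ 21 ∣ Nat.card D) {x₀ : D}
    (hx₀ : orderOf x₀ = 3) (hc : ∀ d, d * x₀ = x₀ * d) {y : D} {P : Subgroup D} [hPn : P.Normal] (hP : IsPGroup 3 P)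
    (hyP : ∀ d : D, y⁻¹ * (d * y * d⁻¹) ∈ P) :
    ∃ s : D, s * s = 1 ∧ s ≠ 1 ∧ s * y = y * s := by
  classical
  obtain ⟨e⟩ := h.suz
  have hX : IsSimpleGroup X := h.simple
  have hXc : Nat.card X = 448345497600 := h.card
  have hXf : Finite X := Finite.of_surjective φ h.surj
  have h2F : Fact (Nat.Prime 2) := ⟨Nat.prime_two⟩
  have h3F : Fact (Nat.Prime 3) := ⟨Nat.prime_three⟩
  have hyr : y ∈ solvableRadical D := by
    have hPr : P ≤ solvableRadical D := by
      have hPs : Group.IsSolvable P := by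
        have := hP.isNilpotent
        infer_instance
      exact Cfsg.Agent.H459.Rad.le_rad hPn hPs
    apply Cfsg.Agent.H459.Rad.mem_rad_of_commutator
    intro g
    apply hPr
    have h1 := hyP g⁻¹
    have h2 := hPn.conj_mem _ (P.inv_mem h1) y
    have e : y * (y⁻¹ * (g⁻¹ * y * g⁻¹⁻¹))⁻¹ * y⁻¹ = y * (g⁻¹ * y⁻¹ * g) := by group
    rw [e] at h2
    have h3 := hPn.conj_mem _ (P.inv_mem h2) 1
    have e' : g⁻¹ * (y * g * y⁻¹) = 1 * (y * (g⁻¹ * y⁻¹ * g))⁻¹ * 1⁻¹ := by group
    rw [e']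
    exact h3
  -- elements of even order
  rcases Nat.even_or_odd (orderOf y) with hyev | hyodd
  · refine ⟨y ^ (orderOf y / 2), ?_, ?_, ?_⟩
    · rw [← pow_add, ← two_mul, Nat.mul_div_cancel' (even_iff_two_dvd.1 hyev), pow_orderOf_eq_one]
    · intro h1
      have h2 := orderOf_dvd_of_pow_eq_one h1
      have h3 : 0 < orderOf y := orderOf_pos y
      have h4 := Nat.le_of_dvd (Nat.div_pos (Nat.le_of_dvd h3 (even_iff_two_dvd.1 hyev)) (by norm_num)) h2
      omega
    · exact ((Commute.refl y).pow_left _).eq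
  have hz2 : z * z = 1 := h.z2
  have hz1 : z ≠ 1 := by
    intro h1
    have h2 := h.ord
    rw [h1, orderOf_one] at h2
    exact absurd h2 (by norm_num)
  obtain ⟨N, F, hN, hNo, hsup, hNF, hFφ, hFs, hFk⟩ := exists_hom
    (fun K _ _ hK => Cfsg.Agent.S0205.result hK) h.ord h.iso hX (by rw [hXc]; decide) φ h.surj (ker_solvable h.ker)
  have hx3 : x₀ ^ 3 = 1 := by rw [← hx₀, pow_orderOf_eq_one]
  -- `F y = 1`
  have hFy : F y = 1 := by
    have h1 := Cfsg.Agent.H459.Rad.map_rad_le hFs hyr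
    rw [Cfsg.Agent.H459.Rad.rad_eq_bot_of_simple (not_solvable h), mem_bot] at h1
    exact h1
  -- odd elements of `C_D(z)` in `N`
  have hNC : ∀ n ∈ N, n * z = z * n → n ∈ zpowers x₀ := by
    intro n hn hnz
    have h1 : φ ⟨n, mem_centralizer_singleton_iff.2 hnz⟩ = 1 := by
      rw [← hFφ]; exact hNF hn
    have h2 : Odd (orderOf (⟨n, mem_centralizer_singleton_iff.2 hnz⟩ : ↥(centralizer ({z} : Set D)))) := by
      rw [Subgroup.orderOf_mk]
      exact hNo.of_dvd_nat (Subgroup.orderOf_dvd_natCard N hn)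
    exact mem_zpowers_of_ker h h9 hx₀ hc h1 (cube_of_odd h h1 h2)
  -- the quotient by `⟨x₀⟩`
  have hZn : (zpowers x₀).Normal := ⟨fun k hk g => by
    obtain ⟨i, rfl⟩ := hk
    have h1 : g * x₀ ^ i * g⁻¹ = x₀ ^ i := by
      have h2 : Commute g x₀ := hc g
      rw [(h2.zpow_right i).eq, mul_inv_cancel_right]
    show g * x₀ ^ i * g⁻¹ ∈ _
    rw [h1]
    exact zpow_mem (mem_zpowers x₀) i⟩
  let q : D →* D ⧸ zpowers x₀ := QuotientGroup.mk' (zpowers x₀)
  have hq : Function.Surjective q := QuotientGroup.mk'_surjective _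
  have hq1 : ∀ d : D, q d = 1 ↔ d ∈ zpowers x₀ := fun d => QuotientGroup.eq_one_iff d
  have hfq : Finite (D ⧸ zpowers x₀) := Quotient.finite _
  have hcardq : Nat.card (D ⧸ zpowers x₀) * 3 = Nat.card D := by
    have h1 := card_eq_card_quotient_mul_card_subgroup (zpowers x₀)
    rw [Nat.card_zpowers, hx₀] at h1
    exact h1.symm
  have hxz : ∀ i : ℤ, (x₀ ^ i) ^ 3 = 1 := by
    intro i
    rw [← zpow_natCast, ← zpow_mul, mul_comm, zpow_mul, zpow_natCast, hx3, one_zpow]
  have hx6 : ∀ i : ℤ, x₀ ^ i * x₀ ^ i = 1 → x₀ ^ i = 1 := by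
    intro i hi
    have h1 := hxz i
    rw [pow_succ, pow_two, hi, one_mul] at h1
    exact h1
  have hxc : ∀ (i : ℤ) (d : D), d * x₀ ^ i = x₀ ^ i * d := fun i d => ((show Commute d x₀ from hc d).zpow_right i).eq
  -- an involution commuting modulo `⟨x₀⟩` commutes
  have hlift : ∀ s : D, s * s = 1 → ∀ d : D, q s * q d = q d * q s → s * d = d * s := by
    intro s hs d hsd
    have hsi : s⁻¹ = s := inv_eq_of_mul_eq_one_left hs
    have h1 : q (s * d * s⁻¹ * d⁻¹) = 1 := by
      rw [map_mul, map_mul, map_mul, map_inv, map_inv, hsd]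
      group
    obtain ⟨i, hi⟩ := (hq1 _).1 h1
    have hi' : s * d * s⁻¹ = x₀ ^ i * d := by
      have : x₀ ^ i = s * d * s⁻¹ * d⁻¹ := hi
      rw [this]; group
    have h2 : d = x₀ ^ i * x₀ ^ i * d := by
      calc d = (s * s) * d * (s * s)⁻¹ := by rw [hs]; group
        _ = s * (s * d * s⁻¹) * s⁻¹ := by group
        _ = s * (x₀ ^ i * d) * s⁻¹ := by rw [hi']
        _ = (s * x₀ ^ i) * d * s⁻¹ := by group
        _ = x₀ ^ i * (s * d * s⁻¹) := by rw [hxc]; group
        _ = x₀ ^ i * x₀ ^ i * d := by rw [hi', mul_assoc]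
    have h3 : x₀ ^ i * x₀ ^ i = 1 := mul_eq_right.1 h2.symm
    rw [hx6 i h3, one_mul] at hi'
    exact mul_inv_eq_iff_eq_mul.1 hi'
  -- the image of `N`
  set Nb := N.map q with hNb
  have hNbn : Nb.Normal := hN.map q hq
  have hNbo : Odd (Nat.card ↥Nb) := hNo.of_dvd_nat (card_map_dvd N q)
  have hinv : (∀ v ∈ Nb, q z * v * (q z)⁻¹ = v⁻¹) ∧ Odd (Nat.card Nb) := by
    refine HNType.Simple.inv_of_cent (fun v hv => hNbn.conj_mem v hv (q z)) (by rw [← map_mul, hz2, map_one]) ?_
    rintro _ ⟨n, hn, rfl⟩ hv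
    rw [hq1]
    exact hNC n hn (hlift z hz2 n hv).symm
  have hNbc : ∀ a ∈ Nb, ∀ b ∈ Nb, a * b = b * a := by
    intro a ha b hb
    have h1 := hinv.1 (a * b) (mul_mem ha hb)
    have h2 : q z * (a * b) * (q z)⁻¹ = (q z * a * (q z)⁻¹) * (q z * b * (q z)⁻¹) := by group
    rw [h2, hinv.1 a ha, hinv.1 b hb, mul_inv_rev] at h1
    have h3 := congrArg (fun g => g⁻¹) h1
    simp only [mul_inv_rev, inv_inv] at h3
    exact h3.symm
  -- `q y ∈ Nb`
  have hyNb : q y ∈ Nb := by
    have h1 : y ∈ N ⊔ centralizer ({z} : Set D) := by rw [hsup]; trivial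
    obtain ⟨n, hn, c, hcC, rfl⟩ := mem_sup_of_normal_left.1 h1
    have h2 : φ ⟨c, hcC⟩ = 1 := by
      rw [← hFφ]
      have h3 : F (n * c) = F c := by rw [map_mul, MonoidHom.mem_ker.1 (hNF hn), one_mul]
      rw [h3] at hFy
      exact hFy
    -- `c ^ 3 ∈ N`
    have h3 : c ^ 3 ∈ N := by
      have h4 : (QuotientGroup.mk' N) (n * c) = (QuotientGroup.mk' N) c := by
        rw [map_mul, show QuotientGroup.mk' N n = 1 from (QuotientGroup.eq_one_iff _).2 hn, one_mul]
      have h5 : (QuotientGroup.mk' N) (c ^ orderOf (n * c)) = 1 := by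
        rw [map_pow, ← h4, ← map_pow, pow_orderOf_eq_one, map_one]
      have h6 : c ^ orderOf (n * c) ∈ N := (QuotientGroup.eq_one_iff _).1 h5
      have h7 : c ^ 6 = 1 := congrArg Subtype.val (h.ker.six _ h2)
      obtain ⟨m, hm⟩ := hyodd
      have h8 : (c ^ orderOf (n * c)) ^ 3 = c ^ 3 := by
        rw [hm, ← pow_mul, show (2 * m + 1) * 3 = 6 * m + 3 by ring, pow_add, pow_mul, h7, one_pow, one_mul]
      rw [← h8]
      exact pow_mem h6 3
    have h4 : (⟨c, hcC⟩ : ↥(centralizer ({z} : Set D))) ^ 3 = 1 := by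
      have h5 : (⟨c, hcC⟩ : ↥(centralizer ({z} : Set D))) ^ 3 * (⟨c, hcC⟩ : ↥(centralizer ({z} : Set D))) ^ 3 = 1 := by
        rw [← pow_add]
        exact h.ker.six _ h2
      have h6 : φ ((⟨c, hcC⟩ : ↥(centralizer ({z} : Set D))) ^ 3) = 1 := by rw [map_pow, h2, one_pow]
      rcases h.ker.two _ h6 h5 with h7 | h7
      · exact h7
      · exfalso
        have h8 : c ^ 3 = z := congrArg Subtype.val h7
        have h9 := Subgroup.orderOf_dvd_natCard N h3
        rw [h8, h.ord] at h9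
        exact (Nat.not_even_iff_odd.2 hNo) (even_iff_two_dvd.2 h9)
    have h5 := mem_zpowers_of_ker h h9 hx₀ hc h2 h4
    rw [map_mul, (hq1 c).2 h5, mul_one]
    exact ⟨n, hn, rfl⟩
  by_cases hy1 : q y = 1
  · obtain ⟨i, hi⟩ := (hq1 y).1 hy1
    refine ⟨z, hz2, hz1, ?_⟩
    have hi' : x₀ ^ i = y := hi
    rw [← hi']
    exact hxc i z
  -- the Sylow 3-subgroup
  let S : Subgroup (D ⧸ zpowers x₀) :=
    { carrier := {v | v ∈ Nb ∧ ∃ k : ℕ, v ^ 3 ^ k = 1}
      one_mem' := ⟨one_mem _, 0, one_pow _⟩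
      mul_mem' := fun {a b} ha hb => ⟨mul_mem ha.1 hb.1, by
        obtain ⟨k, hk⟩ := ha.2
        obtain ⟨l, hl⟩ := hb.2
        refine ⟨k + l, ?_⟩
        rw [(show Commute a b from hNbc a ha.1 b hb.1).mul_pow, pow_add, pow_mul, hk, one_pow, one_mul, mul_comm (3 ^ k),
          pow_mul, hl, one_pow]⟩
      inv_mem' := fun {a} ha => ⟨inv_mem ha.1, by
        obtain ⟨k, hk⟩ := ha.2
        exact ⟨k, by rw [inv_pow, hk, inv_one]⟩⟩ }
  have hSle : S ≤ Nb := fun v hv => hv.1
  have hSp : IsPGroup 3 ↥S := fun v => by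
    obtain ⟨k, hk⟩ := v.2.2
    exact ⟨k, Subtype.ext hk⟩
  obtain ⟨b, hb⟩ := IsPGroup.iff_card.1 hSp
  have hb12 : b ≤ 12 := by
    by_contra hcon
    apply hD
    have h1 : 3 ^ 13 ∣ Nat.card ↥Nb := (pow_dvd_pow 3 (by omega)).trans (hb ▸ card_dvd_of_le hSle)
    -- the quotient
    have h2 : Nat.card X ∣ Nb.index := by
      let Fb : D ⧸ zpowers x₀ →* X := QuotientGroup.lift (zpowers x₀) F (by
        rintro _ ⟨i, rfl⟩
        show F (x₀ ^ i) = 1
        rw [map_zpow]
        have h3 : F x₀ = 1 := by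
          have h4 := hFφ ⟨x₀, mem_centralizer_singleton_iff.2 (hc z).symm⟩
          rw [map_center h hc] at h4
          exact h4
        rw [h3, one_zpow])
      have hFbs : Function.Surjective Fb := by
        intro x
        obtain ⟨d, rfl⟩ := hFs x
        exact ⟨q d, rfl⟩
      have h3 : Nb ≤ Fb.ker := by
        rintro _ ⟨n, hn, rfl⟩
        exact hNF hn
      have h4 : Fb.ker.index = Nat.card X := by
        rw [index_ker, MonoidHom.range_eq_top.2 hFbs, card_top]
      rw [← h4]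
      exact index_dvd_of_le h3
    rw [← hcardq, ← Nb.card_mul_index]
    have h5 : 3 ^ 7 ∣ Nb.index := by
      refine Dvd.dvd.trans ?_ h2
      rw [hXc]; norm_num
    have h6 := Nat.mul_dvd_mul (Nat.mul_dvd_mul h1 h5) (dvd_refl 3)
    have h7 : (3 : ℕ) ^ 21 = 3 ^ 13 * 3 ^ 7 * 3 := by norm_num
    rw [h7]
    exact h6
  have hScard : Nat.card ↥S ≤ 3 ^ 12 := by
    rw [hb]; exact Nat.pow_le_pow_right (by norm_num) hb12
  have hyS : q y ∈ S := by
    refine ⟨hyNb, ?_⟩
    -- `q y ^ (-2)` is a 3-element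
    have h1 : q (y⁻¹ * (z * y * z⁻¹)) = (q y)⁻¹ * (q y)⁻¹ := by
      rw [map_mul, map_inv, map_mul, map_mul, map_inv, hinv.1 _ hyNb]
    obtain ⟨k, hk⟩ := hP ⟨_, hyP z⟩
    have hk' : (y⁻¹ * (z * y * z⁻¹)) ^ 3 ^ k = 1 := congrArg Subtype.val hk
    have h2 : ((q y) ^ 2) ^ 3 ^ k = 1 := by
      have h3 : ((q y)⁻¹ * (q y)⁻¹) ^ 3 ^ k = 1 := by rw [← h1, ← map_pow, hk', map_one]
      have h4 : (q y)⁻¹ * (q y)⁻¹ = ((q y) ^ 2)⁻¹ := by rw [pow_two, mul_inv_rev]
      rw [h4, inv_pow, inv_eq_one] at h3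
      exact h3
    obtain ⟨m, hm⟩ := hyodd
    refine ⟨k, ?_⟩
    have h5 : q y = ((q y) ^ 2) ^ (m + 1) := by
      rw [← pow_mul, show 2 * (m + 1) = orderOf y + 1 by omega, pow_succ, ← map_pow, pow_orderOf_eq_one, map_one, one_mul]
    rw [h5, ← pow_mul, mul_comm (m + 1), pow_mul, h2, one_pow]
  have hSn : ∀ v ∈ S, ∀ g, g * v * g⁻¹ ∈ S := fun v hv g =>
    ⟨hNbn.conj_mem v hv.1 g, by
      obtain ⟨k, hk⟩ := hv.2
      exact ⟨k, by rw [conj_pow, hk, mul_one, mul_inv_cancel]⟩⟩
  -- the number of conjugates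
  have hconj : (centralizer ({q y} : Set (D ⧸ zpowers x₀))).index + 1 ≤ Nat.card ↥S := by
    rw [Cfsg.Agent.Blocks.ClassScalar.index_centralizer]
    let f : Option {x : D ⧸ zpowers x₀ // IsConj (q y) x} → ↥S := fun o =>
      match o with
      | none => 1
      | some x => ⟨x, by
          obtain ⟨g, hg⟩ := isConj_iff.1 x.2
          rw [← hg]
          exact hSn _ hyS g⟩
    have hne : ∀ x : {x : D ⧸ zpowers x₀ // IsConj (q y) x}, (x : D ⧸ zpowers x₀) ≠ 1 := by
      rintro ⟨x, hx⟩ h1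
      change x = 1 at h1
      rw [h1, isConj_one_left] at hx
      exact hy1 hx
    have hf : Function.Injective f := by
      rintro (_ | a) (_ | b) hab
      · rfl
      · exfalso
        exact hne b (congrArg Subtype.val hab).symm
      · exfalso
        exact hne a (congrArg Subtype.val hab)
      · congr 1
        exact Subtype.ext (congrArg (fun s : ↥S => (s : D ⧸ zpowers x₀)) hab)
    have h1 := Nat.card_le_card_of_injective f hf
    rwa [Finite.card_option] at h1
  -- the stabilizer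
  set T : Subgroup ↥(centralizer ({z} : Set D)) :=
    (centralizer ({q y} : Set (D ⧸ zpowers x₀))).comap (q.comp (centralizer ({z} : Set D)).subtype) with hT
  have hTi : T.index ≤ (centralizer ({q y} : Set (D ⧸ zpowers x₀))).index := by
    rw [hT, index_comap, ← relIndex_top_right (H := centralizer ({q y} : Set (D ⧸ zpowers x₀)))]
    exact relIndex_le_of_le_right le_top (by rw [relIndex_top_right]; exact index_ne_zero_of_finite)
  have hTmem : ∀ c : ↥(centralizer ({z} : Set D)), c ∈ T → q c * q y = q y * q c := fun c hc =>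
    mem_centralizer_singleton_iff.1 hc
  rcases Nat.even_or_odd (Nat.card ↥T) with hev | hodd
  · obtain ⟨s, hs⟩ := exists_prime_orderOf_dvd_card' (G := ↥T) 2 (even_iff_two_dvd.1 hev)
    have hs2 : s * s = 1 := by rw [← pow_two, ← hs, pow_orderOf_eq_one]
    have hs1 : s ≠ 1 := by
      intro h1
      rw [h1, orderOf_one] at hs
      exact absurd hs (by norm_num)
    have hss : (((s : ↥(centralizer ({z} : Set D))) : D)) * ((s : ↥(centralizer ({z} : Set D))) : D) = 1 :=
      congrArg (fun t : ↥T => ((t : ↥(centralizer ({z} : Set D))) : D)) hs2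
    exact ⟨_, hss, fun h1 => hs1 (Subtype.ext (Subtype.ext h1)), hlift _ hss y (hTmem _ s.2)⟩
  · exfalso
    let ψ : ↥T →* X := φ.comp T.subtype
    have hψ : Nat.card ↥T = Nat.card ↥ψ.range * Nat.card ↥ψ.ker := by
      rw [card_eq_card_quotient_mul_card_subgroup ψ.ker,
        Nat.card_congr (QuotientGroup.quotientKerEquivRange ψ).toEquiv]
    have hk : Nat.card ↥ψ.ker ≤ 3 := by
      have h1 : ∀ k : ↥ψ.ker, ((((k : ↥T) : ↥(centralizer ({z} : Set D))) : D)) ∈ zpowers x₀ := by
        intro k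
        have h2 : φ ((k : ↥T) : ↥(centralizer ({z} : Set D))) = 1 := k.2
        refine mem_zpowers_of_ker h h9 hx₀ hc h2 (cube_of_odd h h2 ?_)
        rw [Subgroup.orderOf_coe]
        exact hodd.of_dvd_nat (orderOf_dvd_natCard (k : ↥T))
      have h2 : Nat.card ↥ψ.ker ≤ Nat.card ↥(zpowers x₀) := by
        refine Nat.card_le_card_of_injective
          (fun k => (⟨((((k : ↥T) : ↥(centralizer ({z} : Set D))) : D)), h1 k⟩ : ↥(zpowers x₀))) ?_
        intro a b hab
        exact Subtype.ext (Subtype.ext (Subtype.ext (congrArg (fun t : ↥(zpowers x₀) => (t : D)) hab)))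
      rwa [Nat.card_zpowers, hx₀] at h2
    have hr : 33 * Nat.card ↥ψ.range ≤ 54729675 := by
      have h1 : Odd (Nat.card ↥ψ.range) := hodd.of_dvd_nat (by rw [hψ]; exact dvd_mul_right _ _)
      have h2 : Nat.card ↥(ψ.range.map e.toMonoidHom) = Nat.card ↥ψ.range := card_map_of_injective e.injective
      rw [← h2] at h1 ⊢
      exact SuzOdd.odd_bound h1
    have hC : Nat.card ↥(centralizer ({z} : Set D)) = 448345497600 * Nat.card ↥φ.ker := by
      rw [card_eq_card_quotient_mul_card_subgroup φ.ker,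
        Nat.card_congr (QuotientGroup.quotientKerEquivOfSurjective φ h.surj).toEquiv, hXc]
    have h6 : 6 ≤ Nat.card ↥φ.ker := by
      have h2 : 2 ∣ Nat.card ↥φ.ker := by
        have h3 : φ zA = 1 := by
          by_contra h4
          -- `φ z` is central
          have h5 : φ zA ∈ center X := by
            rw [mem_center_iff]
            intro x
            obtain ⟨c, rfl⟩ := h.surj x
            rw [← map_mul, ← map_mul]
            congr 1
            exact Subtype.ext (mem_centralizer_singleton_iff.1 c.2)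
          rcases (inferInstance : (center X).Normal).eq_bot_or_eq_top with h7 | h7
          · rw [h7, mem_bot] at h5
            exact h4 h5
          · refine not_solvable h (Group.isSolvable_of_comm fun a b => ?_)
            exact (mem_center_iff.1 (h7 ▸ mem_top b) a)
        let k : ↥φ.ker := ⟨zA, h3⟩
        have h4 := orderOf_dvd_natCard k
        have h5 : orderOf k = 2 := by
          rw [← Subgroup.orderOf_coe, ← Subgroup.orderOf_coe]
          exact h.ord
        rwa [h5] at h4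
      have h3 : 3 ∣ Nat.card ↥φ.ker := by
        let k : ↥φ.ker := ⟨⟨x₀, mem_centralizer_singleton_iff.2 (hc z).symm⟩, map_center h hc⟩
        have h4 := orderOf_dvd_natCard k
        have h5 : orderOf k = 3 := by
          rw [← Subgroup.orderOf_coe, ← Subgroup.orderOf_coe]
          exact hx₀
        rwa [h5] at h4
      have h4 : 0 < Nat.card ↥φ.ker := Nat.card_pos
      omega
    have hfin := T.card_mul_index
    rw [hC, hψ] at hfin
    have hi : T.index ≤ 531440 := by omega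
    have h7 : Nat.card ↥ψ.range * Nat.card ↥ψ.ker * T.index ≤ Nat.card ↥ψ.range * 3 * 531440 :=
      Nat.mul_le_mul (Nat.mul_le_mul_left _ hk) hi
    omega

end Cfsg.Agent.H472.MonOrb
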