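import Mathlib
import Cfsg.Prelude.Def_Transfer
import Cfsg.Agent.Lib.NilpotentCoprime
import Cfsg.Agent.S3889

/-!
Nilpotent minimal covers of a finite group with trivial centre and abelian Sylow `p`-subgroups
(for S3890 and S3891).
-/

set_option autoImplicit false

namespace Cfsg.Agent.H472.NilpCover

open scoped Pointwise
open Cfsg.Agent.Lib.NilpotentCoprime

variable {G : Type*} [Group G] [Finite G]

omit [Finite G] in
/-- In a minimal cover no two members lie in a common proper subgroup. -/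
theorem eq_of_le_of_le {𝓐 : Finset (Subgroup G)}
    (hprop : ∀ A ∈ 𝓐, A ≠ ⊤) (hcov : ∀ g : G, ∃ A ∈ 𝓐, g ∈ A)
    (hmin : ∀ 𝓑 : Finset (Subgroup G), (∀ A ∈ 𝓑, A ≠ ⊤) ∧ (∀ g : G, ∃ A ∈ 𝓑, g ∈ A) →
      𝓐.card ≤ 𝓑.card)
    {A B H : Subgroup G} (hA : A ∈ 𝓐) (hB : B ∈ 𝓐) (hAH : A ≤ H) (hBH : B ≤ H) (hH : H ≠ ⊤) :
    A = B := by
  classical
  by_contra hne
  have h := hmin (insert H ((𝓐.erase A).erase B)) ⟨?_, ?_⟩
  · have h1 : (insert H ((𝓐.erase A).erase B)).card ≤ ((𝓐.erase A).erase B).card + 1 :=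
      Finset.card_insert_le _ _
    have h2 : B ∈ 𝓐.erase A := Finset.mem_erase.2 ⟨Ne.symm hne, hB⟩
    have h3 := Finset.card_erase_add_one h2
    have h4 := Finset.card_erase_add_one hA
    omega
  · intro C hC
    rcases Finset.mem_insert.1 hC with rfl | hC
    · exact hH
    · exact hprop C (Finset.mem_of_mem_erase (Finset.mem_of_mem_erase hC))
  · intro g
    obtain ⟨C, hC, hgC⟩ := hcov g
    by_cases h1 : C = A
    · exact ⟨H, Finset.mem_insert_self _ _, hAH (h1 ▸ hgC)⟩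
    · by_cases h2 : C = B
      · exact ⟨H, Finset.mem_insert_self _ _, hBH (h2 ▸ hgC)⟩
      · exact ⟨C, Finset.mem_insert_of_mem (Finset.mem_erase.2 ⟨h2, Finset.mem_erase.2 ⟨h1, hC⟩⟩),
          hgC⟩

omit [Finite G] in
/-- If `g` commutes with `a ^ s` and `a ^ t`, `s`, `t` coprime, then with `a`. -/
theorem commute_of_pow_pow {g a : G} {s t : ℕ} (hst : s.Coprime t) (h1 : Commute g (a ^ s))
    (h2 : Commute g (a ^ t)) : Commute g a := by
  have h3 : a = (a ^ s) ^ (Nat.gcdA s t) * (a ^ t) ^ (Nat.gcdB s t) := by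
    rw [← zpow_natCast a s, ← zpow_natCast a t, ← zpow_mul, ← zpow_mul, ← zpow_add,
      ← Nat.gcd_eq_gcd_ab, Nat.coprime_iff_gcd_eq_one.1 hst]
    simp
  rw [h3]
  exact (h1.zpow_right _).mul_right (h2.zpow_right _)

omit [Finite G] in
/-- If a subgroup contains `a ^ s` and `a ^ t`, `s`, `t` coprime, then it contains `a`. -/
theorem mem_of_pow_pow {H : Subgroup G} {a : G} {s t : ℕ} (hst : s.Coprime t) (h1 : a ^ s ∈ H)
    (h2 : a ^ t ∈ H) : a ∈ H := by
  have h3 : a = (a ^ s) ^ (Nat.gcdA s t) * (a ^ t) ^ (Nat.gcdB s t) := by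
    rw [← zpow_natCast a s, ← zpow_natCast a t, ← zpow_mul, ← zpow_mul, ← zpow_add,
      ← Nat.gcd_eq_gcd_ab, Nat.coprime_iff_gcd_eq_one.1 hst]
    simp
  rw [h3]
  exact H.mul_mem (H.zpow_mem h1 _) (H.zpow_mem h2 _)

variable {p : ℕ} [Fact p.Prime]

omit [Finite G] [Fact p.Prime] in
theorem isPGroup_zpowers {x : G} {k : ℕ} (hx : x ^ p ^ k = 1) : IsPGroup p (Subgroup.zpowers x) := by
  intro ⟨y, hy⟩
  obtain ⟨i, rfl⟩ := hy
  refine ⟨k, Subtype.ext ?_⟩
  change (x ^ i) ^ p ^ k = 1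
  rw [← zpow_natCast (x ^ i), ← zpow_mul, mul_comm, zpow_mul, zpow_natCast, hx, one_zpow]

omit [Finite G] in
/-- A `p`-element normalizing a Sylow `p`-subgroup lies in it. -/
theorem mem_of_normalizer (P : Sylow p G) {x : G} {k : ℕ} (hx : x ^ p ^ k = 1)
    (hn : x ∈ Subgroup.normalizer ((P : Subgroup G) : Set G)) : x ∈ (P : Subgroup G) := by
  have h : Subgroup.zpowers x ⊓ Subgroup.normalizer ((P : Subgroup G) : Set G) =
      Subgroup.zpowers x ⊓ (P : Subgroup G) :=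
    IsPGroup.inf_normalizer_sylow (isPGroup_zpowers (p := p) hx) P
  have h1 : x ∈ Subgroup.zpowers x ⊓ Subgroup.normalizer ((P : Subgroup G) : Set G) :=
    ⟨Subgroup.mem_zpowers x, hn⟩
  rw [h] at h1
  exact h1.2

omit [Finite G] in
/-- A `p`-element centralizing a Sylow `p`-subgroup lies in it. -/
theorem mem_of_centralizer (P : Sylow p G) {x : G} {k : ℕ} (hx : x ^ p ^ k = 1)
    (hn : x ∈ Subgroup.centralizer ((P : Subgroup G) : Set G)) : x ∈ (P : Subgroup G) :=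
  mem_of_normalizer P hx (Subgroup.centralizer_le_normalizer _ hn)

/-- Two `p`-elements of a nilpotent subgroup commute if a Sylow `p`-subgroup of `G` is abelian. -/
theorem commute_of_nilpotent (P : Sylow p G) (hab : IsMulCommutative ↥(P : Subgroup G))
    {A : Subgroup G} (hA : Group.IsNilpotent ↥A) {x y : G} (hx : x ∈ A) (hy : y ∈ A) {k l : ℕ}
    (hxk : x ^ p ^ k = 1) (hyl : y ^ p ^ l = 1) : Commute x y := by
  obtain ⟨S⟩ : Nonempty (Sylow p ↥A) := inferInstance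
  have hSn : (S : Subgroup ↥A).Normal := by
    have := (Group.isNilpotent_of_finite_tfae (G := ↥A)).out 0 3
    exact this.1 hA p inferInstance S
  have hmem : ∀ z : ↥A, (∃ m : ℕ, z ^ p ^ m = 1) → z ∈ (S : Subgroup ↥A) := by
    rintro z ⟨m, hz⟩
    refine mem_of_normalizer S hz ?_
    rw [Subgroup.normalizer_eq_top]
    trivial
  have h1 := hmem ⟨x, hx⟩ ⟨k, Subtype.ext hxk⟩
  have h2 := hmem ⟨y, hy⟩ ⟨l, Subtype.ext hyl⟩
  have hS : IsPGroup p ((S : Subgroup ↥A).map A.subtype) := S.2.map _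
  obtain ⟨Q, hQ⟩ := hS.exists_le_sylow
  have hQab : ∀ a ∈ (Q : Subgroup G), ∀ b ∈ (Q : Subgroup G), a * b = b * a := by
    obtain ⟨g, rfl⟩ := MulAction.exists_smul_eq G P Q
    intro a ha b hb
    have ha' : g⁻¹ * a * g ∈ (P : Subgroup G) := by
      have := (Subgroup.mem_pointwise_smul_iff_inv_smul_mem (S := (P : Subgroup G)) (a := MulAut.conj g) (x := a)).1 ha
      simpa [MulAut.smul_def] using this
    have hb' : g⁻¹ * b * g ∈ (P : Subgroup G) := by
      have := (Subgroup.mem_pointwise_smul_iff_inv_smul_mem (S := (P : Subgroup G)) (a := MulAut.conj g) (x := b)).1 hb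
      simpa [MulAut.smul_def] using this
    have h3 : (g⁻¹ * a * g) * (g⁻¹ * b * g) = (g⁻¹ * b * g) * (g⁻¹ * a * g) :=
      setLike_mul_comm ha' hb'
    have h4 : g⁻¹ * (a * b) * g = g⁻¹ * (b * a) * g := by
      calc g⁻¹ * (a * b) * g = (g⁻¹ * a * g) * (g⁻¹ * b * g) := by group
        _ = (g⁻¹ * b * g) * (g⁻¹ * a * g) := h3
        _ = g⁻¹ * (b * a) * g := by group
    exact mul_left_cancel (mul_right_cancel h4)
  exact hQab x (hQ ⟨_, h1, rfl⟩) y (hQ ⟨_, h2, rfl⟩)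

/-- A nilpotent subgroup containing a `p`-element centralizes it, if the Sylow `p`-subgroups are abelian. -/
theorem le_centralizer_of_nilpotent (P : Sylow p G) (hab : IsMulCommutative ↥(P : Subgroup G))
    {A : Subgroup G} (hA : Group.IsNilpotent ↥A) {g : G} (hg : g ∈ A) {k : ℕ}
    (hgk : g ^ p ^ k = 1) : A ≤ Subgroup.centralizer ({g} : Set G) := by
  intro a ha
  have hp : p.Prime := Fact.out
  obtain ⟨l, m, hm', hml⟩ := Nat.exists_eq_pow_mul_and_not_dvd (orderOf_pos a).ne' p hp.ne_one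
  have hm : p.Coprime m := (Nat.Prime.coprime_iff_not_dvd hp).2 hm'
  have hc : Commute g a := by
    refine commute_of_pow_pow (hm.pow_left l) ?_ ?_
    · have h1 : Commute (⟨g, hg⟩ : ↥A) (⟨a ^ p ^ l, A.pow_mem ha _⟩ : ↥A) := by
        refine commute_of_pow_eq_one (m := p ^ k) (n := m) (hm.pow_left k) (Subtype.ext hgk)
          (Subtype.ext ?_)
        change (a ^ p ^ l) ^ m = 1
        rw [← pow_mul, ← hml, pow_orderOf_eq_one]
      exact congrArg Subtype.val h1.eq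
    · refine commute_of_nilpotent P hab hA hg (A.pow_mem ha m) hgk (l := l) ?_
      rw [← pow_mul, mul_comm, ← hml, pow_orderOf_eq_one]
  rw [Subgroup.mem_centralizer_singleton_iff]
  exact hc.eq.symm

section Sylow

/-- If a Sylow `p`-subgroup is not normal then no Sylow `p`-subgroup is trivial. -/
theorem ne_bot_of_not_normal (P : Sylow p G) (hnn : ¬ (P : Subgroup G).Normal) (Q : Sylow p G) :
    (Q : Subgroup G) ≠ ⊥ := by
  intro h
  have h1 := Sylow.card_eq_multiplicity P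
  have h2 := Sylow.card_eq_multiplicity Q
  rw [h, Subgroup.card_bot] at h2
  rw [← h2] at h1
  apply hnn
  rw [Subgroup.eq_bot_of_card_eq _ h1]
  infer_instance

theorem card_sylow_eq (P Q : Sylow p G) :
    Nat.card ↥(P : Subgroup G) = Nat.card ↥(Q : Subgroup G) := by
  have h1 := Sylow.card_eq_multiplicity P
  have h2 := Sylow.card_eq_multiplicity Q
  exact h1.trans h2.symm

theorem isMulCommutative_of_sylow (P : Sylow p G) (hab : IsMulCommutative ↥(P : Subgroup G))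
    (Q : Sylow p G) : IsMulCommutative ↥(Q : Subgroup G) := by
  let e : ↥(P : Subgroup G) ≃* ↥(Q : Subgroup G) := Sylow.equiv P Q
  refine ⟨⟨fun a b => ?_⟩⟩
  apply e.symm.injective
  rw [map_mul, map_mul]
  exact hab.is_comm.comm _ _

theorem isCyclic_of_sylow (P : Sylow p G) (hab : IsCyclic ↥(P : Subgroup G))
    (Q : Sylow p G) : IsCyclic ↥(Q : Subgroup G) := by
  let e : ↥(P : Subgroup G) ≃* ↥(Q : Subgroup G) := Sylow.equiv P Q
  exact isCyclic_of_surjective e.toMonoidHom e.surjective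

theorem isElementaryAbelian_of_sylow (P : Sylow p G)
    (hE : Cfsg.IsElementaryAbelian p (P : Subgroup G)) (Q : Sylow p G) :
    Cfsg.IsElementaryAbelian p (Q : Subgroup G) := by
  let e : ↥(Q : Subgroup G) ≃* ↥(P : Subgroup G) := Sylow.equiv Q P
  refine ⟨isMulCommutative_of_sylow P hE.1 Q, fun a ha => ?_⟩
  have h1 : e ⟨a, ha⟩ ^ p = 1 := Subtype.ext (hE.2 _ (e ⟨a, ha⟩).2)
  rw [← map_pow, map_eq_one_iff e e.injective] at h1
  exact congrArg Subtype.val h1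

theorem isCyclic_of_card_le (Q : Sylow p G) (h : Nat.card ↥(Q : Subgroup G) ≤ p) :
    IsCyclic ↥(Q : Subgroup G) := by
  obtain ⟨k, hk⟩ := IsPGroup.iff_card.1 Q.2
  rcases Nat.lt_or_ge k 1 with h0 | h1
  · have : k = 0 := by omega
    rw [this, pow_zero] at hk
    have : Subsingleton ↥(Q : Subgroup G) := (Nat.card_eq_one_iff_unique.1 hk).1
    infer_instance
  · have h2 : p ^ k ≤ p ^ 1 := by rw [pow_one, ← hk]; exact h
    have h3 : k ≤ 1 := (Nat.pow_le_pow_iff_right (Fact.out : p.Prime).one_lt).1 h2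
    have h4 : k = 1 := le_antisymm h3 h1
    rw [h4, pow_one] at hk
    exact isCyclic_of_prime_card hk

theorem not_dvd_index_subgroupOf (P : Sylow p G) {A : Subgroup G} (hPA : (P : Subgroup G) ≤ A) :
    ¬ p ∣ ((P : Subgroup G).subgroupOf A).index := by
  intro h
  have h1 : ((P : Subgroup G).subgroupOf A).index = (P : Subgroup G).relIndex A := rfl
  rw [h1] at h
  exact P.not_dvd_index (h.trans (Subgroup.relIndex_dvd_index_of_le hPA))

omit [Finite G] [Fact p.Prime] in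
theorem exists_le_of_isCyclic {𝓐 : Finset (Subgroup G)} (hcov : ∀ g : G, ∃ A ∈ 𝓐, g ∈ A)
    (Q : Sylow p G) (hc : IsCyclic ↥(Q : Subgroup G)) : ∃ A ∈ 𝓐, (Q : Subgroup G) ≤ A := by
  obtain ⟨⟨g, hg⟩, hgen⟩ := hc.exists_generator
  obtain ⟨A, hA, hgA⟩ := hcov g
  refine ⟨A, hA, fun x hx => ?_⟩
  obtain ⟨i, hi⟩ := hgen ⟨x, hx⟩
  have : g ^ i = x := congrArg Subtype.val hi
  rw [← this]
  exact A.zpow_mem hgA i

end Sylow

section Main

variable {𝓐 : Finset (Subgroup G)}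

/-- In a nilpotent minimal cover of a group with trivial centre, a nontrivial `p`-element lies in
exactly one member, if the Sylow `p`-subgroups are abelian. -/
theorem eq_of_mem_mem (hZ : Subgroup.center G = ⊥)
    (hprop : ∀ A ∈ 𝓐, A ≠ ⊤) (hcov : ∀ g : G, ∃ A ∈ 𝓐, g ∈ A)
    (hmin : ∀ 𝓑 : Finset (Subgroup G), (∀ A ∈ 𝓑, A ≠ ⊤) ∧ (∀ g : G, ∃ A ∈ 𝓑, g ∈ A) →
      𝓐.card ≤ 𝓑.card) (hnil : ∀ A ∈ 𝓐, Group.IsNilpotent ↥A)
    (P : Sylow p G) (hab : IsMulCommutative ↥(P : Subgroup G))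
    {g : G} {k : ℕ} (hgk : g ^ p ^ k = 1) (hg1 : g ≠ 1) {A B : Subgroup G}
    (hA : A ∈ 𝓐) (hB : B ∈ 𝓐) (hgA : g ∈ A) (hgB : g ∈ B) : A = B := by
  refine eq_of_le_of_le hprop hcov hmin hA hB
    (le_centralizer_of_nilpotent P hab (hnil A hA) hgA hgk)
    (le_centralizer_of_nilpotent P hab (hnil B hB) hgB hgk) ?_
  intro h
  apply hg1
  have : g ∈ Subgroup.center G := by
    rw [Subgroup.mem_center_iff]
    intro x
    have hx : x ∈ Subgroup.centralizer ({g} : Set G) := h ▸ Subgroup.mem_top x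
    exact (Subgroup.mem_centralizer_singleton_iff.1 hx)
  rw [hZ] at this
  exact Subgroup.mem_bot.1 this

/-- Every abelian Sylow `p`-subgroup is contained in a member of the cover, or elementary abelian. -/
theorem exists_le_or_elementary (hZ : Subgroup.center G = ⊥)
    (hprop : ∀ A ∈ 𝓐, A ≠ ⊤) (hcov : ∀ g : G, ∃ A ∈ 𝓐, g ∈ A)
    (hmin : ∀ 𝓑 : Finset (Subgroup G), (∀ A ∈ 𝓑, A ≠ ⊤) ∧ (∀ g : G, ∃ A ∈ 𝓑, g ∈ A) →
      𝓐.card ≤ 𝓑.card) (hnil : ∀ A ∈ 𝓐, Group.IsNilpotent ↥A)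
    (P : Sylow p G) (hab : IsMulCommutative ↥(P : Subgroup G)) :
    (∃ A ∈ 𝓐, (P : Subgroup G) ≤ A) ∨ Cfsg.IsElementaryAbelian p (P : Subgroup G) := by
  classical
  by_cases hex : ∃ A ∈ 𝓐, (P : Subgroup G) ≤ A
  · exact Or.inl hex
  right
  push Not at hex
  letI : CommGroup ↥(P : Subgroup G) :=
    { (inferInstance : Group ↥(P : Subgroup G)) with
      mul_comm := fun a b => Subtype.ext (setLike_mul_comm a.2 b.2) }
  have hpe : (Monoid.exponent ↥(P : Subgroup G)).Prime := by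
    refine Cfsg.Agent.S3889.result (G := ↥(P : Subgroup G))
      ((fun A : Subgroup G => A.subgroupOf (P : Subgroup G)) '' (𝓐 : Set (Subgroup G))) ?_ ?_ ?_
    · rintro _ ⟨A, hA, rfl⟩ h
      exact hex A hA (Subgroup.subgroupOf_eq_top.1 h)
    · intro g
      obtain ⟨A, hA, hgA⟩ := hcov (g : G)
      exact ⟨_, ⟨A, hA, rfl⟩, Subgroup.mem_subgroupOf.2 hgA⟩
    · rintro _ ⟨A, hA, rfl⟩ _ ⟨B, hB, rfl⟩ hne
      rw [Subgroup.eq_bot_iff_forall]
      intro x hx
      by_contra hx1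
      have hxA : (x : G) ∈ A := Subgroup.mem_subgroupOf.1 hx.1
      have hxB : (x : G) ∈ B := Subgroup.mem_subgroupOf.1 hx.2
      obtain ⟨k, hk⟩ := P.2 x
      have hk' : (x : G) ^ p ^ k = 1 := congrArg Subtype.val hk
      have hx1' : (x : G) ≠ 1 := fun h => hx1 (Subtype.ext h)
      exact hne (by rw [eq_of_mem_mem hZ hprop hcov hmin hnil P hab hk' hx1' hA hB hxA hxB])
  refine ⟨hab, fun a ha => ?_⟩
  obtain ⟨k, hk⟩ := P.2 (⟨a, ha⟩ : ↥(P : Subgroup G))
  by_cases ha1 : a = 1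
  · rw [ha1, one_pow]
  have h1 : orderOf a ∣ p ^ k := orderOf_dvd_of_pow_eq_one (congrArg Subtype.val hk)
  have h2 : orderOf a ∣ Monoid.exponent ↥(P : Subgroup G) := by
    have := Monoid.order_dvd_exponent (⟨a, ha⟩ : ↥(P : Subgroup G))
    rwa [Subgroup.orderOf_mk] at this
  rcases (Nat.dvd_prime hpe).1 h2 with h3 | h3
  · exact absurd (orderOf_eq_one_iff.1 h3) ha1
  · rw [h3] at h1
    have h4 := (Nat.prime_dvd_prime_iff_eq hpe Fact.out).1 (hpe.dvd_of_dvd_pow h1)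
    rw [h4] at h3
    exact orderOf_dvd_iff_pow_eq_one.1 (h3 ▸ dvd_refl _)

/-- If a nontrivial abelian Sylow `p`-subgroup `P` lies in the member `A`, then `C_G(P) = A`. -/
theorem centralizer_eq (hZ : Subgroup.center G = ⊥)
    (hprop : ∀ A ∈ 𝓐, A ≠ ⊤) (hcov : ∀ g : G, ∃ A ∈ 𝓐, g ∈ A)
    (hmin : ∀ 𝓑 : Finset (Subgroup G), (∀ A ∈ 𝓑, A ≠ ⊤) ∧ (∀ g : G, ∃ A ∈ 𝓑, g ∈ A) →
      𝓐.card ≤ 𝓑.card) (hnil : ∀ A ∈ 𝓐, Group.IsNilpotent ↥A)
    (P : Sylow p G) (hab : IsMulCommutative ↥(P : Subgroup G)) (hP1 : (P : Subgroup G) ≠ ⊥)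
    {A : Subgroup G} (hA : A ∈ 𝓐) (hPA : (P : Subgroup G) ≤ A) :
    Subgroup.centralizer ((P : Subgroup G) : Set G) = A := by
  have hp : p.Prime := Fact.out
  obtain ⟨g, hgP, hg1⟩ := (Subgroup.ne_bot_iff_exists_ne_one (H := (P : Subgroup G))).1 hP1 |>.elim
    (fun a ha => (⟨a.1, a.2, fun h => ha (Subtype.ext h)⟩ : ∃ g : G, g ∈ (P : Subgroup G) ∧ g ≠ 1))
  apply le_antisymm
  · intro y hy
    obtain ⟨l, m, hm', hml⟩ := Nat.exists_eq_pow_mul_and_not_dvd (orderOf_pos y).ne' p hp.ne_one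
    have hm : p.Coprime m := (Nat.Prime.coprime_iff_not_dvd hp).2 hm'
    have hym : (y ^ m) ^ p ^ l = 1 := by rw [← pow_mul, mul_comm, ← hml, pow_orderOf_eq_one]
    have hyp : (y ^ p ^ l) ^ m = 1 := by rw [← pow_mul, ← hml, pow_orderOf_eq_one]
    refine mem_of_pow_pow (hm.pow_left l) ?_ ?_
    · -- `y ^ p ^ l` is a `p'`-element commuting with `g`
      obtain ⟨B, hB, hgB⟩ := hcov (g * y ^ p ^ l)
      have hcomm : Commute g (y ^ p ^ l) :=
        ((Subgroup.mem_centralizer_iff.1 (Subgroup.pow_mem _ hy (p ^ l))) g hgP)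
      obtain ⟨k, hk⟩ := P.2 (⟨g, hgP⟩ : ↥(P : Subgroup G))
      have hk' : g ^ p ^ k = 1 := congrArg Subtype.val hk
      have h1 : g ∈ B := by
        refine mem_of_pow_pow (hm.pow_left k) (a := g) ?_ ?_
        · rw [hk']; exact B.one_mem
        · have h2 : (g * y ^ p ^ l) ^ m = g ^ m := by rw [hcomm.mul_pow, hyp, mul_one]
          rw [← h2]; exact B.pow_mem hgB m
      have h3 : A = B := eq_of_mem_mem hZ hprop hcov hmin hnil P hab hk' hg1 hA hB (hPA hgP) h1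
      rw [h3]
      exact (Subgroup.mul_mem_cancel_left B h1).1 hgB
    · exact hPA (mem_of_centralizer P hym (Subgroup.pow_mem _ hy m))
  · intro a ha
    rw [Subgroup.mem_centralizer_iff]
    intro x hx
    obtain ⟨k, hk⟩ := P.2 (⟨x, hx⟩ : ↥(P : Subgroup G))
    have hk' : x ^ p ^ k = 1 := congrArg Subtype.val hk
    have := le_centralizer_of_nilpotent P hab (hnil A hA) (hPA hx) hk' ha
    exact (Subgroup.mem_centralizer_singleton_iff.1 this).symm

/-- If every Sylow `p`-subgroup lies in a member of the cover, then every proper subgroup containing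
`C_G(P)` lies in `N_G(P)`. -/
theorem le_normalizer_of_centralizer_le (hZ : Subgroup.center G = ⊥)
    (hprop : ∀ A ∈ 𝓐, A ≠ ⊤) (hcov : ∀ g : G, ∃ A ∈ 𝓐, g ∈ A)
    (hmin : ∀ 𝓑 : Finset (Subgroup G), (∀ A ∈ 𝓑, A ≠ ⊤) ∧ (∀ g : G, ∃ A ∈ 𝓑, g ∈ A) →
      𝓐.card ≤ 𝓑.card) (hnil : ∀ A ∈ 𝓐, Group.IsNilpotent ↥A)
    (hab : ∀ P : Sylow p G, IsMulCommutative ↥(P : Subgroup G))
    (hP1 : ∀ P : Sylow p G, (P : Subgroup G) ≠ ⊥)
    (hex : ∀ P : Sylow p G, ∃ A ∈ 𝓐, (P : Subgroup G) ≤ A) (P : Sylow p G) {M : Subgroup G}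
    (hM : M ≠ ⊤) (hCM : Subgroup.centralizer ((P : Subgroup G) : Set G) ≤ M) :
    M ≤ Subgroup.normalizer ((P : Subgroup G) : Set G) := by
  intro m hm
  obtain ⟨A, hA, hPA⟩ := hex P
  obtain ⟨B, hB, hPB⟩ := hex (m • P)
  have hCA := centralizer_eq hZ hprop hcov hmin hnil P (hab P) (hP1 P) hA hPA
  have hCB := centralizer_eq hZ hprop hcov hmin hnil (m • P) (hab _) (hP1 _) hB hPB
  have hBM : B ≤ M := by
    rw [← hCB]
    intro y hy
    have h1 : m⁻¹ * y * m ∈ Subgroup.centralizer ((P : Subgroup G) : Set G) := by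
      rw [Subgroup.mem_centralizer_iff]
      intro x hx
      have h2 : m * x * m⁻¹ ∈ ((m • P : Sylow p G) : Subgroup G) := by
        have : MulAut.conj m • x ∈ (MulAut.conj m • (P : Subgroup G)) :=
          Subgroup.smul_mem_pointwise_smul _ _ _ hx
        exact this
      have h3 := (Subgroup.mem_centralizer_iff.1 hy) _ h2
      have h4 : m⁻¹ * (m * x * m⁻¹ * y) * m = m⁻¹ * (y * (m * x * m⁻¹)) * m := by rw [h3]
      calc x * (m⁻¹ * y * m) = m⁻¹ * (m * x * m⁻¹ * y) * m := by group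
        _ = m⁻¹ * (y * (m * x * m⁻¹)) * m := h4
        _ = m⁻¹ * y * m * x := by group
    have h5 := hCM h1
    have h6 := M.mul_mem (M.mul_mem hm h5) (M.inv_mem hm)
    have h7 : m * (m⁻¹ * y * m) * m⁻¹ = y := by group
    rwa [h7] at h6
  have hAB : A = B := eq_of_le_of_le hprop hcov hmin hA hB (hCA ▸ hCM) hBM hM
  -- `P` centralizes `m • P`
  have h1 : (P : Subgroup G) ≤ ((m • P : Sylow p G) : Subgroup G) := by
    intro x hx
    obtain ⟨k, hk⟩ := P.2 (⟨x, hx⟩ : ↥(P : Subgroup G))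
    have hk' : x ^ p ^ k = 1 := congrArg Subtype.val hk
    refine mem_of_centralizer (m • P) hk' ?_
    rw [hCB, ← hAB]
    exact hPA hx
  have h2 : P = m • P := by
    refine Sylow.ext ?_
    exact ((P.3 (m • P).2 h1)).symm
  have h3 : MulAut.conj m • (P : Subgroup G) = (P : Subgroup G) := congrArg (fun Q : Sylow p G => (Q : Subgroup G)) h2.symm
  refine Subgroup.mem_normalizer_fintype fun x hx => ?_
  have h4 : MulAut.conj m • x ∈ (MulAut.conj m • (P : Subgroup G)) :=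
    Subgroup.smul_mem_pointwise_smul _ _ _ hx
  rw [h3] at h4
  exact h4

/-- `N_G(P)` is a maximal subgroup. -/
theorem isCoatom_normalizer (hZ : Subgroup.center G = ⊥)
    (hprop : ∀ A ∈ 𝓐, A ≠ ⊤) (hcov : ∀ g : G, ∃ A ∈ 𝓐, g ∈ A)
    (hmin : ∀ 𝓑 : Finset (Subgroup G), (∀ A ∈ 𝓑, A ≠ ⊤) ∧ (∀ g : G, ∃ A ∈ 𝓑, g ∈ A) →
      𝓐.card ≤ 𝓑.card) (hnil : ∀ A ∈ 𝓐, Group.IsNilpotent ↥A)
    (hab : ∀ P : Sylow p G, IsMulCommutative ↥(P : Subgroup G))
    (hP1 : ∀ P : Sylow p G, (P : Subgroup G) ≠ ⊥)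
    (hex : ∀ P : Sylow p G, ∃ A ∈ 𝓐, (P : Subgroup G) ≤ A) (P : Sylow p G)
    (hnn : ¬ (P : Subgroup G).Normal) :
    IsCoatom (Subgroup.normalizer ((P : Subgroup G) : Set G)) := by
  constructor
  · intro h
    exact hnn (Subgroup.normalizer_eq_top_iff.1 h)
  · intro M hM
    by_contra hMt
    have := le_normalizer_of_centralizer_le hZ hprop hcov hmin hnil hab hP1 hex P hMt
      ((Subgroup.centralizer_le_normalizer _).trans hM.le)
    exact absurd this (not_le_of_gt hM)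

/-- `N_G(P)` is strongly embedded-like: it meets its other conjugates in `p'`-subgroups. -/
theorem not_dvd_card_inf (hZ : Subgroup.center G = ⊥)
    (hprop : ∀ A ∈ 𝓐, A ≠ ⊤) (hcov : ∀ g : G, ∃ A ∈ 𝓐, g ∈ A)
    (hmin : ∀ 𝓑 : Finset (Subgroup G), (∀ A ∈ 𝓑, A ≠ ⊤) ∧ (∀ g : G, ∃ A ∈ 𝓑, g ∈ A) →
      𝓐.card ≤ 𝓑.card) (hnil : ∀ A ∈ 𝓐, Group.IsNilpotent ↥A)
    (hab : ∀ P : Sylow p G, IsMulCommutative ↥(P : Subgroup G))
    (hP1 : ∀ P : Sylow p G, (P : Subgroup G) ≠ ⊥)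
    (hex : ∀ P : Sylow p G, ∃ A ∈ 𝓐, (P : Subgroup G) ≤ A) (P : Sylow p G)
    {g : G} (hg : g ∉ Subgroup.normalizer ((P : Subgroup G) : Set G)) :
    ¬ p ∣ Nat.card ↥(Subgroup.normalizer ((P : Subgroup G) : Set G) ⊓
          (Subgroup.normalizer ((P : Subgroup G) : Set G)).map (MulAut.conj g).toMonoidHom) := by
  intro hdvd
  obtain ⟨⟨x, hx⟩, hxo⟩ := exists_prime_orderOf_dvd_card' p hdvd
  rw [Subgroup.orderOf_mk] at hxo
  have hxp : x ^ p ^ 1 = 1 := by rw [pow_one, ← hxo, pow_orderOf_eq_one]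
  have hx1 : x ≠ 1 := by
    rintro rfl
    rw [orderOf_one] at hxo
    exact (Fact.out : p.Prime).one_lt.ne hxo
  have hxP : x ∈ (P : Subgroup G) := mem_of_normalizer P hxp hx.1
  obtain ⟨y, hy, hyx⟩ := hx.2
  have hyx' : g * y * g⁻¹ = x := by simpa using hyx
  have hyp : y ^ p ^ 1 = 1 := by
    have : y = g⁻¹ * x * g := by rw [← hyx']; group
    rw [this]
    have h2 : (g⁻¹ * x * g) ^ p ^ 1 = g⁻¹ * x ^ p ^ 1 * g := by
      have := conj_pow (a := g⁻¹) (b := x) (i := p ^ 1)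
      simpa using this
    rw [h2, hxp]; group
  have hyP : y ∈ (P : Subgroup G) := mem_of_normalizer P hyp hy
  -- the centralizer of `x`
  have hC : Subgroup.centralizer ({x} : Set G) ≠ ⊤ := by
    intro h
    apply hx1
    have : x ∈ Subgroup.center G := by
      rw [Subgroup.mem_center_iff]
      intro z
      have hz : z ∈ Subgroup.centralizer ({x} : Set G) := h ▸ Subgroup.mem_top z
      exact (Subgroup.mem_centralizer_singleton_iff.1 hz)
    rw [hZ] at this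
    exact Subgroup.mem_bot.1 this
  have hle : Subgroup.centralizer ({x} : Set G) ≤ Subgroup.normalizer ((P : Subgroup G) : Set G) := by
    refine le_normalizer_of_centralizer_le hZ hprop hcov hmin hnil hab hP1 hex P hC ?_
    exact Subgroup.centralizer_le (Set.singleton_subset_iff.2 hxP)
  -- `g P g⁻¹` centralizes `x`, so it normalizes `P`
  apply hg
  refine Subgroup.mem_normalizer_fintype fun n hn => ?_
  obtain ⟨k, hk⟩ := P.2 (⟨n, hn⟩ : ↥(P : Subgroup G))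
  have hk' : n ^ p ^ k = 1 := congrArg Subtype.val hk
  have hk'' : (g * n * g⁻¹) ^ p ^ k = 1 := by rw [conj_pow, hk']; group
  refine mem_of_normalizer P hk'' (hle ?_)
  rw [Subgroup.mem_centralizer_singleton_iff]
  have hny : n * y = y * n := by
    haveI := hab P
    exact setLike_mul_comm hn hyP
  rw [← hyx']
  calc g * n * g⁻¹ * (g * y * g⁻¹) = g * (n * y) * g⁻¹ := by group
    _ = g * (y * n) * g⁻¹ := by rw [hny]
    _ = g * y * g⁻¹ * (g * n * g⁻¹) := by group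

end Main

end Cfsg.Agent.H472.NilpCover
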